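import Cfsg.Agent.M12Nse.Orders
import Cfsg.Agent.SmallSimple.Basic
import Mathlib.GroupTheory.Transfer

/-!
# Groups with the order and the numbers of elements of `M₂₂`: the large primes
-/

set_option autoImplicit false
set_option linter.style.haveILetI false
set_option linter.unusedSectionVars false

namespace CfsgLib.M22Id

open Subgroup CfsgLib.M11Nse CfsgLib.M12Nse

variable {G : Type*} [Group G] [Finite G]

/-- A group of order 443520 with the numbers of Sylow subgroups of `M₂₂` for the primes from five on. -/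
structure Base (G : Type*) [Group G] : Prop where
  card : Nat.card G = 443520
  five : (∀ [Fact (Nat.Prime 5)], Nat.card (Sylow 5 G) = 22176) ∧ cnt G 5 = 88704
  seven : (∀ [Fact (Nat.Prime 7)], Nat.card (Sylow 7 G) = 21120) ∧ cnt G 7 = 126720
  eleven : (∀ [Fact (Nat.Prime 11)], Nat.card (Sylow 11 G) = 8064) ∧ cnt G 11 = 80640

/-- A group of order 443520 with those counts of `M₂₂` that determine it. -/
structure Counts (G : Type*) [Group G] : Prop extends Base G where
  cz_five : ∀ {x : G}, orderOf x = 5 → Nat.card (cz x) = 5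
  two : cnt G 2 = 1155
  three : cnt G 3 = 12320
  nine_val : cnt G 9 ≠ 0 → cnt G 9 = 36960 ∨ cnt G 9 = 41580 ∨ cnt G 9 = 55440
  six_val : cnt G 6 ≠ 0 → cnt G 6 = 36960 ∨ cnt G 6 = 41580 ∨ cnt G 6 = 55440

theorem sum_cnt (S : Finset ℕ) : ∑ n ∈ S, cnt G n ≤ Nat.card G := by
  classical
  haveI := Fintype.ofFinite G
  rw [Nat.card_eq_fintype_card, ← Finset.card_univ]
  have : ∀ n, cnt G n = ((Finset.univ : Finset G).filter fun g => orderOf g = n).card := fun n => by
    rw [cnt, Nat.card_eq_fintype_card, Fintype.card_subtype]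
  simp only [this]
  rw [← Finset.card_biUnion]
  · exact Finset.card_le_card (Finset.subset_univ _)
  · intro a _ b _ hab
    exact Finset.disjoint_left.2 fun g hg hg' =>
      hab ((Finset.mem_filter.1 hg).2.symm.trans (Finset.mem_filter.1 hg').2)

theorem cnt_pos {n : ℕ} {g : G} (h : orderOf g = n) : 0 < cnt G n :=
  Nat.card_pos_iff.2 ⟨⟨⟨g, h⟩⟩, inferInstance⟩

/-- With a complement and Frattini's argument the index divides a Sylow normaliser. -/
theorem dvd_normalizer_of_complement {p : ℕ} [hp : Fact p.Prime] (P : Sylow p G)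
    (hP : normalizer ((P : Subgroup G) : Set G) ≤ centralizer ((P : Subgroup G) : Set G))
    {r : ℕ} [hr : Fact r.Prime] (hpr : p ≠ r) :
    ∃ R : Sylow r G, Nat.card (P : Subgroup G) ∣ Nat.card (normalizer ((R : Subgroup G) : Set G)) := by
  have hK := MonoidHom.ker_transferSylow_isComplement' P hP
  set K := (MonoidHom.transferSylow P hP).ker
  have hidx : K.index = Nat.card (P : Subgroup G) := hK.symm.index_eq_card
  obtain ⟨R₀⟩ : Nonempty (Sylow r K) := inferInstance
  have hcard : Nat.card ((R₀ : Subgroup K).map K.subtype) = r ^ (Nat.card G).factorization r := by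
    rw [card_map_of_injective K.subtype_injective, R₀.card_eq_multiplicity, ← K.card_mul_index,
      Nat.factorization_mul Nat.card_pos.ne' (FiniteIndex.index_ne_zero), Finsupp.add_apply, hidx]
    obtain ⟨k, hk⟩ := IsPGroup.iff_card.1 P.isPGroup'
    rw [hk, hp.out.factorization_pow, Finsupp.single_apply, if_neg hpr, add_zero]
  refine ⟨Sylow.ofCard _ hcard, ?_⟩
  have htop := Sylow.normalizer_sup_eq_top R₀
  rw [← hidx, ← relIndex_top_right, ← htop, relIndex_sup_right]
  exact relIndex_dvd_card _ _

namespace Base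

variable (H : Base G)
include H

theorem sylow_card {p : ℕ} [Fact p.Prime] (P : Sylow p G) {k m : ℕ} (h : 443520 = p ^ k * m) (hm : ¬ p ∣ m) :
    Nat.card (P : Subgroup G) = p ^ k :=
  CfsgLib.SmallSimple.card_sylow_eq P (H.card.trans h) hm

theorem normalizer_card {p : ℕ} [Fact p.Prime] (P : Sylow p G) :
    Nat.card (Sylow p G) * Nat.card (normalizer ((P : Subgroup G) : Set G)) = 443520 :=
  (CfsgLib.SmallSimple.card_sylow_mul P).trans H.card

theorem normalizer_five [Fact (Nat.Prime 5)] (P : Sylow 5 G) :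
    Nat.card (normalizer ((P : Subgroup G) : Set G)) = 20 := by
  have := H.normalizer_card P
  rw [H.five.1] at this
  omega

theorem normalizer_seven [Fact (Nat.Prime 7)] (P : Sylow 7 G) :
    Nat.card (normalizer ((P : Subgroup G) : Set G)) = 21 := by
  have := H.normalizer_card P
  rw [H.seven.1] at this
  omega

theorem normalizer_eleven [Fact (Nat.Prime 11)] (P : Sylow 11 G) :
    Nat.card (normalizer ((P : Subgroup G) : Set G)) = 55 := by
  have := H.normalizer_card P
  rw [H.eleven.1] at this
  omega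

/-- The centraliser of an element of large prime order lies in a Sylow normaliser and is not all of it. -/
theorem cz_prime {p n N : ℕ} [hp : Fact p.Prime] (h : 443520 = p * n) (hn : ¬ p ∣ n)
    (hN : ∀ P : Sylow p G, Nat.card (normalizer ((P : Subgroup G) : Set G)) = N)
    {r : ℕ} [Fact r.Prime] (hpr : p ≠ r)
    (hr : ∀ R : Sylow r G, ¬ p ∣ Nat.card (normalizer ((R : Subgroup G) : Set G))) {x : G} (hx : orderOf x = p) :
    p ∣ Nat.card (cz x) ∧ Nat.card (cz x) ∣ N ∧ Nat.card (cz x) ≠ N := by
  have hc : Nat.card (zpowers x) = p := by rw [Nat.card_zpowers, hx]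
  have hfac : (Nat.card G).factorization p = 1 := by
    rw [H.card, h, Nat.factorization_mul hp.out.ne_zero (fun e => hn (by rw [e]; exact dvd_zero p)), Finsupp.add_apply,
      hp.out.factorization_self, Nat.factorization_eq_zero_of_not_dvd hn]
  let P : Sylow p G := Sylow.ofCard (zpowers x) (by rw [hc, hfac, pow_one])
  have hle : cz x = centralizer ((P : Subgroup G) : Set G) := by
    rw [show (P : Subgroup G) = zpowers x from rfl, zpowers_eq_closure, centralizer_closure]
  have hCN : cz x ≤ normalizer ((P : Subgroup G) : Set G) := hle ▸ centralizer_le_normalizer _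
  refine ⟨hc ▸ card_dvd_of_le (zpowers_le.2 (self_mem_cz x)), hN P ▸ card_dvd_of_le hCN, fun e => ?_⟩
  have heq : normalizer ((P : Subgroup G) : Set G) = cz x :=
    (eq_of_le_of_card_ge hCN (by rw [hN P, e])).symm
  obtain ⟨R, hR⟩ := dvd_normalizer_of_complement P (by rw [heq, hle]) hpr
  exact hr R ((show p ∣ Nat.card (P : Subgroup G) by
    rw [show (P : Subgroup G) = zpowers x from rfl, hc]).trans hR)

theorem cz_eleven {x : G} (hx : orderOf x = 11) : Nat.card (cz x) = 11 := by
  haveI : Fact (Nat.Prime 11) := ⟨by norm_num⟩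
  haveI : Fact (Nat.Prime 7) := ⟨by norm_num⟩
  obtain ⟨⟨c, hc⟩, h2, h3⟩ := H.cz_prime (p := 11) (n := 40320) (r := 7) rfl (by norm_num)
    H.normalizer_eleven (by norm_num) (fun R => by rw [H.normalizer_seven R]; norm_num) hx
  rw [hc] at h2 h3 ⊢
  rcases (Nat.dvd_prime (by norm_num : Nat.Prime 5)).1
    (Nat.dvd_of_mul_dvd_mul_left (by norm_num) (show 11 * c ∣ 11 * 5 from h2)) with rfl | rfl
  · rfl
  · exact absurd rfl h3

theorem cz_seven {x : G} (hx : orderOf x = 7) : Nat.card (cz x) = 7 := by
  haveI : Fact (Nat.Prime 11) := ⟨by norm_num⟩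
  haveI : Fact (Nat.Prime 7) := ⟨by norm_num⟩
  obtain ⟨⟨c, hc⟩, h2, h3⟩ := H.cz_prime (p := 7) (n := 63360) (r := 11) rfl (by norm_num)
    H.normalizer_seven (by norm_num) (fun R => by rw [H.normalizer_eleven R]; norm_num) hx
  rw [hc] at h2 h3 ⊢
  rcases (Nat.dvd_prime (by norm_num : Nat.Prime 3)).1
    (Nat.dvd_of_mul_dvd_mul_left (by norm_num) (show 7 * c ∣ 7 * 3 from h2)) with rfl | rfl
  · rfl
  · exact absurd rfl h3

end Base

namespace Counts

variable (H : Counts G)
include H

/-- A prime from five on divides no centraliser of an element of other order. -/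
theorem not_dvd_cz {x : G} {r : ℕ} (hr : r = 5 ∨ r = 7 ∨ r = 11) (hx : ¬ orderOf x ∣ r) :
    ¬ r ∣ Nat.card (cz x) := fun h => by
  haveI : Fact r.Prime := ⟨by rcases hr with rfl | rfl | rfl <;> norm_num⟩
  obtain ⟨y, hy⟩ := exists_prime_orderOf_dvd_card' (G := cz x) r h
  have hy' : orderOf (y : G) = r := by rw [Subgroup.orderOf_coe, hy]
  have hc : Nat.card (cz (y : G)) = r := by
    rcases hr with rfl | rfl | rfl
    exacts [H.cz_five hy', H.cz_seven hy', H.cz_eleven hy']
  exact hx (hc ▸ Subgroup.orderOf_dvd_natCard _ (mem_cz.2 (mem_cz.1 y.2).symm))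

/-- The centraliser of an element of order `2` or `3` is a `{2, 3}`-group. -/
theorem cz_dvd {x : G} (hx : orderOf x = 2 ∨ orderOf x = 3) : Nat.card (cz x) ∣ 1152 := by
  have h : Nat.card (cz x) ∣ 1152 * 385 := (card_subgroup_dvd_card (cz x)).trans (dvd_of_eq H.card)
  have hno : ∀ r, r = 5 ∨ r = 7 ∨ r = 11 → Nat.Coprime (Nat.card (cz x)) r := fun r hr =>
    (((by rcases hr with rfl | rfl | rfl <;> norm_num : r.Prime).coprime_iff_not_dvd).2
      (H.not_dvd_cz hr (by rcases hr with rfl | rfl | rfl <;> rcases hx with h | h <;> rw [h] <;> norm_num))).symm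
  refine Nat.Coprime.dvd_of_dvd_mul_right ?_ h
  exact ((hno 5 (by simp)).mul_right (hno 7 (by simp))).mul_right (hno 11 (by simp))

end Counts

end CfsgLib.M22Id
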