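import Cfsg.Agent.M22Id.Four

/-!
# Groups with the counts of `M₂₂`: a Sylow 3-subgroup acting on 2-groups
-/

set_option autoImplicit false
set_option linter.style.haveILetI false
set_option linter.unusedSectionVars false

namespace CfsgLib.M22Id

open Subgroup CfsgLib.M11Nse CfsgLib.M12Nse
open scoped Pointwise

variable {G : Type*} [Group G] [Finite G]

local instance : Fact (Nat.Prime 3) := ⟨Nat.prime_three⟩
local instance : Fact (Nat.Prime 2) := ⟨Nat.prime_two⟩

/-- Generators of the four subgroups of order three. -/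
def gen (x y : G) : Fin 4 → G := ![x, y, x * y, x * (y * y)]

namespace Counts

variable (H : Counts G)
include H

theorem gen_mem {P : Sylow 3 G} {x y : G} (hxP : x ∈ (P : Subgroup G)) (hyP : y ∈ (P : Subgroup G)) (i : Fin 4) :
    gen x y i ∈ (P : Subgroup G) := by
  fin_cases i
  · exact hxP
  · exact hyP
  · exact mul_mem hxP hyP
  · exact mul_mem hxP (mul_mem hyP hyP)

theorem gen_cover {P : Sylow 3 G} {x y : G} (hx : orderOf x = 3) (hxP : x ∈ (P : Subgroup G))
    (hyP : y ∈ (P : Subgroup G)) (hy : y ∉ zpowers x) {q : G} (hq : q ∈ (P : Subgroup G)) :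
    ∃ i, q ∈ zpowers (gen x y i) := by
  have hxy : x * y = y * x := H.comm_P P hxP hyP
  have hx3 : x ^ 3 = 1 := H.cube hxP
  have hy3 : y ^ 3 = 1 := H.cube hyP
  have hxi : x⁻¹ = x * x := inv_eq_of_mul_eq_one_right (by rw [← hx3, pow_succ', sq])
  have hyi : y⁻¹ = y * y := inv_eq_of_mul_eq_one_right (by rw [← hy3, pow_succ', sq])
  rcases H.mem_P hxP (fun e => by simp [e] at hx) hyP hy hq with h | ⟨d, h, rfl⟩ | ⟨d, h, rfl⟩
  · exact ⟨0, h⟩
  all_goals
    by_cases hd : d = 1
    swap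
    rcases eq_or_inv_of_mem_zpowers hx h hd with rfl | rfl
  · exact ⟨2, mem_zpowers _⟩
  · refine ⟨3, ?_⟩
    have e : x⁻¹ * y = (x * (y * y))⁻¹ := by
      rw [← hyi, mul_inv_rev, inv_inv, (show Commute y x from hxy.symm).inv_right.eq]
    rw [e]; exact inv_mem (mem_zpowers (gen x y 3))
  · exact ⟨1, by rw [hd, one_mul]; exact mem_zpowers (gen x y 1)⟩
  · exact ⟨3, mem_zpowers _⟩
  · refine ⟨2, ?_⟩
    have e : x⁻¹ * (y * y) = (x * y)⁻¹ := by
      rw [← hyi, mul_inv_rev, (show Commute x y from hxy).inv_inv.eq]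
    rw [e]; exact inv_mem (mem_zpowers (gen x y 2))
  · refine ⟨1, ?_⟩
    rw [hd, one_mul]
    exact mul_mem (mem_zpowers (gen x y 1)) (mem_zpowers (gen x y 1))

theorem gen_prop {P : Sylow 3 G} {x y : G} (hx : orderOf x = 3) (hxP : x ∈ (P : Subgroup G))
    (hyP : y ∈ (P : Subgroup G)) (hy : y ∉ zpowers x) :
    (∀ i, orderOf (gen x y i) = 3) ∧ ∀ i j, i ≠ j → gen x y j ∉ zpowers (gen x y i) := by
  classical
  haveI := Fintype.ofFinite G
  set B : Finset G := Finset.univ.filter fun g => g ∈ (P : Subgroup G) ∧ g ≠ 1 with hB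
  have hBc : B.card = 8 := by
    have h : insert (1 : G) B = Finset.univ.filter fun g => g ∈ (P : Subgroup G) := by
      ext g; by_cases hg : g = 1 <;> simp [hB, hg]
    have h2 := congrArg Finset.card h
    have h9 : (Finset.univ.filter fun g : G => g ∈ (P : Subgroup G)).card = 9 := by
      rw [← Fintype.card_subtype, ← Nat.card_eq_fintype_card]
      exact H.card_P P
    rw [Finset.card_insert_of_notMem (by simp [hB]), h9] at h2
    omega
  have hbad : ∀ S : Finset (Fin 4), S.card = 3 → ∃ g ∈ B, ∀ i ∈ S, g ∉ zpowers (gen x y i) := by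
    intro S hS
    by_contra hcon
    push Not at hcon
    have hsub : B ⊆ S.biUnion fun i => {gen x y i, (gen x y i)⁻¹} := fun g hg => by
      obtain ⟨i, hi, hgi⟩ := hcon g hg
      simp only [hB, Finset.mem_filter, Finset.mem_univ, true_and] at hg
      refine Finset.mem_biUnion.2 ⟨i, hi, ?_⟩
      have hne : gen x y i ≠ 1 := fun e => hg.2 (by simpa [e] using hgi)
      rcases eq_or_inv_of_mem_zpowers (H.orderOf_mem (H.gen_mem hxP hyP i) hne) hgi hg.2 with e | e <;> simp [e]
    have hle := (Finset.card_le_card hsub).trans (Finset.card_biUnion_le_card_mul S _ 2 fun i _ => Finset.card_le_two)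
    omega
  have hcov : ∀ g ∈ B, ∃ i, g ∈ zpowers (gen x y i) := fun g hg => by
    simp only [hB, Finset.mem_filter, Finset.mem_univ, true_and] at hg
    exact H.gen_cover hx hxP hyP hy hg.1
  have hne : ∀ i, gen x y i ≠ 1 := by
    intro i e
    obtain ⟨g, hg, hgS⟩ := hbad (Finset.univ.erase i) (by simp)
    obtain ⟨j, hj⟩ := hcov g hg
    by_cases hji : j = i
    · rw [hji, e] at hj
      simp only [hB, Finset.mem_filter, Finset.mem_univ, true_and] at hg
      exact hg.2 (by simpa using hj)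
    · exact hgS j (by simp [hji]) hj
  refine ⟨fun i => H.orderOf_mem (H.gen_mem hxP hyP i) (hne i), fun i j hij hmem => ?_⟩
  obtain ⟨g, hg, hgS⟩ := hbad (Finset.univ.erase j) (by simp)
  obtain ⟨k, hk⟩ := hcov g hg
  by_cases hkj : k = j
  · exact hgS i (by simp [hij]) (zpowers_le.2 hmem (hkj ▸ hk))
  · exact hgS k (by simp [hkj]) hk

/-- Orbit count of a Sylow 3-subgroup on a 2-subgroup it normalises. -/
theorem two_group_mod {P : Sylow 3 G} {x y : G} (hx : orderOf x = 3) (hxP : x ∈ (P : Subgroup G))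
    (hyP : y ∈ (P : Subgroup G)) (hy : y ∉ zpowers x) {Q : Subgroup G} (hQ : IsPGroup 2 Q)
    (hn : ∀ p ∈ (P : Subgroup G), ∀ q ∈ Q, p * q * p⁻¹ ∈ Q) [DecidablePred fun i : Fin 4 =>
      ∀ g, Commute (gen x y i) g → g * g = 1 → g ∈ Q] :
    Nat.card Q % 9 = (1 + 3 * (Finset.univ.filter fun i : Fin 4 =>
      ∀ g, Commute (gen x y i) g → g * g = 1 → g ∈ Q).card) % 9 := by
  classical
  haveI := Fintype.ofFinite G
  obtain ⟨hX, hdist⟩ := H.gen_prop hx hxP hyP hy
  set free : G → Prop := fun g => ∀ p ∈ (P : Subgroup G), p ≠ 1 → ¬ Commute p g with hfree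
  have hsplit := split_card (fun g : G => g ∈ Q) free
  have h9 : 9 ∣ Nat.card {g : G // g ∈ Q ∧ free g} := by
    let K : Subgroup (ConjAct G) := (P : Subgroup G).map (ConjAct.toConjAct (G := G)).toMonoidHom
    have hK : Nat.card K = 9 := by
      rw [card_map_of_injective (ConjAct.toConjAct (G := G)).injective, H.card_P]
    refine dvd_card_of_orbit (H := K) ?_ fun g hg => ?_
    · rintro ⟨_, ⟨p, hp, rfl⟩⟩ g ⟨hgQ, hgf⟩
      show p * g * p⁻¹ ∈ Q ∧ free (p * g * p⁻¹)
      refine ⟨hn p hp g hgQ, fun q hq hq1 hc => hgf q hq hq1 ?_⟩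
      have h := (Commute.conj_iff p⁻¹).2 hc
      rw [show p⁻¹ * q * p⁻¹⁻¹ = q by rw [mul_inv_eq_iff_eq_mul]; exact H.comm_P P (inv_mem hp) hq,
        show p⁻¹ * (p * g * p⁻¹) * p⁻¹⁻¹ = g by group] at h
      exact h
    · have hst : MulAction.stabilizer K g = ⊥ := by
        refine (eq_bot_iff_forall _).2 ?_
        rintro ⟨_, ⟨p, hp, rfl⟩⟩ h
        by_contra hne
        have h' : p * g * p⁻¹ = g := MulAction.mem_stabilizer_iff.1 h
        exact hg.2 p hp (fun e => hne (Subtype.ext (by simp [e]))) (mul_inv_eq_iff_eq_mul.1 h')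
      have := Nat.card_congr (MulAction.orbitProdStabilizerEquivGroup K g)
      rw [Nat.card_prod, hst, card_bot, mul_one, hK] at this
      rw [this]
  set K4 : Finset (Fin 4) := Finset.univ.filter fun i : Fin 4 =>
      ∀ g, Commute (gen x y i) g → g * g = 1 → g ∈ Q with hK4
  set V : Fin 4 → Finset G := fun i =>
    Finset.univ.filter fun g => orderOf g = 2 ∧ Commute (gen x y i) g with hV
  have hVc : ∀ i, (V i).card = 3 := fun i => by
    rw [← Fintype.card_subtype, ← Nat.card_eq_fintype_card]; exact H.count_two_cz (hX i)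
  have hU : (Finset.univ.filter fun g => g ∈ Q ∧ ¬ free g) = insert 1 (K4.biUnion V) := by
    ext g
    simp only [Finset.mem_filter, Finset.mem_univ, true_and, Finset.mem_insert, Finset.mem_biUnion, hK4, hV]
    constructor
    · rintro ⟨hgQ, hgf⟩
      by_cases hg1 : g = 1
      · exact Or.inl hg1
      rw [hfree] at hgf
      push Not at hgf
      obtain ⟨p, hp, hp1, hc⟩ := hgf
      obtain ⟨i, hi⟩ := H.gen_cover hx hxP hyP hy hp
      have hp' : gen x y i ∈ zpowers p := by
        rcases eq_or_inv_of_mem_zpowers (hX i) hi hp1 with e | e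
        · rw [e]; exact mem_zpowers _
        · rw [e, zpowers_inv]; exact mem_zpowers _
      obtain ⟨j, hj⟩ := mem_zpowers_iff.1 hp'
      have hcg : Commute (gen x y i) g := hj ▸ hc.zpow_left j
      obtain ⟨k, hk⟩ := hQ ⟨g, hgQ⟩
      have hW := H.two_mem_W (hX i) hcg (k := k) (congrArg Subtype.val hk)
      refine Or.inr ⟨i, fun h hch hh => ?_, (H.mem_W_ne (hX i)).1 ⟨hW, hg1⟩⟩
      by_cases hh1 : h = 1
      · rw [hh1]; exact one_mem _
      obtain ⟨q, hq, e⟩ := H.W_trans (hX i) (H.gen_mem hxP hyP i) hW hg1 ((H.mem_W (hX i)).2 ⟨hch, hh⟩) hh1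
      exact e ▸ hn q hq g hgQ
    · rintro (rfl | ⟨i, hi, hg2, hgc⟩)
      · refine ⟨one_mem _, fun h => ?_⟩
        exact h x hxP (fun e => by simp [e] at hx) (Commute.one_right x)
      · exact ⟨hi g hgc (sq_of_two hg2), fun h => h _ (H.gen_mem hxP hyP i) (fun e => by simpa [e] using hX i) hgc⟩
  have hdisj : (K4 : Set (Fin 4)).PairwiseDisjoint V := fun i _ j _ hij => Finset.disjoint_left.2 fun g hgi hgj => by
    simp only [hV, Finset.mem_filter, Finset.mem_univ, true_and] at hgi hgj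
    have h1 := H.W_disjoint (hX i) (hX j) (H.gen_mem hxP hyP i) (H.gen_mem hxP hyP j) (hdist i j hij)
      ((H.mem_W (hX i)).2 ⟨hgi.2, sq_of_two hgi.1⟩) ((H.mem_W (hX j)).2 ⟨hgj.2, sq_of_two hgj.1⟩)
    rw [h1, orderOf_one] at hgi
    norm_num at hgi
  have hUc : Nat.card {g : G // g ∈ Q ∧ ¬ free g} = 1 + 3 * K4.card := by
    rw [Nat.card_eq_fintype_card, Fintype.card_subtype, hU, Finset.card_insert_of_notMem, Finset.card_biUnion hdisj,
      Finset.sum_const_nat fun i _ => hVc i]
    · omega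
    · simp [hV]
  rw [hUc] at hsplit
  have hQc : Nat.card Q = Nat.card {g : G // g ∈ Q} := rfl
  omega

end Counts

end CfsgLib.M22Id
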