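import Cfsg.Agent.M22Id.ThreeC
import Mathlib.GroupTheory.Nilpotent
import Mathlib.Data.Fintype.Perm

/-!
# Groups with the counts of `M₂₂`: the four-group of an element of order three and the largest normal
2-subgroup of an involution centraliser
-/

set_option autoImplicit false
set_option linter.style.haveILetI false
set_option linter.unusedSectionVars false

namespace CfsgLib.M22Id

open Subgroup CfsgLib.M11Nse CfsgLib.M12Nse
open scoped Pointwise

variable {G : Type*} [Group G] [Finite G]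

local instance : Fact (Nat.Prime 3) := ⟨Nat.prime_three⟩
local instance : Fact (Nat.Prime 2) := ⟨Nat.prime_two⟩

theorem pow_two_mod_three {k : ℕ} (hk : k ≤ 7) (h : 2 ^ k % 3 = 1) : 2 ^ k = 1 ∨ 2 ^ k = 4 ∨ 2 ^ k = 16 ∨ 2 ^ k = 64 := by
  interval_cases k <;> simp_all

set_option synthInstance.maxSize 2000 in
theorem perm_three_comm {α : Type*} [Finite α] (h3 : Nat.card α = 3) {a b : Equiv.Perm α} (ha : a * a = 1)
    (hb : b * b * b = 1) (hb1 : b ≠ 1) (h : b * a = a * b) : a = 1 := by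
  have key : ∀ a b : Equiv.Perm (Fin 3), a * a = 1 → b * b * b = 1 → b = 1 ∨ (b * a = a * b → a = 1) := by decide
  obtain ⟨e⟩ : Nonempty (α ≃ Fin 3) := ⟨(Finite.equivFin α).trans (finCongr h3)⟩
  refine e.permCongrHom.injective ?_
  rw [map_one]
  exact ((key (e.permCongrHom a) (e.permCongrHom b) (by rw [← map_mul, ha, map_one])
    (by rw [← map_mul, ← map_mul, hb, map_one])).resolve_left
    fun h1 => hb1 (e.permCongrHom.injective (by rw [h1, map_one]))) (by rw [← map_mul, ← map_mul, h])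

/-- The Sylow 2-subgroups of an involution centraliser, permuted by it. -/
noncomputable def sylPerm (w : G) : cz w →* Equiv.Perm (Sylow 2 (cz w)) := MulAction.toPermHom _ _

/-- The largest normal 2-subgroup of the centraliser of an involution. -/
noncomputable def R (w : G) : Subgroup G := (sylPerm w).ker.map (cz w).subtype

theorem R_le (w : G) : R w ≤ cz w := map_subtype_le _

theorem mem_R {w g : G} (hg : g ∈ cz w) : g ∈ R w ↔ sylPerm w ⟨g, hg⟩ = 1 := by
  refine ⟨?_, fun h => ⟨⟨g, hg⟩, h, rfl⟩⟩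
  rintro ⟨a, ha, e⟩
  rwa [show (⟨g, hg⟩ : cz w) = a from Subtype.ext e.symm]

theorem conj_mem_R {w g r : G} (hg : g ∈ cz w) (hr : r ∈ R w) : g * r * g⁻¹ ∈ R w := by
  obtain ⟨a, ha, rfl⟩ := hr
  rw [Subgroup.subtype_apply, mem_R (mul_mem (mul_mem hg a.2) (inv_mem hg))]
  have h : (⟨g * (a : G) * g⁻¹, mul_mem (mul_mem hg a.2) (inv_mem hg)⟩ : cz w) = ⟨g, hg⟩ * a * ⟨g, hg⟩⁻¹ :=
    Subtype.ext rfl
  have ha' : sylPerm w a = 1 := ha
  rw [h, map_mul, map_mul, ha', mul_one, ← map_mul, mul_inv_cancel, map_one]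

namespace Counts

variable (H : Counts G)
include H

set_option maxHeartbeats 1600000 in
theorem comm_pair {x y v : G} {P : Sylow 3 G} (hx : orderOf x = 3) (hxP : x ∈ (P : Subgroup G))
    (hyP : y ∈ (P : Subgroup G)) (hy : y ∉ zpowers x) (hv : orderOf v = 2) (hxv : Commute x v) :
    (∀ u, orderOf u = 2 → Commute x u → u = v ∨ u = y * v * y⁻¹ ∨ u = y * y * v * (y * y)⁻¹) ∧
      Commute v (y * v * y⁻¹) ∧ y * v * y⁻¹ ≠ v := by
  classical
  have hx1 : x ≠ 1 := fun e => by simp [e] at hx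
  have hy3 := H.cube hyP
  have hnot : ¬ Commute y v := fun h => H.not_le_cz_two P hv fun a ha => by
    rcases H.mem_P hxP hx1 hyP hy ha with h' | ⟨d, h', rfl⟩ | ⟨d, h', rfl⟩
    all_goals obtain ⟨j, rfl⟩ := mem_zpowers_iff.1 h'
    · exact mem_cz.2 ((hxv.zpow_left j).eq)
    · exact mem_cz.2 (((hxv.zpow_left j).mul_left h).eq)
    · exact mem_cz.2 (((hxv.zpow_left j).mul_left (h.mul_left h)).eq)
  have hconj : ∀ q ∈ (P : Subgroup G), ∀ u, orderOf u = 2 → Commute x u →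
      orderOf (q * u * q⁻¹) = 2 ∧ Commute x (q * u * q⁻¹) := fun q hq u hu hxu => by
    refine ⟨(MulEquiv.orderOf_eq (MulAut.conj q) u).trans hu, ?_⟩
    have h := (Commute.conj_iff q).2 hxu
    rwa [mul_inv_eq_iff_eq_mul.2 (H.comm_P P hq hxP)] at h
  have h3 := H.count_two_cz hx
  haveI := Fintype.ofFinite G
  set S : Finset G := Finset.univ.filter fun u => orderOf u = 2 ∧ Commute x u with hS
  have hS3 : S.card = 3 := by rw [← Fintype.card_subtype, ← Nat.card_eq_fintype_card]; exact h3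
  have hne1 : y * v * y⁻¹ ≠ v := fun e => hnot (mul_inv_eq_iff_eq_mul.1 e)
  have hne2 : y * y * v * (y * y)⁻¹ ≠ v := fun e => hnot (by
    have h := (show Commute (y * y) v from mul_inv_eq_iff_eq_mul.1 e)
    have h' := h.mul_left h
    rwa [show y * y * (y * y) = y ^ 3 * y by simp [pow_succ, mul_assoc], hy3, one_mul] at h')
  have hne3 : y * y * v * (y * y)⁻¹ ≠ y * v * y⁻¹ := fun e => hne1 (by
    rw [show y * y * v * (y * y)⁻¹ = y * (y * v * y⁻¹) * y⁻¹ by group] at e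
    exact mul_left_cancel (mul_right_cancel e))
  have hsub : ({v, y * v * y⁻¹, y * y * v * (y * y)⁻¹} : Finset G) ⊆ S := by
    simp only [Finset.insert_subset_iff, Finset.singleton_subset_iff, hS, Finset.mem_filter, Finset.mem_univ,
      true_and]
    exact ⟨⟨hv, hxv⟩, hconj y hyP v hv hxv, hconj _ (mul_mem hyP hyP) v hv hxv⟩
  have hSeq : ({v, y * v * y⁻¹, y * y * v * (y * y)⁻¹} : Finset G) = S :=
    Finset.eq_of_subset_of_card_le hsub (by
      rw [hS3, Finset.card_insert_of_notMem, Finset.card_pair hne3.symm]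
      simp only [Finset.mem_insert, Finset.mem_singleton, not_or]
      exact ⟨hne1.symm, hne2.symm⟩)
  have hall : ∀ u, orderOf u = 2 → Commute x u → u = v ∨ u = y * v * y⁻¹ ∨ u = y * y * v * (y * y)⁻¹ := by
    intro u hu hxu
    have hmem : u ∈ S := by simp [hS, hu, hxu]
    rw [← hSeq] at hmem
    simpa using hmem
  refine ⟨hall, ?_, hne1⟩
  have hback : Commute v (y * y * v * (y * y)⁻¹) → Commute v (y * v * y⁻¹) := fun h => by
    have h' := (Commute.conj_iff y).2 h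
    rw [show y * (y * y * v * (y * y)⁻¹) * y⁻¹ = y ^ 3 * v * (y ^ 3)⁻¹ by
      simp [pow_succ, mul_assoc], hy3, one_mul, inv_one, mul_one] at h'
    exact h'.symm
  -- an element of two-power order in `C(x) ∩ C(v)` outside `⟨v⟩`
  have hK : Nat.card {g : G // Commute x g ∧ Commute v g} = 12 := by
    let φ : cz x → G := fun g => g.1 * v * g.1⁻¹
    have horb : ∀ u, orderOf u = 2 → Commute x u → ∃ q : cz x, φ q = u := fun u hu hxu => by
      rcases hall u hu hxu with rfl | rfl | rfl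
      · exact ⟨1, by simp [φ]⟩
      · exact ⟨⟨y, H.mem_cz_of_mem hxP hyP⟩, rfl⟩
      · exact ⟨⟨y * y, H.mem_cz_of_mem hxP (mul_mem hyP hyP)⟩, rfl⟩
    let K : Subgroup (cz x) := (cz v).subgroupOf (cz x)
    have hidx : K.index = 3 := by
      rw [index_eq_card, ← h3]
      refine Nat.card_eq_of_bijective (fun q => Quotient.liftOn' q (fun g => (⟨φ g,
        (MulEquiv.orderOf_eq (MulAut.conj g.1) v).trans hv, by
          have h := (Commute.conj_iff g.1).2 hxv
          rwa [mul_inv_eq_iff_eq_mul.2 (mem_cz.1 g.2)] at h⟩ : {u : G // orderOf u = 2 ∧ Commute x u})) fun a b hab => ?_)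
        ⟨fun p q => ?_, fun u => ?_⟩
      · rw [QuotientGroup.leftRel_apply, mem_subgroupOf, mem_cz] at hab
        refine Subtype.ext ?_
        show a.1 * v * a.1⁻¹ = b.1 * v * b.1⁻¹
        have hab' : a.1⁻¹ * b.1 * v = v * (a.1⁻¹ * b.1) := hab
        calc a.1 * v * a.1⁻¹ = a.1 * (v * (a.1⁻¹ * b.1)) * b.1⁻¹ := by group
          _ = a.1 * (a.1⁻¹ * b.1 * v) * b.1⁻¹ := by rw [hab']
          _ = _ := by group
      · induction p using QuotientGroup.induction_on with | H a => ?_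
        induction q using QuotientGroup.induction_on with | H b => ?_
        intro e
        have e' : a.1 * v * a.1⁻¹ = b.1 * v * b.1⁻¹ := congrArg Subtype.val e
        rw [QuotientGroup.eq, mem_subgroupOf, mem_cz]
        show a.1⁻¹ * b.1 * v = v * (a.1⁻¹ * b.1)
        calc a.1⁻¹ * b.1 * v = a.1⁻¹ * (b.1 * v * b.1⁻¹) * b.1 := by group
          _ = a.1⁻¹ * (a.1 * v * a.1⁻¹) * b.1 := by rw [e']
          _ = _ := by group
      · obtain ⟨q, hq⟩ := horb u u.2.1 u.2.2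
        exact ⟨(q : cz x ⧸ K), Subtype.ext hq⟩
    have hm := K.card_mul_index
    rw [hidx, H.cz_three hx] at hm
    have : Nat.card {g : G // Commute x g ∧ Commute v g} = Nat.card K := Nat.card_congr
      { toFun := fun g => ⟨⟨g.1, mem_cz.2 g.2.1.eq.symm⟩, mem_cz.2 g.2.2.eq.symm⟩
        invFun := fun g => ⟨g.1.1, (mem_cz.1 g.1.2).symm, (mem_cz.1 g.2).symm⟩
        left_inv := fun _ => rfl
        right_inv := fun _ => rfl }
    omega
  obtain ⟨a, ha4, hxa, hva, ha1, hav⟩ : ∃ a : G, a ^ 4 = 1 ∧ Commute x a ∧ Commute v a ∧ a ≠ 1 ∧ a ≠ v := by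
    let K : Subgroup G := cz x ⊓ cz v
    have hKc : Nat.card K = 12 := by
      rw [← hK]
      exact Nat.card_congr (Equiv.subtypeEquivRight fun g => by
        rw [mem_inf, mem_cz, mem_cz]; exact ⟨fun h => ⟨h.1.symm, h.2.symm⟩, fun h => ⟨h.1.eq.symm, h.2.eq.symm⟩⟩)
    obtain ⟨T⟩ : Nonempty (Sylow 2 K) := inferInstance
    have hT : Nat.card (T : Subgroup K) = 4 :=
      CfsgLib.SmallSimple.card_sylow_eq T (k := 2) (m := 3) (by rw [hKc]; rfl) (by norm_num)
    by_contra hcon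
    push Not at hcon
    have hle : Nat.card (T : Subgroup K) ≤ Nat.card Bool := Nat.card_le_card_of_injective
      (fun t => decide (t = 1)) fun s t e => by
        have hone : ∀ r : (T : Subgroup K), r ≠ 1 → ((r : K) : G) = v := fun r hr => by
          refine hcon _ ?_ ?_ ?_ fun e => hr (Subtype.ext (Subtype.ext e))
          · have h := pow_card_eq_one' (x := r)
            rw [hT] at h
            exact congrArg (fun t : (T : Subgroup K) => ((t : K) : G)) h
          · exact (mem_cz.1 (mem_inf.1 ((r : K)).2).1).symm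
          · exact (mem_cz.1 (mem_inf.1 ((r : K)).2).2).symm
        by_cases h1 : s = 1
        · simp [h1] at e; rw [h1]; exact (by simpa using e : t = 1).symm
        · simp [h1] at e
          exact Subtype.ext (Subtype.ext ((hone s h1).trans (hone t (by simpa using e)).symm))
    rw [hT, Nat.card_eq_fintype_card, Fintype.card_bool] at hle
    omega
  by_cases ha2 : a * a = 1
  · have ha : orderOf a = 2 := orderOf_eq_prime (by rw [sq, ha2]) ha1
    rcases hall a ha hxa with rfl | rfl | rfl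
    · exact absurd rfl hav
    · exact hva
    · exact hback hva
  have ha : orderOf (a * a) = 2 := orderOf_eq_prime (by rw [← sq, ← pow_mul]; exact ha4) ha2
  rcases hall (a * a) ha (hxa.mul_right hxa) with e | e | e
  · have himg : ∀ u, orderOf u = 2 → Commute x u → orderOf (a * u * a⁻¹) = 2 ∧ Commute x (a * u * a⁻¹) :=
      fun u hu hxu => ⟨(MulEquiv.orderOf_eq (MulAut.conj a) u).trans hu, by
        have h := (Commute.conj_iff a).2 hxu
        rwa [mul_inv_eq_iff_eq_mul.2 hxa.eq.symm] at h⟩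
    obtain ⟨hu, hxu⟩ := hconj y hyP v hv hxv
    set v' := y * v * y⁻¹
    set v'' := y * y * v * (y * y)⁻¹
    have hinj : ∀ u u' : G, a * u * a⁻¹ = a * u' * a⁻¹ → u = u' := fun u u' h =>
      mul_left_cancel (mul_right_cancel h)
    have hva' : a * v * a⁻¹ = v := by rw [mul_inv_eq_iff_eq_mul]; exact hva.eq.symm
    obtain ⟨hu1, hu2⟩ := himg v' hu hxu
    have hfix : a * (a * v' * a⁻¹) * a⁻¹ = v' := by
      rcases hall _ hu1 hu2 with e1 | e1 | e1
      · exact absurd (hinj v' v (e1.trans hva'.symm)) hne1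
      · rw [e1, e1]
      · obtain ⟨hw, hxw⟩ := hconj _ (mul_mem hyP hyP) v hv hxv
        obtain ⟨hw1, hw2⟩ := himg v'' hw hxw
        rw [e1]
        rcases hall _ hw1 hw2 with e2 | e2 | e2
        · exact absurd (hinj v'' v (e2.trans hva'.symm)) hne2
        · exact e2
        · exact absurd (hinj v'' v' (e2.trans e1.symm)) hne3
    refine mul_inv_eq_iff_eq_mul.1 ?_
    rw [show v * v' * v⁻¹ = a * a * v' * (a * a)⁻¹ by rw [e]]
    rw [show a * a * v' * (a * a)⁻¹ = a * (a * v' * a⁻¹) * a⁻¹ by group, hfix]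
  · exact e ▸ hva.mul_right hva
  · exact hback (e ▸ hva.mul_right hva)

theorem two_comm {x u v : G} (hx : orderOf x = 3) (hu : orderOf u = 2) (hv : orderOf v = 2) (hxu : Commute x u)
    (hxv : Commute x v) : Commute v u ∧ (u ≠ v → orderOf (v * u) = 2 ∧ Commute x (v * u)) := by
  obtain ⟨P, hP⟩ := H.exists_P hx
  obtain ⟨y, hyP, hy⟩ := H.exists_out (P := P) hx
  obtain ⟨hall, hc, -⟩ := H.comm_pair hx hP hyP hy hv hxv
  have hcomm : Commute v u := by
    rcases hall u hu hxu with rfl | rfl | rfl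
    · exact Commute.refl _
    · exact hc
    · have h := (Commute.conj_iff (y * y)).2 hc
      rw [show y * y * (y * v * y⁻¹) * (y * y)⁻¹ = y ^ 3 * v * (y ^ 3)⁻¹ by simp [pow_succ, mul_assoc],
        H.cube hyP, one_mul, inv_one, mul_one] at h
      exact h.symm
  refine ⟨hcomm, fun hne => ⟨orderOf_eq_prime ?_ fun e => hne ?_, hxv.mul_right hxu⟩⟩
  · rw [hcomm.mul_pow, sq, sq, sq_of_two hu, sq_of_two hv, one_mul]
  · rw [← inv_of_two hu]; exact (eq_inv_of_mul_eq_one_left e).symm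

/-- The four-group centralising an element of order three. -/
def W {x : G} (hx : orderOf x = 3) : Subgroup G where
  carrier := {g | Commute x g ∧ g * g = 1}
  one_mem' := ⟨Commute.one_right x, one_mul 1⟩
  mul_mem' := by
    rintro a b ⟨ha, ha2⟩ ⟨hb, hb2⟩
    refine ⟨ha.mul_right hb, ?_⟩
    by_cases ha1 : a = 1
    · rw [ha1, one_mul]; exact hb2
    by_cases hb1 : b = 1
    · rw [hb1, mul_one]; exact ha2
    have hc : Commute a b := (H.two_comm hx (orderOf_eq_prime (by rw [sq, hb2]) hb1)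
      (orderOf_eq_prime (by rw [sq, ha2]) ha1) hb ha).1
    rw [show a * b * (a * b) = a * a * (b * b) by rw [mul_assoc, ← mul_assoc b, ← hc.eq]; group, ha2, hb2, one_mul]
  inv_mem' := by
    rintro a ⟨ha, ha2⟩
    exact ⟨ha.inv_right, by rw [← mul_inv_rev, ha2, inv_one]⟩

theorem mem_W {x : G} (hx : orderOf x = 3) {g : G} : g ∈ H.W hx ↔ Commute x g ∧ g * g = 1 := Iff.rfl

theorem mem_W_ne {x : G} (hx : orderOf x = 3) {g : G} :
    g ∈ H.W hx ∧ g ≠ 1 ↔ orderOf g = 2 ∧ Commute x g := by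
  rw [mem_W, orderOf_eq_prime_iff, sq]; tauto

theorem card_W {x : G} (hx : orderOf x = 3) : Nat.card (H.W hx) = 4 := by
  have h := split_card (fun g : G => g ∈ H.W hx) (· = 1)
  have h1 : Nat.card {g : G // g ∈ H.W hx ∧ g = 1} = 1 :=
    Nat.card_eq_one_iff_unique.2 ⟨⟨fun a b => Subtype.ext (a.2.2.trans b.2.2.symm)⟩, ⟨⟨1, one_mem _, rfl⟩⟩⟩
  rw [h1, Nat.card_congr (Equiv.subtypeEquivRight fun g => H.mem_W_ne hx), H.count_two_cz hx] at h
  exact h

theorem isPGroup_W {x : G} (hx : orderOf x = 3) : IsPGroup 2 (H.W hx) :=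
  IsPGroup.of_card (n := 2) (by rw [H.card_W hx]; rfl)

theorem conj_W {x : G} (hx : orderOf x = 3) {c : G} (hc : c * x * c⁻¹ = x ∨ c * x * c⁻¹ = x⁻¹) {a : G}
    (ha : a ∈ H.W hx) : c * a * c⁻¹ ∈ H.W hx := by
  refine ⟨?_, by rw [show c * a * c⁻¹ * (c * a * c⁻¹) = c * (a * a) * c⁻¹ by group, ha.2, mul_one, mul_inv_cancel]⟩
  have h := (Commute.conj_iff c).2 ha.1
  rcases hc with e | e <;> rw [e] at h
  · exact h
  · exact Commute.inv_left_iff.1 h

/-- The 2-elements of the centraliser of an element of order three. -/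
theorem two_mem_W {x : G} (hx : orderOf x = 3) {g : G} (hg : Commute x g) {k : ℕ} (hk : g ^ 2 ^ k = 1) :
    g ∈ H.W hx := by
  have hn : zpowers g ≤ normalizer (H.W hx : Set G) := zpowers_le.2 (mem_normalizer_iff.2 fun a =>
    ⟨fun ha => H.conj_W hx (Or.inl (by rw [mul_inv_eq_iff_eq_mul]; exact hg.eq.symm)) ha, fun ha => by
      have h := H.conj_W hx (c := g⁻¹)
        (Or.inl (by rw [mul_inv_eq_iff_eq_mul]; exact hg.inv_right.eq.symm)) ha
      rwa [show g⁻¹ * (g * a * g⁻¹) * g⁻¹⁻¹ = a by group] at h⟩)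
  obtain ⟨j, -, hj⟩ := (Nat.dvd_prime_pow Nat.prime_two).1 (orderOf_dvd_of_pow_eq_one hk)
  have hp : IsPGroup 2 (H.W hx ⊔ zpowers g : Subgroup G) :=
    (H.isPGroup_W hx).to_sup_of_normal_left' (IsPGroup.of_card (n := j) (by rw [Nat.card_zpowers, hj])) hn
  obtain ⟨i, hi⟩ := IsPGroup.iff_card.1 hp
  have hd : 2 ^ i ∣ 36 := hi ▸ (card_dvd_of_le (sup_le (fun a ha => mem_cz.2 ((H.mem_W hx).1 ha).1.eq.symm)
    (zpowers_le.2 (mem_cz.2 hg.eq.symm)))).trans (dvd_of_eq (H.cz_three hx))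
  have hi2 : i ≤ 2 := by
    by_contra h
    exact absurd ((Nat.pow_dvd_pow 2 (show 3 ≤ i by omega)).trans hd) (by norm_num)
  have heq := eq_of_le_of_card_ge (le_sup_left : H.W hx ≤ H.W hx ⊔ zpowers g) (by
    rw [hi, H.card_W hx]; exact Nat.pow_le_pow_right two_pos hi2)
  rw [heq]
  exact mem_sup_right (mem_zpowers g)

theorem W_disjoint {P : Sylow 3 G} {x x' : G} (hx : orderOf x = 3) (hx' : orderOf x' = 3)
    (hxP : x ∈ (P : Subgroup G)) (hx'P : x' ∈ (P : Subgroup G)) (h : x' ∉ zpowers x) {a : G}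
    (ha : a ∈ H.W hx) (ha' : a ∈ H.W hx') : a = 1 := by
  by_contra ha1
  obtain ⟨ha2, hxa⟩ := (H.mem_W_ne hx).1 ⟨ha, ha1⟩
  refine H.not_le_cz_two P ha2 fun q hq => ?_
  rcases H.mem_P hxP (fun e => by simp [e] at hx) hx'P h hq with h' | ⟨d, h', rfl⟩ | ⟨d, h', rfl⟩
  all_goals obtain ⟨j, rfl⟩ := mem_zpowers_iff.1 h'
  · exact mem_cz.2 ((hxa.zpow_left j).eq)
  · exact mem_cz.2 (((hxa.zpow_left j).mul_left ha'.1).eq)
  · exact mem_cz.2 (((hxa.zpow_left j).mul_left (ha'.1.mul_left ha'.1)).eq)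

theorem W_trans {P : Sylow 3 G} {x : G} (hx : orderOf x = 3) (hxP : x ∈ (P : Subgroup G)) {a b : G}
    (ha : a ∈ H.W hx) (ha1 : a ≠ 1) (hb : b ∈ H.W hx) (hb1 : b ≠ 1) :
    ∃ q ∈ (P : Subgroup G), q * a * q⁻¹ = b := by
  obtain ⟨y, hyP, hy⟩ := H.exists_out (P := P) hx
  obtain ⟨ha2, hxa⟩ := (H.mem_W_ne hx).1 ⟨ha, ha1⟩
  obtain ⟨hb2, hxb⟩ := (H.mem_W_ne hx).1 ⟨hb, hb1⟩
  rcases (H.comm_pair hx hxP hyP hy ha2 hxa).1 b hb2 hxb with rfl | rfl | rfl
  · exact ⟨1, one_mem _, by simp⟩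
  · exact ⟨y, hyP, rfl⟩
  · exact ⟨y * y, mul_mem hyP hyP, rfl⟩

theorem W_le_cz {x : G} (hx : orderOf x = 3) {a : G} (ha : a ∈ H.W hx) : H.W hx ≤ cz a := fun b hb => by
  by_cases ha1 : a = 1
  · rw [ha1]; exact mem_cz.2 (by simp)
  by_cases hb1 : b = 1
  · rw [hb1]; exact one_mem _
  obtain ⟨ha2, hxa⟩ := (H.mem_W_ne hx).1 ⟨ha, ha1⟩
  obtain ⟨hb2, hxb⟩ := (H.mem_W_ne hx).1 ⟨hb, hb1⟩
  exact mem_cz.2 (H.two_comm hx hb2 ha2 hxb hxa).1.eq.symm

/-- An element of two-power order inverting an element of order three in an involution centraliser. -/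
theorem exists_inverter {w x : G} (hw : orderOf w = 2) (hx : orderOf x = 3) (hxw : Commute x w) :
    ∃ t ∈ cz w, (∃ k, t ^ 2 ^ k = 1) ∧ t * x * t⁻¹ = x⁻¹ := by
  let a : cz w := ⟨x, mem_cz.2 hxw.eq⟩
  have ha : orderOf a = 3 := by rw [Subgroup.orderOf_mk]; exact hx
  have hfac : (Nat.card (cz w)).factorization 3 = 1 := by
    rw [H.cz_two hw, show (384 : ℕ) = 3 ^ 1 * 128 from rfl, Nat.factorization_mul (by norm_num) (by norm_num),
      Finsupp.add_apply, Nat.prime_three.factorization_pow, Finsupp.single_eq_same,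
      Nat.factorization_eq_zero_of_not_dvd (by norm_num : ¬ 3 ∣ 128)]
  let A : Sylow 3 (cz w) := Sylow.ofCard (zpowers a) (by rw [Nat.card_zpowers, ha, hfac, pow_one])
  have hN := CfsgLib.SmallSimple.card_sylow_mul A
  rw [(H.sylow_cz_two hw).1, H.cz_two hw] at hN
  set M := normalizer ((A : Subgroup (cz w)) : Set (cz w))
  have hM : Nat.card M = 24 := by omega
  obtain ⟨n, hn, hna⟩ : ∃ n ∈ M, ¬ Commute (n : cz w) a := by
    by_contra hcon
    push Not at hcon
    have h12 : Nat.card M ∣ Nat.card {g : G // Commute x g ∧ Commute w g} := by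
      have e : Nat.card (cz x ⊓ cz w : Subgroup G) = Nat.card {g : G // Commute x g ∧ Commute w g} :=
        Nat.card_congr (Equiv.subtypeEquivRight fun g => by
          rw [mem_inf, mem_cz, mem_cz]; exact ⟨fun h => ⟨h.1.symm, h.2.symm⟩, fun h => ⟨h.1.eq.symm, h.2.eq.symm⟩⟩)
      rw [← e, ← card_map_of_injective (cz w).subtype_injective (K := M)]
      refine card_dvd_of_le ?_
      rintro _ ⟨g, hg, rfl⟩
      exact mem_inf.2 ⟨mem_cz.2 (congrArg Subtype.val (hcon g hg).eq), g.2⟩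
    have hd : Nat.card (cz x ⊓ cz w : Subgroup G) ∣ 36 := (card_dvd_of_le inf_le_left).trans (dvd_of_eq (H.cz_three hx))
    have e : Nat.card (cz x ⊓ cz w : Subgroup G) = Nat.card {g : G // Commute x g ∧ Commute w g} :=
      Nat.card_congr (Equiv.subtypeEquivRight fun g => by
        rw [mem_inf, mem_cz, mem_cz]; exact ⟨fun h => ⟨h.1.symm, h.2.symm⟩, fun h => ⟨h.1.eq.symm, h.2.eq.symm⟩⟩)
    rw [e] at hd
    have := h12.trans hd
    rw [hM] at this
    norm_num at this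
  have hmem : (n : cz w) * a * (n : cz w)⁻¹ ∈ zpowers a := (mem_normalizer_iff.1 hn a).1 (mem_zpowers a)
  have hinv : n * a * n⁻¹ = a⁻¹ := by
    refine (eq_or_inv_of_mem_zpowers ha hmem fun e => ?_).resolve_left fun e => hna (mul_inv_eq_iff_eq_mul.1 e)
    rw [conj_eq_one_iff] at e
    rw [e, orderOf_one] at ha
    norm_num at ha
  refine ⟨((n ^ 3 : cz w) : G), (n ^ 3).2, ⟨3, ?_⟩, ?_⟩
  · have h24 : (⟨n, hn⟩ : M) ^ 24 = 1 := by rw [← hM]; exact pow_card_eq_one'
    rw [← SubmonoidClass.coe_pow, ← pow_mul, show 3 * 2 ^ 3 = 24 from rfl]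
    exact congrArg (fun g : M => ((g : cz w) : G)) h24
  · have h2 : n * a⁻¹ * n⁻¹ = a := by rw [← conj_inv, hinv, inv_inv]
    have h3 : n ^ 3 * a * (n ^ 3)⁻¹ = a⁻¹ := by
      rw [show n ^ 3 * a * (n ^ 3)⁻¹ = n * (n * (n * a * n⁻¹) * n⁻¹) * n⁻¹ by simp [pow_succ, mul_assoc],
        hinv, h2, hinv]
    exact congrArg Subtype.val h3

theorem sylow_two_cz {w : G} (hw : orderOf w = 2) :
    Nat.card (Sylow 2 (cz w)) = 3 ∧ (∀ x, orderOf x = 3 → ∀ hx : x ∈ cz w, sylPerm w ⟨x, hx⟩ ≠ 1) := by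
  obtain ⟨T⟩ : Nonempty (Sylow 2 (cz w)) := inferInstance
  have hT : Nat.card (T : Subgroup (cz w)) = 128 :=
    CfsgLib.SmallSimple.card_sylow_eq T (k := 7) (m := 3) (by rw [H.cz_two hw]; rfl) (by norm_num)
  have hi : (T : Subgroup (cz w)).index = 3 := by
    have h := (T : Subgroup (cz w)).card_mul_index
    rw [hT, H.cz_two hw] at h
    omega
  have hnot : ∀ x, orderOf x = 3 → ∀ hx : x ∈ cz w, ¬ (⟨x, hx⟩ : cz w) • T = T := by
    intro x hx3 hx h
    obtain ⟨t, htw, ⟨k, hk⟩, hinv⟩ := H.exists_inverter hw hx3 (mem_cz.1 hx)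
    set M := normalizer ((T : Subgroup (cz w)) : Set (cz w))
    have hxM : (⟨x, hx⟩ : cz w) ∈ M := Sylow.smul_eq_iff_mem_normalizer.1 h
    have h3 : 3 ∣ Nat.card M := by
      have := Subgroup.orderOf_dvd_natCard M hxM
      rwa [Subgroup.orderOf_mk, hx3] at this
    have h128 : 128 ∣ Nat.card M := hT ▸ card_dvd_of_le le_normalizer
    have hM : M = ⊤ := eq_top_of_card_eq _ (Nat.dvd_antisymm (card_subgroup_dvd_card M)
      (H.cz_two hw ▸ Nat.Coprime.mul_dvd_of_dvd_of_dvd (by norm_num : Nat.Coprime 128 3) h128 h3))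
    have ht : (⟨t, htw⟩ : cz w) ∈ (T : Subgroup (cz w)) :=
      CfsgLib.SmallSimple.mem_sylow_of_smul_eq (n := k) (Subtype.ext hk) T
        (Sylow.smul_eq_iff_mem_normalizer.2 (show (⟨t, htw⟩ : cz w) ∈ M by rw [hM]; exact mem_top _))
    have hc : (⟨x, hx⟩ : cz w) * ⟨t, htw⟩⁻¹ * ⟨x, hx⟩⁻¹ ∈ (T : Subgroup (cz w)) :=
      (mem_normalizer_iff.1 hxM _).1 (inv_mem ht)
    have hm := mul_mem ht hc
    have e : (⟨t, htw⟩ : cz w) * (⟨x, hx⟩ * ⟨t, htw⟩⁻¹ * ⟨x, hx⟩⁻¹) = ⟨x, hx⟩⁻¹ * ⟨x, hx⟩⁻¹ := Subtype.ext (by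
      show t * (x * t⁻¹ * x⁻¹) = x⁻¹ * x⁻¹
      calc t * (x * t⁻¹ * x⁻¹) = t * x * t⁻¹ * x⁻¹ := by group
        _ = _ := by rw [hinv])
    rw [e] at hm
    have hd := Subgroup.orderOf_dvd_natCard _ (pow_mem hm 4)
    have e4 : ((⟨x, hx⟩ : cz w)⁻¹ * ⟨x, hx⟩⁻¹) ^ 4 = ⟨x, hx⟩ := Subtype.ext (by
      show (x⁻¹ * x⁻¹) ^ 4 = x
      have h3' : x ^ 3 = 1 := orderOf_dvd_iff_pow_eq_one.1 (by rw [hx3])
      rw [show (x⁻¹ * x⁻¹) ^ 4 = ((x ^ 3) ^ 3)⁻¹ * x by group, h3', one_pow, inv_one, one_mul])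
    rw [e4, Subgroup.orderOf_mk, hx3, hT] at hd
    norm_num at hd
  have h3 : Nat.card (Sylow 2 (cz w)) = 3 := by
    rcases (Nat.dvd_prime Nat.prime_three).1 (hi ▸ T.card_dvd_index) with h | h
    · exfalso
      obtain ⟨hs, -⟩ := Nat.card_eq_one_iff_unique.1 h
      obtain ⟨P₀⟩ : Nonempty (Sylow 3 (cz w)) := inferInstance
      obtain ⟨u, hu⟩ := exists_prime_orderOf_dvd_card' (G := cz w) 3 (by rw [H.cz_two hw]; norm_num)
      exact hnot u (by rw [Subgroup.orderOf_coe, hu]) u.2 (hs.allEq _ _)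
    · exact h
  refine ⟨h3, fun x hx3 hx h => hnot x hx3 hx ?_⟩
  exact DFunLike.congr_fun h T

theorem card_R {w : G} (hw : orderOf w = 2) : Nat.card (R w) = 64 := by
  obtain ⟨h3, hne⟩ := H.sylow_two_cz hw
  have hd : Nat.card (sylPerm w).range ∣ 6 := by
    refine (card_subgroup_dvd_card _).trans (dvd_of_eq ?_)
    rw [Nat.card_perm, h3]; rfl
  obtain ⟨u, hu⟩ := exists_prime_orderOf_dvd_card' (G := cz w) 3 (by rw [H.cz_two hw]; norm_num)
  have h3d : 3 ∣ Nat.card (sylPerm w).range := by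
    have h := Subgroup.orderOf_dvd_natCard _ (MonoidHom.mem_range.2 ⟨u, rfl⟩ : sylPerm w u ∈ (sylPerm w).range)
    have h' : orderOf (sylPerm w u) = 3 := orderOf_eq_prime
      (by rw [← map_pow, ← hu, pow_orderOf_eq_one, map_one]) (hne u (by rw [Subgroup.orderOf_coe, hu]) u.2)
    rwa [h'] at h
  have h2d : 2 ∣ Nat.card (sylPerm w).range := by
    by_contra h2
    obtain ⟨T⟩ : Nonempty (Sylow 2 (cz w)) := inferInstance
    haveI : Nontrivial (Sylow 2 (cz w)) := Finite.one_lt_card_iff_nontrivial.1 (by rw [h3]; norm_num)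
    obtain ⟨T', hT'⟩ := exists_ne T
    refine hT' (Sylow.ext (eq_of_le_of_card_ge (?_ : (T : Subgroup (cz w)) ≤ T') ?_).symm)
    · intro t ht
      obtain ⟨k, hk⟩ := T.2 ⟨t, ht⟩
      have htk : t ^ 2 ^ k = 1 := congrArg Subtype.val hk
      refine CfsgLib.SmallSimple.mem_sylow_of_smul_eq (n := k) htk T' ?_
      have h1 : orderOf (sylPerm w t) ∣ 2 ^ k := orderOf_dvd_of_pow_eq_one (by rw [← map_pow, htk, map_one])
      have h2' := Subgroup.orderOf_dvd_natCard _ (MonoidHom.mem_range.2 ⟨t, rfl⟩ : sylPerm w t ∈ (sylPerm w).range)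
      have := Nat.eq_one_of_dvd_coprimes ((Nat.prime_two.coprime_iff_not_dvd.2 h2).pow_left k) h1 h2'
      rw [orderOf_eq_one_iff] at this
      exact DFunLike.congr_fun this T'
    · rw [T.card_eq_multiplicity, T'.card_eq_multiplicity]
  have h6 : Nat.card (sylPerm w).range = 6 :=
    Nat.dvd_antisymm hd (Nat.Coprime.mul_dvd_of_dvd_of_dvd (by norm_num : Nat.Coprime 2 3) h2d h3d)
  have hm := (sylPerm w).ker.card_mul_index
  rw [index_ker, h6, H.cz_two hw] at hm
  rw [R, card_map_of_injective (cz w).subtype_injective]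
  omega

theorem isPGroup_R {w : G} (hw : orderOf w = 2) : IsPGroup 2 (R w) :=
  IsPGroup.of_card (n := 6) (by rw [H.card_R hw]; rfl)

/-- A 2-subgroup of an involution centraliser normalised by an element of order three lies in the kernel. -/
theorem le_R {w x : G} (hw : orderOf w = 2) (hx : orderOf x = 3) (hxw : Commute x w) {Q : Subgroup G}
    (hQ : IsPGroup 2 Q) (hQC : Q ≤ cz w) (hnorm : ∀ q ∈ Q, x * q * x⁻¹ ∈ Q) : Q ≤ R w := by
  intro q hq
  rw [mem_R (hQC hq)]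
  obtain ⟨h3, hne⟩ := H.sylow_two_cz hw
  set f := sylPerm w
  let Q' := (Q.subgroupOf (cz w)).map f
  have hp : IsPGroup 2 Q' := (hQ.comap_of_injective (cz w).subtype (cz w).subtype_injective).map f
  obtain ⟨i, hi⟩ := IsPGroup.iff_card.1 hp
  have hd : 2 ^ i ∣ 6 := hi ▸ (card_subgroup_dvd_card Q').trans (dvd_of_eq (by rw [Nat.card_perm, h3]; rfl))
  have hi1 : i ≤ 1 := by
    by_contra h
    exact absurd ((Nat.pow_dvd_pow 2 (show 2 ≤ i by omega)).trans hd) (by norm_num)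
  set a := f ⟨q, hQC hq⟩
  set b := f ⟨x, mem_cz.2 hxw.eq⟩
  have ha : a ∈ Q' := ⟨⟨q, hQC hq⟩, hq, rfl⟩
  have hb : b * a * b⁻¹ ∈ Q' :=
    ⟨⟨x * q * x⁻¹, hQC (hnorm q hq)⟩, hnorm q hq, by rw [← map_inv, ← map_mul, ← map_mul]; rfl⟩
  by_contra ha1
  have ha2 : a * a = 1 := by
    have h := pow_card_eq_one' (x := (⟨a, ha⟩ : Q'))
    rw [hi] at h
    rcases (show i = 0 ∨ i = 1 by omega) with rfl | rfl
    · simp [Subtype.ext_iff] at h; exact absurd h ha1
    · rw [pow_one, sq] at h; exact congrArg Subtype.val h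
  have hab : b * a * b⁻¹ = a := by
    by_contra hne'
    haveI := Fintype.ofFinite Q'
    classical
    have h1 : ({1, ⟨a, ha⟩, ⟨b * a * b⁻¹, hb⟩} : Finset Q').card = 3 := by
      rw [Finset.card_insert_of_notMem, Finset.card_pair (by simpa using Ne.symm hne')]
      simp only [Finset.mem_insert, Finset.mem_singleton, not_or]
      refine ⟨fun e => ha1 (congrArg Subtype.val e).symm, fun e => ha1 ?_⟩
      have e' : (1 : Equiv.Perm (Sylow 2 (cz w))) = b * a * b⁻¹ := congrArg Subtype.val e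
      rwa [eq_comm, conj_eq_one_iff] at e'
    have h2 := Finset.card_le_univ ({1, ⟨a, ha⟩, ⟨b * a * b⁻¹, hb⟩} : Finset Q')
    rw [h1, ← Nat.card_eq_fintype_card, hi] at h2
    have := Nat.pow_le_pow_right two_pos hi1
    omega
  refine ha1 (perm_three_comm h3 ha2 ?_ (hne x hx _) (mul_inv_eq_iff_eq_mul.1 hab))
  rw [← map_mul, ← map_mul]
  refine (congrArg f (Subtype.ext ?_)).trans (map_one f)
  show x * x * x = 1
  rw [← orderOf_dvd_iff_pow_eq_one.1 (show orderOf x ∣ 3 by rw [hx]), pow_succ, sq]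

end Counts

end CfsgLib.M22Id
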