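import Cfsg.Agent.M22Id.Orbits
import Mathlib.Combinatorics.SimpleGraph.StronglyRegular

/-!
# Groups with the counts of `M₂₂`: the graph on 77 points
-/

set_option autoImplicit false
set_option linter.style.haveILetI false
set_option linter.unusedSectionVars false

namespace CfsgLib.M22Id

open Subgroup CfsgLib.M11Nse CfsgLib.M12Nse MulAction
open scoped Pointwise

variable {G : Type*} [Group G] [Finite G]

local instance : Fact (Nat.Prime 3) := ⟨Nat.prime_three⟩
local instance : Fact (Nat.Prime 2) := ⟨Nat.prime_two⟩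
local instance : Fact (Nat.Prime 5) := ⟨by norm_num⟩

namespace Hexad

variable (D : Hexad G)

/-- Two points are adjacent when their common stabiliser has order 360. -/
def graph : SimpleGraph D.Pt where
  Adj a b := a ≠ b ∧ Nat.card (stabilizer G a ⊓ stabilizer G b : Subgroup G) = 360
  symm := ⟨fun a b h => ⟨h.1.symm, by rw [inf_comm]; exact h.2⟩⟩
  loopless := ⟨fun a h => h.1 rfl⟩

theorem adj_smul (g : G) (a b : D.Pt) : D.graph.Adj (g • a) (g • b) ↔ D.graph.Adj a b := by
  have he : stabilizer G (g • a) ⊓ stabilizer G (g • b) =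
      (stabilizer G a ⊓ stabilizer G b).map (MulAut.conj g).toMonoidHom := by
    rw [Subgroup.map_inf _ _ _ (MulAut.conj g).injective, stabilizer_smul_eq_stabilizer_map_conj,
      stabilizer_smul_eq_stabilizer_map_conj]
  show (g • a ≠ g • b ∧ Nat.card (stabilizer G (g • a) ⊓ stabilizer G (g • b) : Subgroup G) = 360) ↔ _
  rw [he, card_map_of_injective (MulAut.conj g).injective]
  exact and_congr_left fun _ => not_congr (smul_left_cancel_iff g)

/-- The data of the graph at the base point. -/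
theorem adj_base (H : Counts G) : ∃ v : D.Pt, v ≠ D.base ∧ Nat.card (orbit D.N v) = 16 ∧
    D.E ⊓ stabilizer G v = ⊥ ∧ (∀ b, D.graph.Adj D.base b ↔ b ∈ orbit D.N v) ∧
    ∀ b, b ≠ D.base → ¬ D.graph.Adj D.base b → Nat.card (orbit D.N b) = 60 := by
  obtain ⟨v, hv, h16, hE, h60⟩ := D.orbits H
  have hiff : ∀ b, D.graph.Adj D.base b ↔ b ∈ orbit D.N v := by
    intro b
    show (D.base ≠ b ∧ Nat.card (stabilizer G D.base ⊓ stabilizer G b : Subgroup G) = 360) ↔ _
    rw [D.stab_base]
    have hmul := D.orbit_mul b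
    constructor
    · rintro ⟨hne, hc⟩
      by_contra hb
      rw [h60 b (Ne.symm hne) hb, hc] at hmul
      norm_num at hmul
    · intro hb
      rw [orbit_eq_iff.2 hb, h16] at hmul
      obtain ⟨n, rfl⟩ := hb
      exact ⟨(D.ne_base_of n.2 hv).symm, by omega⟩
  exact ⟨v, hv, h16, hE, hiff, fun b hb hn => h60 b hb fun h => hn ((hiff b).2 h)⟩

theorem card_nbrs (H : Counts G) (a : D.Pt) : Nat.card {b : D.Pt // D.graph.Adj a b} = 16 := by
  obtain ⟨g, rfl⟩ := D.exists_smul_base a
  obtain ⟨v, -, h16, -, hiff, -⟩ := D.adj_base H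
  rw [← h16]
  refine (Nat.card_congr (Equiv.subtypeEquiv (MulAction.toPerm g) fun b => ?_)).symm
  rw [MulAction.toPerm_apply, D.adj_smul, hiff]

theorem common_adj (H : Counts G) {a b : D.Pt} (hab : D.graph.Adj a b) :
    Nat.card {c : D.Pt // D.graph.Adj a c ∧ D.graph.Adj b c} = 0 := by
  obtain ⟨g, rfl⟩ := D.exists_smul_base a
  obtain ⟨b₀, rfl⟩ : ∃ b₀, g • b₀ = b := ⟨g⁻¹ • b, smul_inv_smul g b⟩
  rw [D.adj_smul] at hab
  refine (Nat.card_congr (Equiv.subtypeEquiv (MulAction.toPerm g)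
    (p := fun c => D.graph.Adj D.base c ∧ D.graph.Adj b₀ c) fun c => ?_)).symm.trans ?_
  · rw [MulAction.toPerm_apply, D.adj_smul, D.adj_smul]
  refine Nat.card_eq_zero.2 (Or.inl ⟨fun ⟨c, hc1, hc2⟩ => ?_⟩)
  obtain ⟨v, hv, h16, hE, hiff, -⟩ := D.adj_base H
  -- move `b₀` to `v`
  obtain ⟨n, hn⟩ := (hiff b₀).1 hab
  have hn' : (n : G) • v = b₀ := hn
  set c₀ := (n : G)⁻¹ • c
  have h1 : D.graph.Adj D.base c₀ := by
    rw [← D.fix_base (inv_mem n.2), D.adj_smul]; exact hc1
  have h2 : D.graph.Adj v c₀ := by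
    rw [← D.adj_smul (n : G), hn', smul_inv_smul]; exact hc2
  -- the vertices next to the base point are the translates of `v` by the subgroup of order 16
  have hEv : ∀ u, D.graph.Adj D.base u → ∃ e ∈ D.E, e • v = u := by
    intro u hu
    let f : D.E → {u : D.Pt // u ∈ orbit D.N v} := fun e =>
      ⟨(e : G) • v, ⟨⟨e, le_normalizer e.2⟩, rfl⟩⟩
    have hf : Function.Bijective f := by
      refine (Nat.bijective_iff_injective_and_card f).2 ⟨fun e e' h => Subtype.ext ?_, by
        rw [D.card_E]; exact h16.symm⟩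
      have h' : (e : G) • v = (e' : G) • v := congrArg Subtype.val h
      have : (e : G)⁻¹ * e' ∈ D.E ⊓ stabilizer G v :=
        mem_inf.2 ⟨mul_mem (inv_mem e.2) e'.2, mem_stabilizer_iff.2 (by rw [mul_smul, ← h', inv_smul_smul])⟩
      rw [hE, mem_bot] at this
      exact inv_mul_eq_one.1 this
    obtain ⟨e, he⟩ := hf.2 ⟨u, (hiff u).1 hu⟩
    exact ⟨e, e.2, congrArg Subtype.val he⟩
  obtain ⟨e₀, he₀, hc₀⟩ := hEv c₀ h1
  have he₀1 : e₀ ≠ 1 := fun e => h2.1 (by rw [← hc₀, e, one_smul])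
  have hall : ∀ u, D.graph.Adj D.base u → u ≠ v → D.graph.Adj v u := by
    intro u hu huv
    obtain ⟨e, he, rfl⟩ := hEv u hu
    have he1 : e ≠ 1 := fun h => huv (by rw [h, one_smul])
    obtain ⟨m, hm, hme⟩ := D.trans e₀ he₀ he₀1
    obtain ⟨m', hm', hme'⟩ := D.trans e he he1
    obtain ⟨k, hk_def⟩ : ∃ k, k = m' * m⁻¹ := ⟨_, rfl⟩
    have hk : k ∈ D.N := hk_def ▸ mul_mem hm' (inv_mem hm)
    have hke : k * e₀ * k⁻¹ = e := by rw [← hme, ← hme', hk_def]; group
    -- correct by an element of the subgroup of order 16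
    obtain ⟨f, hf, hfv⟩ := hEv (k • v) (by
      rw [← D.fix_base hk, D.adj_smul]; exact (hiff v).2 (mem_orbit_self v))
    obtain ⟨s, hs_def⟩ : ∃ s, s = f⁻¹ * k := ⟨_, rfl⟩
    have hsv : s • v = v := by rw [hs_def, mul_smul, ← hfv, inv_smul_smul]
    have hse : s * e₀ * s⁻¹ = e := by
      calc s * e₀ * s⁻¹ = f⁻¹ * (k * e₀ * k⁻¹) * f := by rw [hs_def]; group
        _ = f⁻¹ * (f * e) := by rw [hke, mul_assoc, D.comm e he f hf]
        _ = e := inv_mul_cancel_left f e
    have hu2 : s • c₀ = e • v := by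
      rw [← hc₀, smul_smul, show s * e₀ = s * e₀ * s⁻¹ * s by group, hse, mul_smul, hsv]
    have := (D.adj_smul s v c₀).2 h2
    rwa [hsv, hu2] at this
  -- a complete graph on seventeen points would be a block
  classical
  haveI := Fintype.ofFinite D.Pt
  set K : Finset D.Pt := Finset.univ.filter fun u => u = D.base ∨ D.graph.Adj D.base u with hK
  have hcomplete : ∀ p ∈ K, ∀ q ∈ K, p ≠ q → D.graph.Adj p q := by
    intro p hp q hq hpq
    simp only [hK, Finset.mem_filter, Finset.mem_univ, true_and] at hp hq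
    rcases hp with rfl | hp
    · exact hq.resolve_left (Ne.symm hpq)
    rcases hq with rfl | hq
    · exact hp.symm
    obtain ⟨e, he, rfl⟩ := hEv p hp
    have hq' : D.graph.Adj D.base (e⁻¹ • q) := by
      rw [← D.fix_base (inv_mem (le_normalizer he)), D.adj_smul]; exact hq
    rw [← smul_inv_smul e q, D.adj_smul]
    exact hall _ hq' fun h => hpq (by rw [← h, smul_inv_smul])
  have hKc : K.card = 17 := by
    have h : insert D.base (Finset.univ.filter fun u => D.graph.Adj D.base u) = K := by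
      ext u; simp [hK]
    rw [← h, Finset.card_insert_of_notMem (by simp), ← Fintype.card_subtype, ← Nat.card_eq_fintype_card, D.card_nbrs H]
  have hclosed : ∀ p ∈ K, ∀ u, D.graph.Adj p u → u ∈ K := by
    intro p hp u hu
    have hsub : K.erase p ⊆ Finset.univ.filter fun w => D.graph.Adj p w := fun q hq =>
      Finset.mem_filter.2 ⟨Finset.mem_univ q, hcomplete p hp q (Finset.mem_of_mem_erase hq) (Finset.ne_of_mem_erase hq).symm⟩
    have he := Finset.eq_of_subset_of_card_le hsub (by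
      rw [Finset.card_erase_of_mem hp, hKc, ← Fintype.card_subtype, ← Nat.card_eq_fintype_card, D.card_nbrs H])
    exact Finset.mem_of_mem_erase (he.ge (Finset.mem_filter.2 ⟨Finset.mem_univ u, hu⟩))
  set M : Subgroup G := stabilizer G (K : Set D.Pt)
  have hmemM : ∀ g : G, g • D.base ∈ K → g ∈ M := by
    intro g hg
    refine mem_stabilizer_iff.2 (Set.eq_of_subset_of_ncard_le ?_ ?_ (Set.toFinite _))
    · rintro _ ⟨q, hq, rfl⟩
      show g • q ∈ (K : Set D.Pt)
      by_cases hqb : q = D.base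
      · rw [hqb]; exact hg
      have hq' : D.graph.Adj D.base q := hcomplete _ (by simp [hK]) q hq (Ne.symm hqb)
      exact hclosed _ hg _ ((D.adj_smul g _ _).2 hq')
    · rw [Set.ncard_smul_set]
  have horb : orbit M D.base = (K : Set D.Pt) := by
    ext u
    constructor
    · rintro ⟨⟨g, hg⟩, rfl⟩
      show g • D.base ∈ (K : Set D.Pt)
      rw [← mem_stabilizer_iff.1 hg]
      exact Set.smul_mem_smul_set (by simp [hK])
    · intro hu
      obtain ⟨g, rfl⟩ := D.exists_smul_base u
      exact ⟨⟨g, hmemM g hu⟩, rfl⟩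
  have h17 : 17 ∣ Nat.card M := by
    rw [← hKc, ← Nat.card_congr (orbitProdStabilizerEquivGroup M D.base), Nat.card_prod, horb]
    refine Dvd.dvd.mul_right (dvd_of_eq ?_) _
    simp
  have := h17.trans (card_subgroup_dvd_card M)
  rw [H.card] at this
  norm_num at this

theorem common_not_adj (H : Counts G) {a b : D.Pt} (hne : a ≠ b) (hab : ¬ D.graph.Adj a b) :
    Nat.card {c : D.Pt // D.graph.Adj a c ∧ D.graph.Adj b c} = 4 := by
  classical
  obtain ⟨g, rfl⟩ := D.exists_smul_base a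
  obtain ⟨b₀, rfl⟩ : ∃ b₀, g • b₀ = b := ⟨g⁻¹ • b, smul_inv_smul g b⟩
  rw [D.adj_smul] at hab
  have hne' : b₀ ≠ D.base := fun e => hne (by rw [e])
  refine (Nat.card_congr (Equiv.subtypeEquiv (MulAction.toPerm g)
    (p := fun c => D.graph.Adj D.base c ∧ D.graph.Adj b₀ c) fun c => ?_)).symm.trans ?_
  · rw [MulAction.toPerm_apply, D.adj_smul, D.adj_smul]
  obtain ⟨v, hv, h16, hE, hiff, h60⟩ := D.adj_base H
  set Far : D.Pt → Prop := fun c => c ≠ D.base ∧ ¬ D.graph.Adj D.base c with hFar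
  have hFarc : Nat.card {c // Far c} = 60 := by
    haveI := Fintype.ofFinite D.Pt
    have h := split_card (fun c : D.Pt => c ≠ D.base) (fun c => D.graph.Adj D.base c)
    have h76 : Nat.card {c : D.Pt // c ≠ D.base} = 76 := by
      rw [Nat.card_eq_fintype_card, Fintype.card_subtype_compl, Fintype.card_subtype_eq, ← Nat.card_eq_fintype_card,
        D.index_N H]
    have h' : Nat.card {c : D.Pt // c ≠ D.base ∧ D.graph.Adj D.base c} = 16 := by
      rw [← D.card_nbrs H D.base]
      exact Nat.card_congr (Equiv.subtypeEquivRight fun c => ⟨fun h => h.2, fun h => ⟨h.1.symm, h⟩⟩)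
    rw [h76, h'] at h
    show Nat.card {c : D.Pt // c ≠ D.base ∧ ¬ D.graph.Adj D.base c} = 60
    omega
  have hFarorb : ∀ c, Far c → ∃ n : D.N, n • b₀ = c := by
    have hsub : ∀ c ∈ orbit D.N b₀, Far c := by
      rintro _ ⟨n, rfl⟩
      refine ⟨D.ne_base_of n.2 hne', fun h => hab ?_⟩
      have h' : D.graph.Adj ((n : G) • D.base) ((n : G) • b₀) := by rw [D.fix_base n.2]; exact h
      exact (D.adj_smul _ _ _).1 h'
    let f : orbit D.N b₀ → {c // Far c} := fun c => ⟨c.1, hsub c.1 c.2⟩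
    have hf : Function.Bijective f := (Nat.bijective_iff_injective_and_card f).2
      ⟨fun x y e => Subtype.ext (by simpa [f, Subtype.ext_iff] using e), by rw [hFarc]; exact h60 b₀ hne' hab⟩
    intro c hc
    obtain ⟨⟨_, n, rfl⟩, e⟩ := hf.2 ⟨c, hc⟩
    exact ⟨n, congrArg Subtype.val e⟩
  -- double count the edges between the two orbits
  set μ := Nat.card {c : D.Pt // D.graph.Adj D.base c ∧ D.graph.Adj b₀ c} with hμ
  have hμc : ∀ c, Far c → Nat.card {u : D.Pt // D.graph.Adj D.base u ∧ D.graph.Adj u c} = μ := by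
    intro c hc
    obtain ⟨n, hn⟩ := hFarorb c hc
    have hn' : (n : G) • b₀ = c := hn
    rw [hμ, ← hn']
    refine (Nat.card_congr (Equiv.subtypeEquiv (MulAction.toPerm (n : G)) fun u => ?_)).symm
    rw [MulAction.toPerm_apply, D.adj_smul, D.graph.adj_comm u b₀]
    nth_rw 2 [← D.fix_base n.2]
    rw [D.adj_smul]
  have hdeg : ∀ u, D.graph.Adj D.base u → Nat.card {c : D.Pt // Far c ∧ D.graph.Adj u c} = 15 := by
    intro u hu
    have h := split_card (fun c : D.Pt => D.graph.Adj u c) (fun c => c = D.base)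
    have h1 : Nat.card {c : D.Pt // D.graph.Adj u c ∧ c = D.base} = 1 :=
      Nat.card_eq_one_iff_unique.2 ⟨⟨fun x y => Subtype.ext (x.2.2.trans y.2.2.symm)⟩, ⟨⟨D.base, hu.symm, rfl⟩⟩⟩
    have h2 := split_card (fun c : D.Pt => D.graph.Adj u c ∧ ¬ c = D.base) (fun c => D.graph.Adj D.base c)
    have h0 : Nat.card {c : D.Pt // (D.graph.Adj u c ∧ ¬ c = D.base) ∧ D.graph.Adj D.base c} = 0 := by
      refine Nat.le_zero.1 ((D.common_adj H hu) ▸ Nat.card_le_card_of_injective
        (fun c : {c : D.Pt // (D.graph.Adj u c ∧ ¬ c = D.base) ∧ D.graph.Adj D.base c} =>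
          (⟨c.1, c.2.2, c.2.1.1⟩ : {c : D.Pt // D.graph.Adj D.base c ∧ D.graph.Adj u c}))
        fun x y e => Subtype.ext (by simpa [Subtype.ext_iff] using e))
    have e15 : Nat.card {c : D.Pt // Far c ∧ D.graph.Adj u c} =
        Nat.card {c : D.Pt // (D.graph.Adj u c ∧ ¬ c = D.base) ∧ ¬ D.graph.Adj D.base c} :=
      Nat.card_congr (Equiv.subtypeEquivRight fun c => ⟨fun h => ⟨⟨h.2, h.1.1⟩, h.1.2⟩, fun h => ⟨⟨h.1.2, h.2⟩, h.1.1⟩⟩)
    rw [D.card_nbrs H u, h1] at h
    rw [h0] at h2
    rw [e15]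
    omega
  have hA := card_pairs (fun u : D.Pt => D.graph.Adj D.base u) (fun u c => Far c ∧ D.graph.Adj u c) hdeg
  have hB := card_pairs Far (fun c u => D.graph.Adj D.base u ∧ D.graph.Adj u c) hμc
  have hswap : Nat.card {p : D.Pt × D.Pt // D.graph.Adj D.base p.1 ∧ Far p.2 ∧ D.graph.Adj p.1 p.2} =
      Nat.card {p : D.Pt × D.Pt // Far p.1 ∧ D.graph.Adj D.base p.2 ∧ D.graph.Adj p.2 p.1} :=
    Nat.card_congr
      { toFun := fun p => ⟨(p.1.2, p.1.1), p.2.2.1, p.2.1, p.2.2.2⟩
        invFun := fun p => ⟨(p.1.2, p.1.1), p.2.2.1, p.2.1, p.2.2.2⟩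
        left_inv := fun _ => rfl
        right_inv := fun _ => rfl }
  rw [hA, hB, hFarc, D.card_nbrs H D.base] at hswap
  show μ = 4
  omega

/-- The graph is strongly regular. -/
theorem isSRG (H : Counts G) [Fintype D.Pt] [DecidableRel D.graph.Adj] : D.graph.IsSRGWith 77 16 0 4 where
  card := by rw [← Nat.card_eq_fintype_card]; exact D.index_N H
  regular := fun a => by
    rw [← SimpleGraph.card_neighborSet_eq_degree, ← Nat.card_eq_fintype_card]
    exact D.card_nbrs H a
  of_adj := fun a b h => by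
    rw [← Nat.card_eq_fintype_card]
    exact D.common_adj H h
  of_not_adj := fun a b hne h => by
    rw [← Nat.card_eq_fintype_card]
    exact D.common_not_adj H hne h

/-- The action on the points is faithful. -/
theorem faithful (H : Counts G) {g : G} (hg : ∀ a : D.Pt, g • a = a) : g = 1 := by
  set K : Subgroup G := (MulAction.toPermHom G D.Pt).ker with hK
  have hmem : ∀ {k : G}, k ∈ K ↔ ∀ a : D.Pt, k • a = a := fun {k} => by
    rw [hK, MonoidHom.mem_ker, Equiv.ext_iff]
    rfl
  suffices K = ⊥ by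
    have h : g ∈ K := hmem.2 hg
    rwa [this, mem_bot] at h
  by_contra hne
  obtain ⟨p, hp, hpd⟩ := Nat.exists_prime_and_dvd (show Nat.card K ≠ 1 from fun h => hne (card_eq_one.1 h))
  haveI := Fact.mk hp
  obtain ⟨k, hk⟩ := exists_prime_orderOf_dvd_card' (G := K) p hpd
  have hk' : orderOf (k : G) = p := by rw [Subgroup.orderOf_coe, hk]
  have hKN : K ≤ D.N := fun c hc => by rw [← D.stab_base, mem_stabilizer_iff]; exact hmem.1 hc D.base
  have hpN : p ∣ 2 ^ 7 * (3 ^ 2 * 5) := by
    rw [show 2 ^ 7 * (3 ^ 2 * 5) = 5760 from rfl, ← D.card_N]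
    exact hpd.trans (card_dvd_of_le hKN)
  have hconj : ∀ {a b : G}, IsConj a b → a ∈ K → b ∈ K := fun {a b} h ha => by
    obtain ⟨c, rfl⟩ := isConj_iff.1 h
    exact (MonoidHom.normal_ker _).conj_mem a ha c
  obtain ⟨v, hv, h16, hE, -, -⟩ := D.adj_base H
  rcases hp.dvd_mul.1 hpN with h | h
  · obtain rfl := (Nat.prime_dvd_prime_iff_eq hp Nat.prime_two).1 (hp.dvd_of_dvd_pow h)
    have hzK : D.z ∈ K := hconj (H.conj_two hk' D.hz) k.2
    have : D.z ∈ D.E ⊓ stabilizer G v := mem_inf.2 ⟨D.z_mem, mem_stabilizer_iff.2 (hmem.1 hzK v)⟩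
    rw [hE, mem_bot] at this
    have h1 := D.hz
    rw [this, orderOf_one] at h1
    norm_num at h1
  rcases hp.dvd_mul.1 h with h | h
  · obtain rfl := (Nat.prime_dvd_prime_iff_eq hp Nat.prime_three).1 (hp.dvd_of_dvd_pow h)
    obtain ⟨w, -, hQ, -, -, -⟩ := D.exists_three H
    have hP : ∀ c ∈ (D.P : Subgroup G), c ∈ K := fun c hc => by
      by_cases hc1 : c = 1
      · rw [hc1]; exact one_mem _
      · exact hconj (H.conj_three hk' (H.orderOf_mem hc hc1)) k.2
    haveI := Fintype.ofFinite D.Pt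
    classical
    have hall : (Finset.univ : Finset D.Pt) ⊆ {D.base, w} := fun a _ => by
      rcases hQ a (fun c hc => hmem.1 (hP c hc) a) with e | e <;> simp [e]
    have := (Finset.card_le_card hall).trans Finset.card_le_two
    rw [Finset.card_univ, ← Nat.card_eq_fintype_card, D.index_N H] at this
    omega
  · obtain rfl := (Nat.prime_dvd_prime_iff_eq hp (by norm_num : Nat.Prime 5)).1 h
    obtain ⟨P, w, -, -, hP, -, -⟩ := D.exists_five H
    obtain ⟨c, hc⟩ := (IsPGroup.of_card (n := 1) (by rw [Nat.card_zpowers, hk', pow_one]) :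
      IsPGroup 5 (zpowers (k : G))).exists_le_sylow
    obtain ⟨q, hq⟩ := MulAction.exists_smul_eq G c P
    have hPK : ∀ u ∈ (P : Subgroup G), u ∈ K := by
      intro u hu
      have he : zpowers (k : G) = (c : Subgroup G) := eq_of_le_of_card_ge hc (by
        rw [Nat.card_zpowers, hk', c.card_eq_multiplicity, H.card, show (443520 : ℕ) = 5 ^ 1 * 88704 from rfl,
          Nat.factorization_mul (by norm_num) (by norm_num), Finsupp.add_apply,
          (by norm_num : Nat.Prime 5).factorization_pow, Finsupp.single_eq_same,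
          Nat.factorization_eq_zero_of_not_dvd (by norm_num : ¬ 5 ∣ 88704)]; norm_num)
      rw [← hq, Sylow.coe_subgroup_smul] at hu
      obtain ⟨a, ha, rfl⟩ := hu
      rw [← he] at ha
      exact (MonoidHom.normal_ker _).conj_mem a (zpowers_le.2 k.2 ha) q
    haveI := Fintype.ofFinite D.Pt
    classical
    have hall : (Finset.univ : Finset D.Pt) ⊆ {D.base, w} := fun a _ => by
      rcases hP a (fun u hu => hmem.1 (hPK u hu) a) with e | e <;> simp [e]
    have := (Finset.card_le_card hall).trans Finset.card_le_two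
    rw [Finset.card_univ, ← Nat.card_eq_fintype_card, D.index_N H] at this
    omega

end Hexad

end CfsgLib.M22Id
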