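import Cfsg.Agent.M22Id.Sixteen

/-!
# Groups with the counts of `M₂₂`: the normaliser of the subgroup of order 16
-/

set_option autoImplicit false
set_option linter.style.haveILetI false
set_option linter.unusedSectionVars false

namespace CfsgLib.M22Id

open Subgroup CfsgLib.M11Nse CfsgLib.M12Nse
open scoped Pointwise

variable {G : Type*} [Group G] [Finite G]

local instance : Fact (Nat.Prime 3) := ⟨Nat.prime_three⟩
local instance : Fact (Nat.Prime 2) := ⟨Nat.prime_two⟩

/-- The subgroup of order 16 with its normaliser. -/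
structure Hexad (G : Type*) [Group G] where
  E : Subgroup G
  z : G
  x : G
  P : Sylow 3 G
  hz : orderOf z = 2
  hx : orderOf x = 3
  hxz : Commute x z
  hxP : x ∈ (P : Subgroup G)
  card_E : Nat.card E = 16
  comm : ∀ a ∈ E, ∀ b ∈ E, a * b = b * a
  sq : ∀ a ∈ E, a * a = 1
  z_mem : z ∈ E
  le_R : E ≤ R z
  fixed_le : ∀ g ∈ R z, Commute x g → g ∈ E
  cz_le : cz z ≤ normalizer (E : Set G)
  P_le : (P : Subgroup G) ≤ normalizer (E : Set G)
  card_N : Nat.card (normalizer (E : Set G)) = 5760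
  trans : ∀ a ∈ E, a ≠ 1 → ∃ n ∈ normalizer (E : Set G), n * z * n⁻¹ = a

theorem mem_normalizer_of_conj {E : Subgroup G} {c : G} (h : ∀ g ∈ E, c * g * c⁻¹ ∈ E) :
    c ∈ normalizer (E : Set G) := by
  refine mem_normalizer_iff_map_conj_eq.2 (eq_of_le_of_card_ge ?_ ?_)
  · rintro _ ⟨g, hg, rfl⟩; exact h g hg
  · rw [card_map_of_injective (MulAut.conj c).injective]

/-- Five points closed in the way of a vertex of a line configuration are too few. -/
theorem five_not {O : Finset G} (h5 : O.card = 5) {z w v : G} (hz : z ∈ O) (hw : w ∈ O) (hzw : z * w ∈ O)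
    (hv : v ∈ O) (hzv : z * v ∈ O) (hne : [z, w, z * w, v, z * v].Nodup)
    (hz2 : z * z = 1) (hvw : v * v = 1) (hww : w * w = 1) (hcz : z * w = w * z)
    (hclosed : ∀ o ∈ O, o ≠ w → w * o ∈ O) : False := by
  classical
  simp only [List.nodup_cons, List.mem_cons, List.not_mem_nil, or_false, List.nodup_nil, and_true, not_or,
    not_false_eq_true] at hne
  obtain ⟨⟨h1, h2, h3, h4⟩, ⟨h5', h6, h7⟩, ⟨h8, h9⟩, h10⟩ := hne
  have hsub : ({z, w, z * w, v, z * v} : Finset G) ⊆ O := by
    simp [Finset.insert_subset_iff, hz, hw, hzw, hv, hzv]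
  have hc : ({z, w, z * w, v, z * v} : Finset G).card = 5 := by
    rw [Finset.card_insert_of_notMem (by simp [h1, h2, h3, h4]), Finset.card_insert_of_notMem (by simp [h5', h6, h7]),
      Finset.card_insert_of_notMem (by simp [h8, h9]), Finset.card_pair h10]
  have hO := Finset.eq_of_subset_of_card_le hsub (by rw [hc, h5])
  have := hclosed v hv (Ne.symm h6)
  rw [← hO] at this
  simp only [Finset.mem_insert, Finset.mem_singleton] at this
  rcases this with e | e | e | e | e
  · refine h8 ?_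
    calc z * w = w * v * w := by rw [e]
      _ = w * (v * w) := mul_assoc _ _ _
      _ = v := by
        have : v * w = w * v := by
          have hz' : (w * v) * (w * v) = 1 := by rw [e, hz2]
          calc v * w = w * (w * v * (w * v)) * v := by
                rw [show w * (w * v * (w * v)) * v = (w * w) * v * w * (v * v) by group, hww, hvw, one_mul, mul_one]
            _ = w * v := by rw [hz', mul_one]
        rw [this, ← mul_assoc, hww, one_mul]
  · have hv1 : v = 1 := mul_eq_left.1 e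
    have := hclosed z hz h1
    exact h4 (by rw [hv1, mul_one])
  · exact h3 (mul_left_cancel (e.trans hcz)).symm
  · have hw1 : w = 1 := mul_eq_right.1 e
    exact h2 (by rw [hw1, mul_one])
  · exact h1 (mul_right_cancel e).symm

namespace Counts

variable (H : Counts G)
include H

theorem exists_hexad : Nonempty (Hexad G) := by
  classical
  obtain ⟨x, z, hx, hz, hxz, hc16⟩ := H.exists_sixteen
  obtain ⟨P, hxP⟩ := H.exists_P hx
  obtain ⟨y, hyP, hy⟩ := H.exists_out (P := P) hx
  obtain ⟨hX, hdist⟩ := H.gen_prop hx hxP hyP hy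
  set E := H.Eg z hx with hE
  set W := H.W hx with hW
  have hEp : IsPGroup 2 E := (H.isPGroup_R hz).to_le inf_le_left
  have hPE := H.conj_E_P hz hx hxz hxP
  have hWE : W ≤ E := H.W_le_E hz hx hxz
  have hzW : z ∈ W := ((H.mem_W_ne hx).2 ⟨hz, hxz⟩).1
  have hz1 : z ≠ 1 := fun e => by simp [e] at hz
  -- a second four-group
  obtain ⟨j, hj0, hj⟩ : ∃ j : Fin 4, j ≠ 0 ∧ ∀ g, Commute (gen x y j) g → g * g = 1 → g ∈ E := by
    have h := H.two_group_mod hx hxP hyP hy hEp hPE
    set S := Finset.univ.filter fun i : Fin 4 => ∀ g, Commute (gen x y i) g → g * g = 1 → g ∈ E with hS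
    have h0 : (0 : Fin 4) ∈ S := Finset.mem_filter.2 ⟨Finset.mem_univ _, fun g hg h2 => hWE ((H.mem_W hx).2 ⟨hg, h2⟩)⟩
    rw [hE, hc16] at h
    have hle := Finset.card_le_univ S
    rw [Fintype.card_fin] at hle
    have h2 : 1 < S.card := by
      have := Finset.card_pos.2 ⟨0, h0⟩
      omega
    obtain ⟨j, hjS, hj⟩ := Finset.exists_mem_ne h2 0
    exact ⟨j, hj, (Finset.mem_filter.1 hjS).2⟩
  set V := H.W (hX j) with hV
  have hVE : V ≤ E := fun g hg => hj g ((H.mem_W (hX j)).1 hg).1 ((H.mem_W (hX j)).1 hg).2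
  have hsup : E = W ⊔ V := by
    refine (eq_of_le_of_card_ge (sup_le hWE hVE) ?_).symm
    have hn : ∀ q ∈ W ⊔ V, x * q * x⁻¹ ∈ W ⊔ V := by
      intro q hq
      have hle : (W ⊔ V).map (MulAut.conj x).toMonoidHom ≤ W ⊔ V := by
        rw [Subgroup.map_sup]
        refine sup_le_sup ?_ ?_ <;> rintro _ ⟨q', hq', rfl⟩
        · exact H.conj_W hx (Or.inl (H.conj_eq_self (Commute.refl _))) hq'
        · exact H.conj_W (hX j) (Or.inl (H.conj_eq_self (H.comm_P P hxP (H.gen_mem hxP hyP j)))) hq'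
      exact hle ⟨q, hq, rfl⟩
    rcases H.card_two hz hx ((sup_le hWE hVE).trans inf_le_left) hn le_sup_left with h | h | h
    · exfalso
      obtain ⟨v, hv2, hvc⟩ := H.exists_two (hX j)
      have hv := ((H.mem_W_ne (hX j)).2 ⟨hv2, hvc⟩).1
      have hvW : v ∈ W := (eq_of_le_of_card_ge (le_sup_left : W ≤ W ⊔ V) (by rw [h, hW, H.card_W])).ge (mem_sup_right hv)
      have := H.W_disjoint hx (hX j) hxP (H.gen_mem hxP hyP j) (hdist 0 j hj0.symm) hvW hv
      rw [this, orderOf_one] at hv2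
      norm_num at hv2
    · rw [h, hE, hc16]
    · rw [h, hE, hc16]; norm_num
  have hWc : W ≤ centralizer (E : Set G) := fun a ha => mem_centralizer_iff.2 fun b hb =>
    (mem_centralizer_iff.1 (mem_inf.1 (show b ∈ H.Eg z hx from hb)).2 a ha).symm
  have hVc : V ≤ centralizer (E : Set G) := by
    refine le_centralizer_iff.1 ?_
    rw [hsup]
    refine sup_le (fun a ha => mem_centralizer_iff.2 fun b hb =>
      (mem_centralizer_iff.1 (hWc ha) b (hVE hb))) fun a ha => mem_centralizer_iff.2 fun b hb => ?_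
    exact mem_cz.1 (H.W_le_cz (hX j) ha hb)
  have hcomm : ∀ a ∈ E, ∀ b ∈ E, a * b = b * a := fun a ha b hb =>
    (mem_centralizer_iff.1 ((sup_le hWc hVc) (hsup ▸ hb : b ∈ W ⊔ V)) a ha)
  have hsq : ∀ a ∈ E, a * a = 1 := by
    let S : Subgroup G :=
      { carrier := {g | g ∈ E ∧ g * g = 1}
        one_mem' := ⟨one_mem _, one_mul 1⟩
        mul_mem' := fun {a b} ha hb => ⟨mul_mem ha.1 hb.1, by
          rw [show a * b * (a * b) = a * (b * a) * b by group, hcomm b hb.1 a ha.1,
            show a * (a * b) * b = a * a * (b * b) by group, ha.2, hb.2, one_mul]⟩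
        inv_mem' := fun {a} ha => ⟨inv_mem ha.1, by rw [← mul_inv_rev, ha.2, inv_one]⟩ }
    have hle : W ⊔ V ≤ S := sup_le (fun a ha => ⟨hWE ha, ((H.mem_W hx).1 ha).2⟩)
      fun a ha => ⟨hVE ha, ((H.mem_W (hX j)).1 ha).2⟩
    exact fun a ha => (hle (hsup ▸ ha)).2
  -- the normaliser contains the centraliser of `z`
  set N := normalizer (E : Set G) with hN
  have hRN : R z ≤ N := H.normal_R hz hx hxz inf_le_left
    (fun q hq => hPE x hxP q hq) hWE hc16
  obtain ⟨t, htz, ⟨k, hk⟩, htx⟩ := H.exists_inverter hz hx hxz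
  have hxN : x ∈ N := mem_normalizer_of_conj fun g hg => hPE x hxP g hg
  have htN : t ∈ N := mem_normalizer_of_conj fun g hg => H.conj_E hz hx hxz (Or.inr htx) hg
  have htR : t ∉ R z := fun h => by
    have hc : x * t⁻¹ * x⁻¹ ∈ R z := H.conj_R hxz (inv_mem h)
    have hm := mul_mem h hc
    rw [show t * (x * t⁻¹ * x⁻¹) = t * x * t⁻¹ * x⁻¹ by group, htx] at hm
    obtain ⟨i, hi⟩ := H.isPGroup_R hz ⟨_, hm⟩
    have h1 : orderOf (x⁻¹ * x⁻¹) ∣ 2 ^ i := orderOf_dvd_of_pow_eq_one (congrArg Subtype.val hi)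
    have h3 : orderOf (x⁻¹ * x⁻¹) ∣ 3 := by
      refine orderOf_dvd_of_pow_eq_one ?_
      rw [show (x⁻¹ * x⁻¹) ^ 3 = ((x ^ 3) ^ 2)⁻¹ by group, ← hx, pow_orderOf_eq_one, one_pow, inv_one]
    have h := orderOf_eq_one_iff.1 (Nat.eq_one_of_dvd_coprimes (Nat.Coprime.pow_left i (by norm_num)) h1 h3)
    rw [mul_eq_one_iff_eq_inv, inv_inv] at h
    have h2 : x ^ 2 = 1 := by rw [sq]; nth_rw 1 [← h]; exact inv_mul_cancel x
    have := orderOf_dvd_of_pow_eq_one h2
    rw [hx] at this
    norm_num at this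
  have hcz : cz z ≤ N := by
    set K := cz z ⊓ N with hK
    have hp : IsPGroup 2 (R z ⊔ zpowers t : Subgroup G) := (H.isPGroup_R hz).to_sup_of_normal_left'
      (IsPGroup.iff_card.2 (by
        obtain ⟨j, -, hj⟩ := (Nat.dvd_prime_pow Nat.prime_two).1 (orderOf_dvd_of_pow_eq_one hk)
        exact ⟨j, by rw [Nat.card_zpowers, hj]⟩))
      (zpowers_le.2 (mem_normalizer_of_conj fun g hg => conj_mem_R htz hg))
    obtain ⟨i, hi⟩ := IsPGroup.iff_card.1 hp
    have hle : R z ⊔ zpowers t ≤ K := sup_le (le_inf (R_le z) hRN) (zpowers_le.2 (mem_inf.2 ⟨htz, htN⟩))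
    have hi7 : 7 ≤ i := by
      by_contra hlt
      have he := eq_of_le_of_card_ge (le_sup_left : R z ≤ R z ⊔ zpowers t) (by
        rw [hi, H.card_R hz, show 64 = 2 ^ 6 from rfl]
        exact Nat.pow_le_pow_right two_pos (by omega))
      exact htR (he.ge (mem_sup_right (mem_zpowers t)))
    have h128 : 128 ∣ Nat.card K := (Nat.pow_dvd_pow 2 hi7).trans (hi ▸ card_dvd_of_le hle)
    have h3 : 3 ∣ Nat.card K := hx ▸ Subgroup.orderOf_dvd_natCard _ (mem_inf.2 ⟨mem_cz.2 hxz.eq, hxN⟩)
    have he : K = cz z := eq_of_le_of_card_ge inf_le_left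
      (Nat.le_of_dvd Nat.card_pos (H.cz_two hz ▸ Nat.Coprime.mul_dvd_of_dvd_of_dvd (by norm_num : Nat.Coprime 128 3) h128 h3))
    exact he ▸ inf_le_right
  have hPN : (P : Subgroup G) ≤ N := fun p hp => mem_normalizer_of_conj fun g hg => hPE p hp g hg
  -- the orbit of `z`
  haveI := Fintype.ofFinite G
  set O : Finset G := Finset.univ.filter fun a => ∃ n ∈ N, n * z * n⁻¹ = a with hO
  have hmemO : ∀ a, a ∈ O ↔ ∃ n ∈ N, n * z * n⁻¹ = a := fun a => by simp [hO]
  have hconjO : ∀ n ∈ N, ∀ a ∈ O, n * a * n⁻¹ ∈ O := fun n hn a ha => by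
    obtain ⟨m, hm, rfl⟩ := (hmemO a).1 ha
    exact (hmemO _).2 ⟨n * m, mul_mem hn hm, by group⟩
  have hOE : ∀ a ∈ O, a ∈ E ∧ a ≠ 1 := fun a ha => by
    obtain ⟨n, hn, rfl⟩ := (hmemO a).1 ha
    exact ⟨(mem_normalizer_iff.1 hn z).1 (hWE hzW), fun e => hz1 (by rwa [conj_eq_one_iff] at e)⟩
  have hcardN : Nat.card N = O.card * 384 := by
    let K : Subgroup N := (cz z).subgroupOf N
    have hidx : K.index = O.card := by
      rw [index_eq_card, ← Fintype.card_coe, ← Nat.card_eq_fintype_card]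
      refine Nat.card_eq_of_bijective (fun q => Quotient.liftOn' q
        (fun g => (⟨g.1 * z * g.1⁻¹, (hmemO _).2 ⟨g, g.2, rfl⟩⟩ : {a // a ∈ O})) fun a b hab => ?_) ⟨fun p q => ?_, fun u => ?_⟩
      · rw [QuotientGroup.leftRel_apply, mem_subgroupOf, mem_cz] at hab
        refine Subtype.ext ?_
        have hab' : a.1⁻¹ * b.1 * z = z * (a.1⁻¹ * b.1) := hab
        calc a.1 * z * a.1⁻¹ = a.1 * (z * (a.1⁻¹ * b.1)) * b.1⁻¹ := by group
          _ = a.1 * (a.1⁻¹ * b.1 * z) * b.1⁻¹ := by rw [hab']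
          _ = _ := by group
      · induction p using QuotientGroup.induction_on with | H a => ?_
        induction q using QuotientGroup.induction_on with | H b => ?_
        intro e
        have e' : a.1 * z * a.1⁻¹ = b.1 * z * b.1⁻¹ := congrArg Subtype.val e
        rw [QuotientGroup.eq, mem_subgroupOf, mem_cz]
        show a.1⁻¹ * b.1 * z = z * (a.1⁻¹ * b.1)
        calc a.1⁻¹ * b.1 * z = a.1⁻¹ * (b.1 * z * b.1⁻¹) * b.1 := by group
          _ = a.1⁻¹ * (a.1 * z * a.1⁻¹) * b.1 := by rw [e']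
          _ = _ := by group
      · obtain ⟨n, hn, e⟩ := (hmemO u.1).1 u.2
        exact ⟨((⟨n, hn⟩ : N) : N ⧸ K), Subtype.ext e⟩
    rw [← K.card_mul_index, hidx, Nat.card_congr (subgroupOfEquivOfLe hcz).toEquiv, H.cz_two hz, mul_comm]
  have hE15 : (Finset.univ.filter fun g : G => g ∈ E ∧ g ≠ 1).card = 15 := by
    have h : insert (1 : G) (Finset.univ.filter fun g => g ∈ E ∧ g ≠ 1) = Finset.univ.filter fun g => g ∈ E := by
      ext g
      by_cases hg : g = 1
      · simp [hg]
      · simp [hg]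
    have h2 := congrArg Finset.card h
    have h16 : (Finset.univ.filter fun g : G => g ∈ E).card = 16 := by
      rw [← Fintype.card_subtype, ← Nat.card_eq_fintype_card]; exact hc16
    rw [Finset.card_insert_of_notMem (by simp), h16] at h2
    omega
  have hO15 : O.card ≤ 15 := hE15 ▸ Finset.card_le_card fun a ha => by simpa using hOE a ha
  have h1155 : O.card ∣ 1155 := by
    have h := card_subgroup_dvd_card N
    rw [hcardN, H.card, show 443520 = 1155 * 384 from rfl] at h
    exact Nat.dvd_of_mul_dvd_mul_right (by norm_num) h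
  have hno : ∀ r, r = 7 ∨ r = 11 → ¬ r ∣ O.card := by
    intro r hr hd
    haveI : Fact r.Prime := ⟨by rcases hr with rfl | rfl <;> norm_num⟩
    obtain ⟨u, hu⟩ := exists_prime_orderOf_dvd_card' (G := N) r (hcardN ▸ hd.mul_right 384)
    have hu' : orderOf (u : G) = r := by rw [Subgroup.orderOf_coe, hu]
    have hmod := card_modEq_fixed (p := r) (n := 1) (x := (u : G)) (by rw [pow_one, ← hu', pow_orderOf_eq_one])
      (fun g => g ∈ E ∧ g ≠ 1) fun g => and_congr (mem_normalizer_iff.1 u.2 g) (by simp)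
    rw [show Nat.card {g : G // g ∈ E ∧ g ≠ 1} = 15 by rw [Nat.card_eq_fintype_card, Fintype.card_subtype]; exact hE15] at hmod
    rcases Nat.eq_zero_or_pos (Nat.card {g : G // (g ∈ E ∧ g ≠ 1) ∧ g * u = u * g}) with h0 | hpos
    · rw [h0, Nat.modEq_zero_iff_dvd] at hmod
      rcases hr with rfl | rfl <;> norm_num at hmod
    · obtain ⟨⟨g, ⟨hg, hg1⟩, hgu⟩⟩ := (Nat.card_pos_iff.1 hpos).1
      exact H.not_dvd_cz (Or.inr hr) (x := g)
        (by rw [orderOf_eq_prime (by rw [sq, hsq g hg]) hg1]; rcases hr with rfl | rfl <;> norm_num)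
        (hu' ▸ Subgroup.orderOf_dvd_natCard _ (mem_cz.2 hgu.symm))
  -- the second involution of the four-group and its class under `C(z)`
  obtain ⟨w, hwW, hw1, hwz⟩ : ∃ w ∈ W, w ≠ 1 ∧ w ≠ z := by
    by_contra hcon
    push Not at hcon
    have hle : Nat.card W ≤ Nat.card Bool := Nat.card_le_card_of_injective (fun g : W => decide (g.1 = 1))
      fun a b e => Subtype.ext (by
        have e' : a.1 = 1 ↔ b.1 = 1 := by simpa using e
        by_cases ha : a.1 = 1
        · rw [ha, e'.1 ha]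
        · rw [hcon a a.2 ha, hcon b b.2 (mt e'.2 ha)])
    rw [hW, H.card_W, Nat.card_eq_fintype_card, Fintype.card_bool] at hle
    omega
  have hw2 : orderOf w = 2 := ((H.mem_W_ne hx).1 ⟨hwW, hw1⟩).1
  have hzO : z ∈ O := (hmemO z).2 ⟨1, one_mem _, by simp⟩
  have hWO : ∀ a ∈ W, a ≠ 1 → a ∈ O := fun a ha ha1 => by
    obtain ⟨q, hq, e⟩ := H.W_trans hx hxP hzW hz1 ha ha1
    exact (hmemO a).2 ⟨q, hPN hq, e⟩
  have hcent : cz z ⊓ cz w ≤ centralizer (W : Set G) := by
    intro g hg
    refine mem_centralizer_iff.2 fun a ha => ?_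
    obtain ⟨hgz, hgw⟩ := mem_inf.1 hg
    by_cases ha1 : a = 1
    · rw [ha1, one_mul, mul_one]
    by_cases haz : a = z
    · rw [haz]; exact (mem_cz.1 hgz).symm
    by_cases haw : a = w
    · rw [haw]; exact (mem_cz.1 hgw).symm
    have ha' := (H.mem_W_ne hx).1 ⟨ha, ha1⟩
    have hzw : z * w ∈ W := mul_mem hzW hwW
    have h3 := H.count_two_cz hx
    have hzw2 : orderOf (z * w) = 2 ∧ Commute x (z * w) := (H.mem_W_ne hx).1 ⟨hzw, fun e => hwz (by
      rw [eq_inv_of_mul_eq_one_right e, inv_of_two hz])⟩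
    by_contra hne
    have hsub : ({z, w, z * w, a} : Finset G) ⊆ Finset.univ.filter fun v => orderOf v = 2 ∧ Commute x v := by
      simp [Finset.insert_subset_iff, hz, hxz, hw2, ((H.mem_W hx).1 hwW).1, hzw2, ha']
    have hle := Finset.card_le_card hsub
    rw [← Fintype.card_subtype, ← Nat.card_eq_fintype_card, h3, Finset.card_insert_of_notMem, Finset.card_insert_of_notMem,
      Finset.card_pair] at hle
    · omega
    · intro e
      exact hne (by rw [← e]; exact ((show Commute g z from mem_cz.1 hgz).mul_right (mem_cz.1 hgw)).eq.symm)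
    · simp only [Finset.mem_insert, Finset.mem_singleton, not_or]
      exact ⟨fun e => hz1 (mul_eq_right.1 e.symm), Ne.symm haw⟩
    · simp only [Finset.mem_insert, Finset.mem_singleton, not_or]
      exact ⟨Ne.symm hwz, fun e => hw1 (mul_eq_left.1 e.symm), Ne.symm haz⟩
  have h96 : Nat.card (cz z ⊓ cz w : Subgroup G) ≤ 96 := by
    let f : (cz z ⊓ cz w : Subgroup G) →* Equiv.Perm (Sylow 2 (cz z)) :=
      (sylPerm z).comp (inclusion inf_le_left)
    have hker : Nat.card f.ker ≤ 16 := by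
      rw [← hc16, ← card_map_of_injective (cz z ⊓ cz w).subtype_injective (K := f.ker)]
      refine Nat.le_of_dvd Nat.card_pos (card_dvd_of_le (H.le_E hz hx hxz ?_ ?_ ?_))
      · refine (H.isPGroup_R hz).to_le ?_
        rintro _ ⟨g, hg, rfl⟩
        exact (mem_R (mem_inf.1 g.2).1).2 hg
      · rintro _ ⟨g, -, rfl⟩
        exact hcent g.2
      · rintro _ ⟨g, hg, rfl⟩
        have hgR : (g : G) ∈ R z := (mem_R (mem_inf.1 g.2).1).2 hg
        have hxw : Commute x w := ((H.mem_W hx).1 hwW).1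
        have hmem : x * g * x⁻¹ ∈ cz z ⊓ cz w := by
          have hxm : x ∈ cz z ⊓ cz w := mem_inf.2 ⟨mem_cz.2 hxz.eq, mem_cz.2 hxw.eq⟩
          exact mul_mem (mul_mem hxm g.2) (inv_mem hxm)
        exact ⟨⟨_, hmem⟩, (mem_R (mem_inf.1 hmem).1).1 (H.conj_R hxz hgR), rfl⟩
    have hr : Nat.card f.range ≤ 6 := by
      refine (Nat.le_of_dvd Nat.card_pos (card_subgroup_dvd_card _)).trans (le_of_eq ?_)
      rw [Nat.card_perm, (H.sylow_two_cz hz).1]; rfl
    rw [← f.ker.card_mul_index, index_ker]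
    exact (Nat.mul_le_mul hker hr).trans (by norm_num)
  have hOw : 4 ≤ (O.erase z).card := by
    let K : Subgroup (cz z) := (cz w).subgroupOf (cz z)
    have hi : 4 ≤ K.index := by
      have h := K.card_mul_index
      rw [H.cz_two hz, ← card_map_of_injective (cz z).subtype_injective (K := K), subgroupOf_map_subtype, inf_comm] at h
      by_contra hlt
      have := Nat.mul_le_mul h96 (show K.index ≤ 3 by omega)
      omega
    refine hi.trans ?_
    rw [index_eq_card, ← Fintype.card_coe, ← Nat.card_eq_fintype_card]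
    refine Nat.card_le_card_of_injective (fun q => Quotient.liftOn' q
      (fun g => (⟨g.1 * w * g.1⁻¹, Finset.mem_erase.2 ⟨fun e => hwz ?_, hconjO g (hcz g.2) w (hWO w hwW hw1)⟩⟩ :
        {a // a ∈ O.erase z})) fun a b hab => ?_) fun p q => ?_
    · exact mul_left_cancel (mul_right_cancel (e.trans (mul_inv_eq_iff_eq_mul.2 (mem_cz.1 g.2)).symm))
    · rw [QuotientGroup.leftRel_apply, mem_subgroupOf, mem_cz] at hab
      refine Subtype.ext ?_
      have hab' : a.1⁻¹ * b.1 * w = w * (a.1⁻¹ * b.1) := hab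
      calc a.1 * w * a.1⁻¹ = a.1 * (w * (a.1⁻¹ * b.1)) * b.1⁻¹ := by group
        _ = a.1 * (a.1⁻¹ * b.1 * w) * b.1⁻¹ := by rw [hab']
        _ = _ := by group
    · induction p using QuotientGroup.induction_on with | H a => ?_
      induction q using QuotientGroup.induction_on with | H b => ?_
      intro e
      have e' : a.1 * w * a.1⁻¹ = b.1 * w * b.1⁻¹ := congrArg Subtype.val e
      rw [QuotientGroup.eq, mem_subgroupOf, mem_cz]
      show a.1⁻¹ * b.1 * w = w * (a.1⁻¹ * b.1)
      calc a.1⁻¹ * b.1 * w = a.1⁻¹ * (b.1 * w * b.1⁻¹) * b.1 := by group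
        _ = a.1⁻¹ * (a.1 * w * a.1⁻¹) * b.1 := by rw [e']
        _ = _ := by group
  rw [Finset.card_erase_of_mem hzO] at hOw
  have hne5 : O.card ≠ 5 := by
    intro h5
    have hzwW : z * w ∈ W := mul_mem hzW hwW
    have hzw1 : z * w ≠ 1 := fun e => hwz (by rw [eq_inv_of_mul_eq_one_right e, inv_of_two hz])
    have hzwO : z * w ∈ O := hWO _ hzwW hzw1
    -- the points other than `z` form the class of `w` under the centraliser of `z`
    have hclass : ∀ a ∈ O, a ≠ z → ∃ c ∈ cz z, c * w * c⁻¹ = a := by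
      have hsub : (Finset.univ.filter fun a => ∃ c ∈ cz z, c * w * c⁻¹ = a) ⊆ O.erase z := fun a ha => by
        obtain ⟨c, hc, rfl⟩ := (Finset.mem_filter.1 ha).2
        refine Finset.mem_erase.2 ⟨fun e => hwz ?_, hconjO c (hcz hc) w (hWO w hwW hw1)⟩
        exact mul_left_cancel (mul_right_cancel (e.trans (mul_inv_eq_iff_eq_mul.2 (mem_cz.1 hc)).symm))
      let K : Subgroup (cz z) := (cz w).subgroupOf (cz z)
      have hi : 4 ≤ K.index := by
        have h := K.card_mul_index
        rw [H.cz_two hz, ← card_map_of_injective (cz z).subtype_injective (K := K), subgroupOf_map_subtype, inf_comm] at h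
        by_contra hlt
        have := Nat.mul_le_mul h96 (show K.index ≤ 3 by omega)
        omega
      have hge : (O.erase z).card ≤ (Finset.univ.filter fun a => ∃ c ∈ cz z, c * w * c⁻¹ = a).card := by
        rw [Finset.card_erase_of_mem hzO, h5]
        refine le_trans hi ?_
        rw [index_eq_card, ← Fintype.card_coe, ← Nat.card_eq_fintype_card]
        refine Nat.card_le_card_of_injective (fun q => Quotient.liftOn' q
          (fun g => (⟨g.1 * w * g.1⁻¹, Finset.mem_filter.2 ⟨Finset.mem_univ _, g, g.2, rfl⟩⟩ :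
            {a // a ∈ Finset.univ.filter fun a => ∃ c ∈ cz z, c * w * c⁻¹ = a})) fun a b hab => ?_) fun p q => ?_
        · rw [QuotientGroup.leftRel_apply, mem_subgroupOf, mem_cz] at hab
          refine Subtype.ext ?_
          have hab' : a.1⁻¹ * b.1 * w = w * (a.1⁻¹ * b.1) := hab
          calc a.1 * w * a.1⁻¹ = a.1 * (w * (a.1⁻¹ * b.1)) * b.1⁻¹ := by group
            _ = a.1 * (a.1⁻¹ * b.1 * w) * b.1⁻¹ := by rw [hab']
            _ = _ := by group
        · induction p using QuotientGroup.induction_on with | H a => ?_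
          induction q using QuotientGroup.induction_on with | H b => ?_
          intro e
          have e' : a.1 * w * a.1⁻¹ = b.1 * w * b.1⁻¹ := congrArg Subtype.val e
          rw [QuotientGroup.eq, mem_subgroupOf, mem_cz]
          show a.1⁻¹ * b.1 * w = w * (a.1⁻¹ * b.1)
          calc a.1⁻¹ * b.1 * w = a.1⁻¹ * (b.1 * w * b.1⁻¹) * b.1 := by group
            _ = a.1⁻¹ * (a.1 * w * a.1⁻¹) * b.1 := by rw [e']
            _ = _ := by group
      have he := Finset.eq_of_subset_of_card_le hsub hge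
      intro a ha haz
      have := he.ge (Finset.mem_erase.2 ⟨haz, ha⟩)
      exact (Finset.mem_filter.1 this).2
    have hzmul : ∀ a ∈ O, a ≠ z → z * a ∈ O := fun a ha haz => by
      obtain ⟨c, hc, rfl⟩ := hclass a ha haz
      have hcz' : c * z * c⁻¹ = z := mul_inv_eq_iff_eq_mul.2 (mem_cz.1 hc)
      have := hconjO c (hcz hc) _ hzwO
      rwa [show c * (z * w) * c⁻¹ = c * z * c⁻¹ * (c * w * c⁻¹) by group, hcz'] at this
    have hmulall : ∀ b ∈ O, ∀ a ∈ O, a ≠ b → b * a ∈ O := by
      intro b hb a ha hab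
      obtain ⟨n, hn, rfl⟩ := (hmemO b).1 hb
      have ha' := hconjO n⁻¹ (inv_mem hn) a ha
      have hne' : n⁻¹ * a * n⁻¹⁻¹ ≠ z := fun e => hab (by rw [← e]; group)
      have h := hconjO n hn _ (hzmul _ ha' hne')
      rwa [show n * (z * (n⁻¹ * a * n⁻¹⁻¹)) * n⁻¹ = n * z * n⁻¹ * a by group] at h
    obtain ⟨v, hv, hv'⟩ : ∃ v ∈ O, v ∉ ({z, w, z * w} : Finset G) := by
      by_contra hcon
      push Not at hcon
      have := Finset.card_le_card hcon
      have h3 : ({z, w, z * w} : Finset G).card ≤ 3 := Finset.card_le_three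
      omega
    simp only [Finset.mem_insert, Finset.mem_singleton, not_or] at hv'
    obtain ⟨hvz, hvw, hvzw⟩ := hv'
    have hv1 := (hOE v hv).2
    refine five_not h5 hzO (hWO w hwW hw1) hzwO hv (hzmul v hv hvz) ?_ (sq_of_two hz) (hsq v (hOE v hv).1)
      (sq_of_two hw2) (hcomm z (hWE hzW) w (hWE hwW)) fun o ho hne => hmulall w (hWO w hwW hw1) o ho hne
    have e1 : z ≠ z * w := fun e => hw1 (mul_eq_left.1 e.symm)
    have e2 : w ≠ z * w := fun e => hz1 (mul_eq_right.1 e.symm)
    have e3 : z ≠ z * v := fun e => hv1 (mul_eq_left.1 e.symm)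
    have e4 : w ≠ z * v := fun e => hvzw (by rw [e, ← mul_assoc, sq_of_two hz, one_mul])
    have e5 : v ≠ z * v := fun e => hz1 (mul_eq_right.1 e.symm)
    simp only [List.nodup_cons, List.mem_cons, List.not_mem_nil, or_false, List.nodup_nil, and_true, not_or,
      not_false_eq_true]
    exact ⟨⟨Ne.symm hwz, e1, Ne.symm hvz, e3⟩, ⟨e2, Ne.symm hvw, e4⟩, ⟨Ne.symm hvzw, fun e => hvw (mul_left_cancel e).symm⟩, e5⟩
  have hO15' : O.card = 15 := by
    have hmem : O.card ∈ (1155 : ℕ).divisors := Nat.mem_divisors.2 ⟨h1155, by norm_num⟩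
    have h7 := hno 7 (Or.inl rfl)
    have h11 := hno 11 (Or.inr rfl)
    rw [show (1155 : ℕ).divisors = {1, 3, 5, 7, 11, 15, 21, 33, 35, 55, 77, 105, 165, 231, 385, 1155} by decide +kernel] at hmem
    simp only [Finset.mem_insert, Finset.mem_singleton] at hmem
    omega
  refine ⟨⟨E, z, x, P, hz, hx, hxz, hxP, hc16, hcomm, hsq, hWE hzW, inf_le_left,
    fun g hg hc => hWE (H.mem_W_of_R hz hx hg hc), hcz, hPN, by rw [hcardN, hO15'], fun a ha ha1 => ?_⟩⟩
  refine (hmemO a).1 ?_
  have hsub : O ⊆ Finset.univ.filter fun g => g ∈ E ∧ g ≠ 1 := fun b hb => by simpa using hOE b hb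
  rw [Finset.eq_of_subset_of_card_le hsub (by rw [hE15, hO15'])]
  simp [ha, ha1]

end Counts

end CfsgLib.M22Id
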