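import Cfsg.Agent.M22Id.Graph
import Cfsg.Agent.Srg77.Main

/-!
# Two groups with the counts of `M₂₂` are isomorphic
-/

set_option autoImplicit false
set_option linter.style.haveILetI false
set_option linter.unusedSectionVars false

namespace CfsgLib.M22Id

open Cfsg Finset CfsgLib.Srg77

section SixPoints

variable {V : Type*} [Fintype V] [DecidableEq V] {Γ : SimpleGraph V} [DecidableRel Γ.Adj]

/-- The cocliques through a point. -/
def six (Γ : SimpleGraph V) [DecidableRel Γ.Adj] (x : V) : Finset {C // C ∈ cocl Γ} :=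
  univ.filter fun C => x ∈ C.1

theorem six_spec (hG : Γ.IsSRGWith 77 16 0 4) :
    IsSteinerSystem 3 6 (Set.range (six Γ)) ∧ Fintype.card {C // C ∈ cocl Γ} = 22 ∧
      Function.Injective (six Γ) := by
  classical
  have hsix : ∀ x, (six Γ x).card = 6 := fun x => by
    rw [← card_through hG x, ← card_map (Function.Embedding.subtype _)]
    congr 1
    ext C
    simp [six, and_comm]
  have hmeet : ∀ x y, x ≠ y → (six Γ x ∩ six Γ y).card = if Γ.Adj x y then 0 else 2 := fun x y hne => by
    rw [← Srg77.card_pair hG x y hne, ← card_map (Function.Embedding.subtype _)]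
    congr 1
    ext C
    simp [six]
    tauto
  have h22 : Fintype.card {C // C ∈ cocl Γ} = 22 := by
    rw [Fintype.card_coe]
    have h : ∑ x, ((cocl Γ).filter fun C => x ∈ C).card = ∑ C ∈ cocl Γ, C.card := by
      simp only [card_filter]
      rw [sum_comm]
      exact sum_congr rfl fun C _ => by simp
    rw [sum_congr rfl fun x _ => card_through hG x,
      sum_congr rfl fun C hC => show C.card = 21 from (mem_cocl.mp hC).1,
      sum_const, sum_const, card_univ, hG.card, smul_eq_mul, smul_eq_mul] at h
    omega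
  have hinj : Function.Injective (six Γ) := fun x y e => by
    by_contra hne
    have h := hmeet x y hne
    rw [e, inter_self, hsix] at h
    split_ifs at h <;> omega
  have huniq : ∀ (T : Finset {C // C ∈ cocl Γ}), T.card = 3 → ∀ w w' : V,
      T ⊆ six Γ w → T ⊆ six Γ w' → w = w' := by
    intro T hT w w' h1 h2
    by_contra hne
    have h3 := card_le_card (subset_inter h1 h2)
    rw [hmeet w w' hne, hT] at h3
    split_ifs at h3 <;> omega
  refine ⟨⟨fun b ⟨w, hw⟩ => hw ▸ hsix w, fun s hs => ?_⟩, h22, hinj⟩
  have hdis : ((univ : Finset V) : Set V).PairwiseDisjoint fun w => (six Γ w).powersetCard 3 := by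
    intro w _ w' _ hne
    show Disjoint ((six Γ w).powersetCard 3) ((six Γ w').powersetCard 3)
    rw [disjoint_left]
    intro T h1 h2
    rw [mem_powersetCard] at h1 h2
    exact hne (huniq T h1.2 w w' h1.1 h2.1)
  have hall : (univ : Finset V).biUnion (fun w => (six Γ w).powersetCard 3) =
      (univ : Finset {C // C ∈ cocl Γ}).powersetCard 3 := by
    refine eq_of_subset_of_card_le (fun T hT => ?_) ?_
    · obtain ⟨w, -, hT⟩ := mem_biUnion.mp hT
      exact mem_powersetCard.mpr ⟨subset_univ _, (mem_powersetCard.mp hT).2⟩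
    · rw [card_biUnion hdis, card_powersetCard, card_univ, h22,
        sum_congr rfl (fun w _ => show ((six Γ w).powersetCard 3).card = 20 by
          rw [card_powersetCard, hsix w]; rfl),
        sum_const, card_univ, hG.card]
      exact le_of_eq rfl
  obtain ⟨w, -, hw⟩ := mem_biUnion.mp (hall ▸ mem_powersetCard.mpr ⟨subset_univ s, hs⟩)
  refine ⟨six Γ w, ⟨⟨w, rfl⟩, (mem_powersetCard.mp hw).1⟩, ?_⟩
  rintro _ ⟨⟨w', rfl⟩, hs'⟩
  rw [huniq s hs w' w hs' (mem_powersetCard.mp hw).1]

variable {G : Type*} [Group G] [MulAction G V]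

/-- A group of automorphisms acting on the cocliques. -/
def coclPerm (hinv : ∀ (g : G) a b, Γ.Adj (g • a) (g • b) ↔ Γ.Adj a b) :
    G →* Equiv.Perm {C // C ∈ cocl Γ} where
  toFun g :=
    { toFun := fun C => ⟨C.1.image (g • ·), mem_cocl.mpr ⟨by
        rw [card_image_of_injective _ (MulAction.injective g), (mem_cocl.mp C.2).1], by
        simp only [mem_image]
        rintro _ ⟨u, hu, rfl⟩ _ ⟨v, hv, rfl⟩
        rw [hinv]
        exact (mem_cocl.mp C.2).2 u hu v hv⟩⟩
      invFun := fun C => ⟨C.1.image (g⁻¹ • ·), mem_cocl.mpr ⟨by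
        rw [card_image_of_injective _ (MulAction.injective g⁻¹), (mem_cocl.mp C.2).1], by
        simp only [mem_image]
        rintro _ ⟨u, hu, rfl⟩ _ ⟨v, hv, rfl⟩
        rw [hinv]
        exact (mem_cocl.mp C.2).2 u hu v hv⟩⟩
      left_inv := fun C => Subtype.ext (by simp [image_image, Function.comp_def])
      right_inv := fun C => Subtype.ext (by simp [image_image, Function.comp_def]) }
  map_one' := by
    ext C : 1
    exact Subtype.ext (by simp)
  map_mul' g h := by
    ext C : 1
    exact Subtype.ext (by simp [image_image, Function.comp_def, mul_smul])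

theorem coclPerm_six (hinv : ∀ (g : G) a b, Γ.Adj (g • a) (g • b) ↔ Γ.Adj a b) (g : G) (x : V) :
    (six Γ x).image (coclPerm hinv g) = six Γ (g • x) := by
  ext C
  simp only [Finset.mem_image, six, mem_filter, mem_univ, true_and]
  constructor
  · rintro ⟨C', hC', rfl⟩
    exact Finset.mem_image.mpr ⟨x, hC', rfl⟩
  · intro hC
    refine ⟨(coclPerm hinv g).symm C, ?_, Equiv.apply_symm_apply _ _⟩
    exact Finset.mem_image.mpr ⟨g • x, hC, inv_smul_smul g x⟩

end SixPoints

universe u v

variable {G : Type u} [Group G] [Finite G]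

/-- Embedding into the automorphism group of a Steiner system S(3,6,22). -/
theorem exists_embedding (H : Counts G) : ∃ (α : Type u) (_ : Fintype α) (_ : DecidableEq α)
    (B : Set (Finset α)) (φ : G →* setSystemAut B),
    IsSteinerSystem 3 6 B ∧ Fintype.card α = 22 ∧ Function.Injective φ := by
  classical
  obtain ⟨D⟩ := H.exists_hexad
  haveI := Fintype.ofFinite D.Pt
  have hinv : ∀ (g : G) a b, D.graph.Adj (g • a) (g • b) ↔ D.graph.Adj a b := D.adj_smul
  obtain ⟨hS, h22, hinj⟩ := six_spec (D.isSRG H)
  have hmem : ∀ g, coclPerm hinv g ∈ setSystemAut (Set.range (six D.graph)) := fun g =>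
    CfsgLib.Steiner.mem_aut_iff.mpr fun b ⟨x, hx⟩ => ⟨g • x, by rw [← hx, coclPerm_six]⟩
  refine ⟨_, inferInstance, inferInstance, _, (coclPerm hinv).codRestrict _ hmem, hS, h22,
    (injective_iff_map_eq_one _).2 fun g hg => D.faithful H fun a => hinj ?_⟩
  have h : coclPerm hinv g = 1 := congrArg Subtype.val hg
  rw [← coclPerm_six hinv, h]
  simp

/-- Two subgroups of index two of the automorphism group of the Steiner system are equal. -/
theorem range_eq {X : Type*} [Group X] [Finite X] {M : Subgroup X} (hM : IsSimpleGroup M)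
    (hMc : Nat.card M = 443520) (hi : M.index = 2) {K : Subgroup X} (hK : K.index = 2) : K = M := by
  haveI := hM
  haveI := Subgroup.normal_of_index_eq_two hK
  rcases (Subgroup.Normal.subgroupOf (‹K.Normal›) M).eq_bot_or_eq_top with h | h
  · exfalso
    have h1 : (K.subgroupOf M).index = K.relIndex M := rfl
    rw [h, Subgroup.index_bot, hMc] at h1
    have h2 := Subgroup.relIndex_dvd_index_of_normal K M
    rw [← h1, hK] at h2
    norm_num at h2
  · have hle := Subgroup.subgroupOf_eq_top.1 h
    refine (Subgroup.eq_of_le_of_card_ge hle ?_).symm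
    have h1 := M.card_mul_index
    have h2 := K.card_mul_index
    rw [hi] at h1
    rw [hK] at h2
    omega

/-- Groups with these counts are unique. -/
theorem iso_of_counts {G' : Type v} [Group G'] [Finite G'] (H : Counts G) (H' : Counts G') :
    Nonempty (G ≃* G') := by
  classical
  obtain ⟨α, _, _, B, φ, hB, hα, hφ⟩ := exists_embedding H
  obtain ⟨β, _, _, B', ψ, hB', hβ, hψ⟩ := exists_embedding H'
  obtain ⟨π, hπ⟩ := CfsgLib.Steiner.iso22 hB hα hB' hβ
  let e := CfsgLib.Steiner.autEquiv π hπ
  obtain ⟨hc, -, M, hMi, hMs, hMc⟩ := CfsgLib.Steiner.aut22 hB' hβ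
  let φ' : G →* setSystemAut B' := e.toMonoidHom.comp φ
  have hφ' : Function.Injective φ' := e.injective.comp hφ
  have hidx : ∀ {K : Subgroup (setSystemAut B')}, Nat.card K = 443520 → K.index = 2 := fun {K} h => by
    have := K.card_mul_index
    rw [h, hc] at this
    omega
  have h1 : φ'.range = M := range_eq hMs hMc hMi (hidx (by
    rw [← Nat.card_congr (MonoidHom.ofInjective hφ').toEquiv, H.card]))
  have h2 : ψ.range = M := range_eq hMs hMc hMi (hidx (by
    rw [← Nat.card_congr (MonoidHom.ofInjective hψ).toEquiv, H'.card]))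
  exact ⟨(MonoidHom.ofInjective hφ').trans
    ((MulEquiv.subgroupCongr (h1.trans h2.symm)).trans (MonoidHom.ofInjective hψ).symm)⟩

end CfsgLib.M22Id
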