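import Cfsg.Agent.M22Id.ModelData
import Cfsg.Agent.Golay.PrimeCounts
import Cfsg.Agent.Golay.NormalForm
import Cfsg.Agent.M12Nse.Basic

/-!
# The numbers of elements of each order in the model of `M₂₂`

An element of the model is a product of three transversal elements and one of the forty-eight
elements fixing five points, so centralisers are found by enumeration.
-/

set_option autoImplicit false
set_option linter.style.haveILetI false

namespace CfsgLib.M22Id

open Cfsg CfsgLib.Golay CfsgLib.Golay.Cert CfsgLib.Golay.SylowCert CfsgLib.M11Nse CfsgLib.M12Nse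

/-- The element of the model given by a list. -/
def mel (L : List ℕ) (h : In22 L) : Spor.M22 := ⟨permL L, permL_mem_M22 h⟩

theorem toList_mel (L : List ℕ) (h : In22 L) : toList (mel L h : Equiv.Perm GolayPt) = L :=
  toList_permL h.1 h.2.1

theorem toList_inj {g h : Spor.M22} (e : toList (g : Equiv.Perm GolayPt) = toList (h : Equiv.Perm GolayPt)) :
    g = h :=
  Subtype.ext (CfsgLib.Golay.SylowCert.toList_injective e)

/-- The image of a position. -/
noncomputable def img (g : Spor.M22) (i : ℕ) : ℕ := (toList (g : Equiv.Perm GolayPt)).getD i 0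

theorem img_mul (g h : Spor.M22) {i : ℕ} (hi : i < 24) : img (g * h) i = img g (img h i) := by
  rw [img, img, img, toList_getD _ hi, toList_getD _ hi, toList_getD_idx, Subgroup.coe_mul,
    Equiv.Perm.mul_apply]

theorem img_lt (g : Spor.M22) {i : ℕ} (hi : i < 24) : img g i < 24 := by
  rw [img, toList_getD _ hi]; exact idx_lt _

theorem img_zero (g : Spor.M22) : img g 0 = 0 := by
  have h : (g : Equiv.Perm GolayPt) (some 0) = some 0 := g.2.2
  rw [img, toList_getD _ (by norm_num), show pt 0 = some 0 by decide, h]; decide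

theorem img_top (g : Spor.M22) : img g 23 = 23 := by
  have h : (g : Equiv.Perm GolayPt) none = none := g.2.1.2
  rw [img, toList_getD _ (by norm_num), show pt 23 = none by decide, h]; decide

theorem img_inj (g : Spor.M22) {i j : ℕ} (hi : i < 24) (hj : j < 24) (e : img g i = img g j) : i = j := by
  rw [img, img, toList_getD _ hi, toList_getD _ hj] at e
  have := (g : Equiv.Perm GolayPt).injective (idx_injective e)
  rw [← idx_pt i hi, ← idx_pt j hj, this]

theorem tr_in : (∀ L ∈ tr1, In22 L) ∧ (∀ L ∈ tr2, In22 L ∧ L.getD 1 0 = 1) ∧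
    (∀ L ∈ tr3, In22 L ∧ L.getD 1 0 = 1 ∧ L.getD 2 0 = 2) := by decide +kernel

theorem tr_covers : ∀ a < 24, (a = 0 ∨ a = 23 ∨ ∃ L ∈ tr1, L.getD 1 0 = a) ∧
    (a = 0 ∨ a = 23 ∨ a = 1 ∨ ∃ L ∈ tr2, L.getD 2 0 = a) ∧
    (a = 0 ∨ a = 23 ∨ a = 1 ∨ a = 2 ∨ ∃ L ∈ tr3, L.getD 3 0 = a) := by decide +kernel

/-- One step of the chain. -/
theorem peel {tr : List (List ℕ)} {F : List ℕ} {k : ℕ} (hk : k < 24) (hF : ∀ i ∈ F, i < 24)
    (htr : ∀ L ∈ tr, In22 L ∧ ∀ i ∈ F, L.getD i 0 = i) (hkF : k ∉ F ∧ k ≠ 0 ∧ k ≠ 23)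
    (hcov : ∀ a < 24, a = 0 ∨ a = 23 ∨ a ∈ F ∨ ∃ L ∈ tr, L.getD k 0 = a)
    (g : Spor.M22) (hg : ∀ i ∈ F, img g i = i) :
    ∃ L ∈ tr, ∃ h : Spor.M22, toList (g : Equiv.Perm GolayPt) = compL L (toList (h : Equiv.Perm GolayPt)) ∧
      (∀ i ∈ F, img h i = i) ∧ img h k = k := by
  have hne : ∀ i < 24, img g i = i → i ≠ k → img g k ≠ i := fun i hi e hik e' =>
    hik (img_inj g hi hk (e.trans e'.symm))
  obtain h | h | h | ⟨L, hL, hLk⟩ := hcov _ (img_lt g hk)
  · exact absurd h (hne 0 (by norm_num) (img_zero g) (Ne.symm hkF.2.1))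
  · exact absurd h (hne 23 (by norm_num) (img_top g) (Ne.symm hkF.2.2))
  · exact absurd rfl (hne _ (hF _ h) (hg _ h) (fun e => hkF.1 (e ▸ h)))
  set u := mel L (htr L hL).1
  have hu : ∀ i, img u i = L.getD i 0 := fun i => by rw [img, toList_mel]
  refine ⟨L, hL, u⁻¹ * g, ?_, fun i hi => ?_, ?_⟩
  · conv_lhs => rw [← mul_inv_cancel_left u g, Subgroup.coe_mul, toList_mul, toList_mel]
  · refine img_inj u (img_lt _ (hF i hi)) (hF i hi) ?_
    rw [← img_mul u _ (hF i hi), mul_inv_cancel_left, hg i hi, hu, (htr L hL).2 i hi]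
  · refine img_inj u (img_lt _ hk) hk ?_
    rw [← img_mul u _ hk, mul_inv_cancel_left, hu, hLk]

/-- The normal form of an element. -/
theorem normalForm (g : Spor.M22) : ∃ u ∈ tr1, ∃ v ∈ tr2, ∃ w ∈ tr3, ∃ f ∈ fiveList,
    toList (g : Equiv.Perm GolayPt) = compL u (compL v (compL w f)) := by
  obtain ⟨u, hu, g₁, e₁, -, h1⟩ := peel (tr := tr1) (F := []) (k := 1) (by norm_num) (by simp)
    (fun L hL => ⟨tr_in.1 L hL, by simp⟩) (by simp)
    (fun a ha => by simpa using (tr_covers a ha).1) g (by simp)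
  obtain ⟨v, hv, g₂, e₂, h12, h22⟩ := peel (tr := tr2) (F := [1]) (k := 2) (by norm_num) (by simp)
    (fun L hL => ⟨(tr_in.2.1 L hL).1, by simpa using (tr_in.2.1 L hL).2⟩) (by simp)
    (fun a ha => by simpa using (tr_covers a ha).2.1) g₁ (by simpa using h1)
  obtain ⟨w, hw, g₃, e₃, h13, h33⟩ := peel (tr := tr3) (F := [1, 2]) (k := 3) (by norm_num) (by simp)
    (fun L hL => ⟨(tr_in.2.2 L hL).1, by simpa using (tr_in.2.2 L hL).2⟩) (by simp)
    (fun a ha => by simpa [or_assoc] using (tr_covers a ha).2.2) g₂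
    (by simp only [List.mem_cons, List.not_mem_nil, or_false, forall_eq_or_imp, forall_eq]
        exact ⟨h12 1 (by simp), h22⟩)
  refine ⟨u, hu, v, hv, w, hw, toList (g₃ : Equiv.Perm GolayPt), ?_, by rw [e₁, e₂, e₃]⟩
  refine fixList_five ⟨(g₃ : Equiv.Perm GolayPt), g₃.2.1.1⟩ fun i hi => ?_
  simp only [q5, List.mem_cons, List.not_mem_nil, or_false] at hi
  rcases hi with rfl | rfl | rfl | rfl | rfl
  exacts [img_top g₃, img_zero g₃, h13 1 (by simp), h13 2 (by simp), h33]

/-- The equation holds at the positions. -/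
def agreeB (p f X Y : List ℕ) : Bool :=
  (List.range 24).all fun i =>
    Nat.beq (p.getD (f.getD (X.getD i 0) 0) 0) (Y.getD (p.getD (f.getD i 0) 0) 0)

/-- The equation holds at the first two positions when their images are known. -/
def preB (p X Y : List ℕ) : Bool :=
  [1, 2].all fun i => !(Nat.blt 0 (X.getD i 0) && Nat.blt (X.getD i 0) 4) ||
    Nat.beq (p.getD (X.getD i 0) 0) (Y.getD (p.getD i 0) 0)

/-- The number of elements carrying the first list to the second. -/
def numB (X Y : List ℕ) : ℕ :=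
  ((tr1.flatMap fun u => tr2.flatMap fun v => (tr3.map fun w => compL u (compL v w)).filter fun p =>
    preB p X Y).flatMap fun p => fiveList.filter fun f => agreeB p f X Y).length

theorem compL_assoc (A B C : List ℕ) (h : ∀ x ∈ C, x < B.length) :
    compL A (compL B C) = compL (compL A B) C := by
  simp only [compL, List.map_map]
  refine List.map_congr_left fun x hx => ?_
  simp [Function.comp, List.getD_eq_getElem?_getD, h x hx]

theorem five_ok : ∀ f ∈ fiveList, (∀ x ∈ f, x < 24) ∧ f.getD 1 0 = 1 ∧ f.getD 2 0 = 2 ∧ f.getD 3 0 = 3 ∧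
    f.length = 24 := by
  decide +kernel

theorem card_le_numB (X Y : List ℕ) (hX : ∀ i < 24, X.getD i 0 < 24) (x y : Spor.M22)
    (hx : toList (x : Equiv.Perm GolayPt) = X) (hy : toList (y : Equiv.Perm GolayPt) = Y) :
    Nat.card {g : Spor.M22 // g * x = y * g} ≤ numB X Y := by
  classical
  set L := (tr1.flatMap fun u => tr2.flatMap fun v => (tr3.map fun w => compL u (compL v w)).filter fun p =>
    preB p X Y).flatMap fun p => (fiveList.filter fun f => agreeB p f X Y).map (compL p) with hLdef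
  have hlen : L.length = numB X Y := by
    simp [hLdef, numB, List.length_flatMap]
  have hmem : ∀ g : {g : Spor.M22 // g * x = y * g}, toList (g.1 : Equiv.Perm GolayPt) ∈ L.toFinset := by
    rintro ⟨g, hg⟩
    obtain ⟨u, hu, v, hv, w, hw, f, hf, e⟩ := normalForm g
    obtain ⟨hf24, f1, f2, f3, hflen⟩ := five_ok f hf
    have hlw : w.length = 24 := (tr_in.2.2 w hw).1.2.1
    have hw24 : ∀ z ∈ w, z < v.length := fun z hz => by
      rw [(tr_in.2.1 v hv).1.2.1]
      have := toList_permL (tr_in.2.2 w hw).1.1 hlw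
      rw [← this] at hz
      obtain ⟨i, -, rfl⟩ := List.mem_map.1 hz
      exact idx_lt _
    have e' : toList (g : Equiv.Perm GolayPt) = compL (compL u (compL v w)) f := by
      rw [e, compL_assoc v w f (fun z hz => by rw [hlw]; exact hf24 z hz),
        compL_assoc u _ f (fun z hz => by simp [compL, hlw, hf24 z hz])]
    set p := compL u (compL v w) with hp
    have hpt : ∀ j < 24, img g j = p.getD (f.getD j 0) 0 := fun j hj => by
      rw [img, e']
      simp [compL, List.getD_eq_getElem?_getD, hflen, hj]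
    have hag : ∀ i < 24, p.getD (f.getD (X.getD i 0) 0) 0 = Y.getD (p.getD (f.getD i 0) 0) 0 := fun i hi => by
      have h1 := congrArg (fun t => img t i) hg
      simp only [img_mul _ _ hi] at h1
      rw [show img x i = X.getD i 0 by rw [img, hx], hpt _ (hX i hi), hpt i hi,
        show ∀ k, img y k = Y.getD k 0 from fun k => by rw [img, hy]] at h1
      exact h1
    refine List.mem_toFinset.2 (List.mem_flatMap.2 ⟨p, ?_, List.mem_map.2 ⟨f, List.mem_filter.2 ⟨hf, ?_⟩, e'.symm⟩⟩)
    · refine List.mem_flatMap.2 ⟨u, hu, List.mem_flatMap.2 ⟨v, hv, List.mem_filter.2 ⟨List.mem_map.2 ⟨w, hw, rfl⟩, ?_⟩⟩⟩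
      simp only [preB, List.all_eq_true, List.mem_cons, List.not_mem_nil, or_false, Bool.or_eq_true,
        Bool.not_eq_true', Bool.and_eq_false_iff, Nat.beq_eq]
      intro i hi
      by_cases hb : 0 < X.getD i 0 ∧ X.getD i 0 < 4
      · right
        have hi24 : i < 24 := by rcases hi with rfl | rfl <;> norm_num
        have h3 := hag i hi24
        have hfi : f.getD i 0 = i := by rcases hi with rfl | rfl <;> assumption
        have hfX : f.getD (X.getD i 0) 0 = X.getD i 0 := by
          obtain ⟨ha, hb⟩ := hb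
          generalize X.getD i 0 = a at ha hb ⊢
          interval_cases a <;> assumption
        rwa [hfX, hfi] at h3
      · left
        by_contra hc
        push Not at hc
        exact hb ⟨Nat.pos_of_ne_zero (by simpa [← Bool.not_eq_true] using hc.1), by simpa [← Bool.not_eq_true] using hc.2⟩
    · simp only [agreeB, List.all_eq_true, List.mem_range, Nat.beq_eq]
      exact hag
  have h := Nat.card_le_card_of_injective (fun g => (⟨_, hmem g⟩ : L.toFinset))
    fun a b e => Subtype.ext (toList_inj (congrArg Subtype.val e))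
  rw [Nat.card_eq_finsetCard] at h
  exact h.trans ((List.toFinset_card_le L).trans hlen.le)

end CfsgLib.M22Id
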