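import Cfsg.Agent.M22Id.Model

/-!
# The numbers of elements of each order in the model of `M₂₂`: the values
-/

set_option autoImplicit false
set_option linter.style.haveILetI false

namespace CfsgLib.M22Id

open Cfsg CfsgLib.Golay CfsgLib.Golay.Cert CfsgLib.Golay.SylowCert CfsgLib.M11Nse CfsgLib.M12Nse

/-- The representatives with their orders and numbers of commuting elements. -/
theorem reps_in : In22 r2 ∧ In22 r3 ∧ In22 r4 ∧ In22 r4b ∧ In22 r5 ∧ In22 r6 ∧ In22 r7 ∧ In22 r8 ∧
    In22 r11 ∧ In22 r7i ∧ In22 r11i := by decide +kernel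

/-- A Boolean test for the order of a list. -/
def ordL (L : List ℕ) (n : ℕ) : Bool :=
  !(Nat.beq n 0) && Cert.powL L n == List.range 24 &&
    (List.range n).all fun d => Nat.beq d 0 || !(Cert.powL L d == List.range 24)

theorem orderOf_mel {L : List ℕ} (h : In22 L) {n : ℕ} (hn : ordL L n = true) : orderOf (mel L h) = n := by
  simp only [ordL, Bool.and_eq_true, List.all_eq_true, List.mem_range, Bool.or_eq_true, Bool.not_eq_true',
    Nat.beq_eq, beq_iff_eq, beq_eq_false_iff_ne, ne_eq, ← Bool.not_eq_true] at hn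
  obtain ⟨⟨hn0, hpow⟩, hd⟩ := hn
  have hp : ∀ k, toList ((mel L h ^ k : Spor.M22) : Equiv.Perm GolayPt) = Cert.powL L k := fun k => by
    rw [SubgroupClass.coe_pow, Cert.toList_pow, toList_mel]
  refine (orderOf_eq_iff (Nat.pos_of_ne_zero (by simpa using hn0))).2 ⟨?_, fun m hm hm0 e => ?_⟩
  · exact toList_inj (by rw [hp, hpow, OneMemClass.coe_one, toList_one])
  · have h1 := hp m
    rw [e, OneMemClass.coe_one, toList_one] at h1
    rcases hd m hm with h2 | h2
    · omega
    · exact h2 h1.symm

theorem class_ge {L : List ℕ} (h : In22 L) {c m : ℕ} (hc : numB L L = c) (hm : m * c = 443520) :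
    m ≤ Nat.card {x : Spor.M22 // IsConj (mel L h) x} := by
  have hlt : ∀ i < 24, L.getD i 0 < 24 := fun i hi => by
    rw [← toList_mel L h, toList_getD _ hi]; exact idx_lt _
  have h1 := card_le_numB L L hlt (mel L h) (mel L h) (toList_mel L h) (toList_mel L h)
  rw [hc] at h1
  have e : Nat.card (cz (mel L h)) ≤ c :=
    le_trans (Nat.le_of_eq (Nat.card_congr (Equiv.subtypeEquivRight fun g => mem_cz))) h1
  rw [card_conj]
  have h2 := (cz (mel L h)).card_mul_index
  rw [SylowCert.card_M22, ← hm] at h2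
  by_contra h3
  push Not at h3
  have h4 := Nat.mul_le_mul e (Nat.le_refl (cz (mel L h)).index)
  have h5 : c * ((cz (mel L h)).index + 1) ≤ c * m := Nat.mul_le_mul_left c h3
  rw [Nat.mul_add, mul_one, mul_comm c m] at h5
  have h6 : 0 < Nat.card (cz (mel L h)) := Nat.card_pos
  omega

theorem one_class {L : List ℕ} (h : In22 L) {n : ℕ} (hn : ordL L n = true) :
    Nat.card {x : Spor.M22 // IsConj (mel L h) x} ≤ cnt Spor.M22 n :=
  Nat.card_le_card_of_injective (fun x => ⟨x.1, (orderOf_eq_of_isConj x.2).trans (orderOf_mel h hn)⟩)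
    fun a b e => Subtype.ext (congrArg (fun t : {g // orderOf g = n} => t.1) e)

theorem two_classes {L L' : List ℕ} (h : In22 L) (h' : In22 L') {n : ℕ} (hn : ordL L n = true)
    (hn' : ordL L' n = true) (hne : numB L L' = 0) :
    Nat.card {x : Spor.M22 // IsConj (mel L h) x} + Nat.card {x : Spor.M22 // IsConj (mel L' h') x} ≤
      cnt Spor.M22 n := by
  classical
  rw [← Nat.card_sum]
  refine Nat.card_le_card_of_injective (Sum.elim
    (fun x => ⟨x.1, (orderOf_eq_of_isConj x.2).trans (orderOf_mel h hn)⟩)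
    (fun x => ⟨x.1, (orderOf_eq_of_isConj x.2).trans (orderOf_mel h' hn')⟩)) ?_
  have hno : ¬ IsConj (mel L h) (mel L' h') := by
    intro hc
    obtain ⟨g, hg⟩ := isConj_iff.1 hc
    have hlt : ∀ i < 24, L.getD i 0 < 24 := fun i hi => by
      rw [← toList_mel L h, toList_getD _ hi]; exact idx_lt _
    have h1 := card_le_numB L L' hlt (mel L h) (mel L' h') (toList_mel L h) (toList_mel L' h')
    rw [hne] at h1
    haveI : Nonempty {k : Spor.M22 // k * mel L h = mel L' h' * k} := ⟨⟨g, by rw [← hg]; group⟩⟩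
    exact absurd (Nat.card_pos (α := {k : Spor.M22 // k * mel L h = mel L' h' * k})) (by omega)
  rintro (a | a) (b | b) e
  all_goals have e' := congrArg (fun t : {g // orderOf g = n} => t.1) e
  all_goals simp only [Sum.elim_inl, Sum.elim_inr] at e'
  · exact congrArg Sum.inl (Subtype.ext e')
  · exact absurd (a.2.trans (e' ▸ b.2.symm)) hno
  · exact absurd (b.2.trans (e'.symm ▸ a.2.symm)) hno
  · exact congrArg Sum.inr (Subtype.ext e')

theorem le_cnt_two : 1155 ≤ cnt Spor.M22 2 :=
  le_trans (class_ge reps_in.1 (c := 384) (by decide +kernel) rfl) (one_class reps_in.1 (by decide +kernel))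

theorem le_cnt_three : 12320 ≤ cnt Spor.M22 3 :=
  le_trans (class_ge reps_in.2.1 (c := 36) (by decide +kernel) rfl) (one_class reps_in.2.1 (by decide +kernel))

theorem le_cnt_four : 41580 ≤ cnt Spor.M22 4 :=
  le_trans (Nat.add_le_add (class_ge reps_in.2.2.1 (c := 32) (m := 13860) (by decide +kernel) rfl)
      (class_ge reps_in.2.2.2.1 (c := 16) (m := 27720) (by decide +kernel) rfl))
    (two_classes reps_in.2.2.1 reps_in.2.2.2.1 (by decide +kernel) (by decide +kernel) (by decide +kernel))

theorem le_cnt_five : 88704 ≤ cnt Spor.M22 5 :=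
  le_trans (class_ge reps_in.2.2.2.2.1 (c := 5) (by decide +kernel) rfl)
    (one_class reps_in.2.2.2.2.1 (by decide +kernel))

theorem le_cnt_six : 36960 ≤ cnt Spor.M22 6 :=
  le_trans (class_ge reps_in.2.2.2.2.2.1 (c := 12) (by decide +kernel) rfl)
    (one_class reps_in.2.2.2.2.2.1 (by decide +kernel))

theorem le_cnt_seven : 126720 ≤ cnt Spor.M22 7 := by
  obtain ⟨_, _, _, _, h⟩ := m22_seven
  exact h

theorem le_cnt_eight : 55440 ≤ cnt Spor.M22 8 :=
  le_trans (class_ge reps_in.2.2.2.2.2.2.2.1 (c := 8) (by decide +kernel) rfl)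
    (one_class reps_in.2.2.2.2.2.2.2.1 (by decide +kernel))

theorem le_cnt_eleven : 80640 ≤ cnt Spor.M22 11 := by
  obtain ⟨_, _, _, _, h⟩ := m22_eleven
  exact h

/-- The number of elements of a given order. -/
def cval : ℕ → ℕ
  | 1 => 1 | 2 => 1155 | 3 => 12320 | 4 => 41580 | 5 => 88704 | 6 => 36960 | 7 => 126720 | 8 => 55440
  | 11 => 80640
  | _ => 0

/-- The orders of the elements of the model. -/
def ords : List ℕ := [1, 2, 3, 4, 5, 6, 7, 8, 11]

theorem cval_le (n : ℕ) : cval n ≤ cnt Spor.M22 n := by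
  unfold cval
  split
  · exact (cnt_one (G := Spor.M22)).ge
  · exact le_cnt_two
  · exact le_cnt_three
  · exact le_cnt_four
  · exact le_cnt_five
  · exact le_cnt_six
  · exact le_cnt_seven
  · exact le_cnt_eight
  · exact le_cnt_eleven
  · exact Nat.zero_le _

theorem sum_cnt_le {G : Type*} [Group G] [Finite G] (S : Finset ℕ) : ∑ n ∈ S, cnt G n ≤ Nat.card G := by
  classical
  haveI := Fintype.ofFinite G
  rw [Nat.card_eq_fintype_card, ← Finset.card_univ]
  have : ∀ n, cnt G n = ((Finset.univ : Finset G).filter fun g => orderOf g = n).card := fun n => by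
    rw [cnt, Nat.card_eq_fintype_card, Fintype.card_subtype]
  simp only [this]
  rw [← Finset.card_biUnion]
  · exact Finset.card_le_card (Finset.subset_univ _)
  · intro a _ b _ hab
    exact Finset.disjoint_left.2 fun g hg hg' =>
      hab ((Finset.mem_filter.1 hg).2.symm.trans (Finset.mem_filter.1 hg').2)

theorem cnt_model (n : ℕ) : cnt Spor.M22 n = cval n := by
  classical
  refine le_antisymm ?_ (cval_le n)
  have h := sum_cnt_le (G := Spor.M22) (insert n ords.toFinset)
  rw [SylowCert.card_M22] at h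
  have h2 : ∑ m ∈ ords.toFinset, cval m = 443520 := by decide +kernel
  by_cases hn : n ∈ ords.toFinset
  · rw [Finset.insert_eq_of_mem hn, ← Finset.add_sum_erase _ _ hn] at h
    have h1 : ∑ m ∈ ords.toFinset.erase n, cval m ≤ ∑ m ∈ ords.toFinset.erase n, cnt Spor.M22 m :=
      Finset.sum_le_sum fun m _ => cval_le m
    rw [← Finset.add_sum_erase _ _ hn] at h2
    omega
  · rw [Finset.sum_insert hn] at h
    have h1 : ∑ m ∈ ords.toFinset, cval m ≤ ∑ m ∈ ords.toFinset, cnt Spor.M22 m :=
      Finset.sum_le_sum fun m _ => cval_le m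
    omega

end CfsgLib.M22Id
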