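import Cfsg.Agent.M22Id.Counts

/-!
# The numbers of elements of equal order in `M₂₂` determine the counts
-/

set_option autoImplicit false
set_option linter.style.haveILetI false
set_option linter.unusedSectionVars false

namespace CfsgLib.M22Id

open Subgroup CfsgLib.M11Nse CfsgLib.M12Nse

variable {G : Type*} [Group G] [Finite G]

/-- A group of order 443520 with the values of the counts of `M₂₂`. -/
structure Nse (G : Type*) [Group G] : Prop where
  card : Nat.card G = 443520
  vals : ∀ n, cnt G n ∈ ({0, 1, 1155, 12320, 41580, 88704, 36960, 126720, 55440, 80640} : Finset ℕ)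
  all : ∀ c ∈ ({36960, 41580, 55440} : Finset ℕ), ∃ n, cnt G n = c

theorem Nse.cases (H : Nse G) (n : ℕ) : cnt G n = 0 ∨ cnt G n = 1 ∨ cnt G n = 1155 ∨ cnt G n = 12320 ∨
    cnt G n = 41580 ∨ cnt G n = 88704 ∨ cnt G n = 36960 ∨ cnt G n = 126720 ∨ cnt G n = 55440 ∨
    cnt G n = 80640 := by
  simpa using H.vals n

namespace Nse

variable (H : Nse G)
include H

theorem cnt_two : cnt G 2 ≠ 0 := by
  haveI : Fact (Nat.Prime 2) := ⟨Nat.prime_two⟩
  obtain ⟨x, hx⟩ := exists_prime_orderOf_dvd_card' (G := G) 2 (by rw [H.card]; norm_num)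
  exact (cnt_pos hx).ne'

theorem sylow_card {p : ℕ} [Fact p.Prime] (P : Sylow p G) {k m : ℕ} (h : 443520 = p ^ k * m) (hm : ¬ p ∣ m) :
    Nat.card (P : Subgroup G) = p ^ k :=
  CfsgLib.SmallSimple.card_sylow_eq P (H.card.trans h) hm

theorem count_of_prime {p n c : ℕ} [hp : Fact p.Prime] (h : 443520 = p * n) (hn : ¬ p ∣ n)
    (hc : ∀ k, k * (p - 1) ∈ ({0, 1, 1155, 12320, 41580, 88704, 36960, 126720, 55440, 80640} : Finset ℕ) →
      k % p = 1 → k = c) :
    Nat.card (Sylow p G) = c ∧ cnt G p = c * (p - 1) := by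
  have h1 := cnt_prime (G := G) (p := p) fun P => by
    rw [H.sylow_card P (k := 1) (m := n) (by rw [pow_one]; exact h) hn, pow_one]
  have hm : Nat.card (Sylow p G) % p = 1 := by
    have := card_sylow_modEq_one p G
    rw [Nat.ModEq, Nat.mod_eq_of_lt hp.out.one_lt] at this
    exact this
  have := hc _ (h1 ▸ H.vals p) hm
  exact ⟨this, this ▸ h1⟩

theorem eleven : (∀ [Fact (Nat.Prime 11)], Nat.card (Sylow 11 G) = 8064) ∧ cnt G 11 = 80640 := by
  haveI : Fact (Nat.Prime 11) := ⟨by norm_num⟩
  obtain ⟨a, b⟩ := H.count_of_prime (p := 11) (n := 40320) (c := 8064) rfl (by norm_num) fun k hk hm => by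
    simp only [Finset.mem_insert, Finset.mem_singleton] at hk; omega
  exact ⟨a, b⟩

theorem seven : (∀ [Fact (Nat.Prime 7)], Nat.card (Sylow 7 G) = 21120) ∧ cnt G 7 = 126720 := by
  haveI : Fact (Nat.Prime 7) := ⟨by norm_num⟩
  obtain ⟨a, b⟩ := H.count_of_prime (p := 7) (n := 63360) (c := 21120) rfl (by norm_num) fun k hk hm => by
    simp only [Finset.mem_insert, Finset.mem_singleton] at hk; omega
  exact ⟨a, b⟩

theorem five : (∀ [Fact (Nat.Prime 5)], Nat.card (Sylow 5 G) = 22176) ∧ cnt G 5 = 88704 := by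
  haveI : Fact (Nat.Prime 5) := ⟨by norm_num⟩
  obtain ⟨a, b⟩ := H.count_of_prime (p := 5) (n := 88704) (c := 22176) rfl (by norm_num) fun k hk hm => by
    simp only [Finset.mem_insert, Finset.mem_singleton] at hk; omega
  exact ⟨a, b⟩

theorem toBase : Base G := ⟨H.card, H.five, H.seven, H.eleven⟩

theorem two_cases : cnt G 2 = 1155 ∨ cnt G 2 = 1 := by
  classical
  have hodd : Odd (cnt G 2) := by
    haveI : Fact (Nat.Prime 2) := ⟨Nat.prime_two⟩
    obtain ⟨u, hu⟩ := exists_prime_orderOf_dvd_card' (G := G) 2 (by rw [H.card]; norm_num)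
    have hu2 : u ^ 2 = 1 := orderOf_dvd_iff_pow_eq_one.1 (by rw [hu])
    have hu1 : u * u = 1 := by rw [← sq, hu2]
    have hmod := card_modEq_fixed (p := 2) (n := 1) (x := u) (by rw [pow_one, hu2])
      (fun g => g ^ 2 = 1) fun g => by simp [conj_pow]
    have heven : 2 ∣ Nat.card {g : G // g ^ 2 = 1 ∧ g * u = u * g} := by
      let K : Equiv.Perm {g : G // g ^ 2 = 1 ∧ g * u = u * g} :=
        { toFun := fun g => ⟨g.1 * u, by
            rw [(show Commute g.1 u from g.2.2).mul_pow, g.2.1, one_mul, hu2],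
            by rw [g.2.2, mul_assoc, g.2.2]⟩
          invFun := fun g => ⟨g.1 * u, by
            rw [(show Commute g.1 u from g.2.2).mul_pow, g.2.1, one_mul, hu2],
            by rw [g.2.2, mul_assoc, g.2.2]⟩
          left_inv := fun g => Subtype.ext (by
            show g.1 * u * u = g.1
            rw [mul_assoc, hu1, mul_one])
          right_inv := fun g => Subtype.ext (by
            show g.1 * u * u = g.1
            rw [mul_assoc, hu1, mul_one]) }
      haveI := Fintype.ofFinite {g : G // g ^ 2 = 1 ∧ g * u = u * g}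
      by_contra hodd
      rw [Nat.card_eq_fintype_card] at hodd
      obtain ⟨g, hg⟩ := Equiv.Perm.exists_fixed_point_of_prime (p := 2) (n := 1) hodd
        (σ := K) (by
          ext g
          show (K (K g)).1 = g.1
          show g.1 * u * u = g.1
          rw [mul_assoc, hu1, mul_one])
      have : g.1 * u = g.1 := congrArg Subtype.val hg
      rw [mul_eq_left] at this
      rw [this, orderOf_one] at hu
      norm_num at hu
    have hsplit : Nat.card {g : G // g ^ 2 = 1} = cnt G 2 + 1 := by
      haveI := Fintype.ofFinite G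
      rw [cnt, Nat.card_eq_fintype_card, Fintype.card_subtype, Nat.card_eq_fintype_card, Fintype.card_subtype,
        show (Finset.univ.filter fun g : G => g ^ 2 = 1) =
          insert 1 (Finset.univ.filter fun g => orderOf g = 2) from ?_, Finset.card_insert_of_notMem (by simp)]
      ext g
      simp only [Finset.mem_filter, Finset.mem_univ, true_and, Finset.mem_insert]
      rw [orderOf_eq_prime_iff]
      by_cases h : g = 1 <;> simp [h]
    rw [hsplit] at hmod
    obtain ⟨k, hk⟩ := heven
    rw [Nat.ModEq, hk, Nat.mul_mod_right] at hmod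
    rw [Nat.odd_iff]
    omega
  have := H.cases 2
  rw [Nat.odd_iff] at hodd
  omega

/-- The number of elements of order three. -/
theorem three : cnt G 3 = 12320 := by
  classical
  haveI : Fact (Nat.Prime 3) := ⟨Nat.prime_three⟩
  obtain ⟨x, hx⟩ := exists_prime_orderOf_dvd_card' (G := G) 3 (by rw [H.card]; norm_num)
  have hx3 : x ^ 3 = 1 := orderOf_dvd_iff_pow_eq_one.1 (by rw [hx])
  have hx1 : x * x * x = 1 := by rw [← hx3, pow_succ, sq]
  have hmod := card_modEq_fixed (p := 3) (n := 1) (x := x) (by rw [pow_one, hx3])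
    (fun g => g ^ 3 = 1) fun g => by simp [conj_pow]
  have h3dvd : 3 ∣ Nat.card {g : G // g ^ 3 = 1 ∧ g * x = x * g} := by
    let K : Equiv.Perm {g : G // g ^ 3 = 1 ∧ g * x = x * g} :=
      { toFun := fun g => ⟨g.1 * x, by
          rw [(show Commute g.1 x from g.2.2).mul_pow, g.2.1, one_mul, hx3],
          by rw [g.2.2, mul_assoc, g.2.2]⟩
        invFun := fun g => ⟨g.1 * (x * x), by
          rw [((show Commute g.1 x from g.2.2).mul_right g.2.2).mul_pow, g.2.1, one_mul,
            (Commute.refl x).mul_pow, hx3, one_mul],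
          ((show Commute x g.1 from g.2.2.symm).mul_right ((Commute.refl x).mul_right (Commute.refl x))).eq.symm⟩
        left_inv := fun g => Subtype.ext (by
          show g.1 * x * (x * x) = g.1
          rw [mul_assoc, ← mul_assoc x x x, hx1, mul_one])
        right_inv := fun g => Subtype.ext (by
          show g.1 * (x * x) * x = g.1
          rw [mul_assoc, hx1, mul_one]) }
    haveI := Fintype.ofFinite {g : G // g ^ 3 = 1 ∧ g * x = x * g}
    by_contra hdvd
    rw [Nat.card_eq_fintype_card] at hdvd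
    obtain ⟨g, hg⟩ := Equiv.Perm.exists_fixed_point_of_prime (p := 3) (n := 1) hdvd
      (σ := K) (by
        ext g
        show g.1 * x * x * x = g.1
        rw [mul_assoc (g.1 * x), mul_assoc g.1, ← mul_assoc x x x, hx1, mul_one])
    have : g.1 * x = g.1 := congrArg Subtype.val hg
    rw [mul_eq_left] at this
    rw [this, orderOf_one] at hx
    norm_num at hx
  have hsplit : Nat.card {g : G // g ^ 3 = 1} = cnt G 3 + 1 := by
    haveI := Fintype.ofFinite G
    rw [cnt, Nat.card_eq_fintype_card, Fintype.card_subtype, Nat.card_eq_fintype_card, Fintype.card_subtype,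
      show (Finset.univ.filter fun g : G => g ^ 3 = 1) =
        insert 1 (Finset.univ.filter fun g => orderOf g = 3) from ?_, Finset.card_insert_of_notMem (by simp)]
    ext g
    simp only [Finset.mem_filter, Finset.mem_univ, true_and, Finset.mem_insert]
    rw [orderOf_eq_prime_iff]
    by_cases h : g = 1 <;> simp [h]
  have := cnt_pos hx
  obtain ⟨k, hk⟩ := h3dvd
  rw [hsplit, Nat.ModEq, hk, Nat.mul_mod_right] at hmod
  rcases H.cases 3 with h | h | h | h | h | h | h | h | h | h <;> omega

/-- The orders outside the six small and prime ones. -/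
theorem others : ∀ n, n ∉ ({1, 2, 3, 5, 7, 11} : Finset ℕ) → cnt G n ≠ 0 →
    (cnt G n = 36960 ∨ cnt G n = 41580 ∨ cnt G n = 55440) ∧
      ∀ m, cnt G m = cnt G n → m = n := by
  classical
  obtain ⟨a, ha⟩ := H.all 36960 (by simp)
  obtain ⟨b, hb⟩ := H.all 41580 (by simp)
  obtain ⟨c, hc⟩ := H.all 55440 (by simp)
  have h1 : cnt G 1 = 1 := cnt_one
  have h5 := H.five.2
  have h7 := H.seven.2
  have h11 := H.eleven.2
  have h2 := H.two_cases
  have hne : ∀ m ∈ ({1, 2, 5, 7, 11} : Finset ℕ), cnt G m ≠ 36960 ∧ cnt G m ≠ 41580 ∧ cnt G m ≠ 55440 := by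
    intro m hm
    simp only [Finset.mem_insert, Finset.mem_singleton] at hm
    rcases hm with rfl | rfl | rfl | rfl | rfl <;> omega
  have hthree := H.three
  intro n hn hn0
  have hmem : ∀ m, (cnt G m = 36960 ∨ cnt G m = 41580 ∨ cnt G m = 55440) →
      m ∉ ({1, 2, 3, 5, 7, 11} : Finset ℕ) := by
    intro m hm hmem
    simp only [Finset.mem_insert, Finset.mem_singleton] at hmem
    have := hne m
    rcases hmem with rfl | rfl | rfl | rfl | rfl | rfl <;> simp at this <;> omega
  have hab : a ≠ b := fun e => by rw [e] at ha; omega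
  have hac : a ≠ c := fun e => by rw [e] at ha; omega
  have hbc : b ≠ c := fun e => by rw [e] at hb; omega
  have hsix : ∀ m, m ∈ ({1, 2, 3, 5, 7, 11} : Finset ℕ) → m ≠ a ∧ m ≠ b ∧ m ≠ c := fun m hm =>
    ⟨fun e => hmem a (by omega) (e ▸ hm), fun e => hmem b (by omega) (e ▸ hm), fun e => hmem c (by omega) (e ▸ hm)⟩
  have key : ∀ m, m ∉ ({1, 2, 3, 5, 7, 11} : Finset ℕ) → cnt G m ≠ 0 → m = a ∨ m = b ∨ m = c := by
    intro m hm hm0
    by_contra hcon
    push Not at hcon
    have heven : 2 ∣ cnt G m := by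
      have hm3 : 2 < m := by
        simp only [Finset.mem_insert, Finset.mem_singleton, not_or] at hm
        rcases Nat.eq_zero_or_pos m with rfl | hp
        · exfalso
          refine hm0 (Nat.card_eq_zero.2 (Or.inl ⟨fun g => ?_⟩))
          exact (orderOf_pos g.1).ne' g.2
        · omega
      exact (Nat.totient_even hm3).two_dvd.trans (totient_dvd_cnt m)
    have hs := sum_cnt (G := G) (insert m (insert a (insert b (insert c {1, 2, 3, 5, 7, 11}))))
    rw [H.card, Finset.sum_insert (by simp at hm ⊢; tauto), Finset.sum_insert (by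
        simp only [Finset.mem_insert, not_or]; exact ⟨hab, hac, by simpa using fun h => (hsix a h).1 rfl⟩),
      Finset.sum_insert (by
        simp only [Finset.mem_insert, not_or]; exact ⟨hbc, by simpa using fun h => (hsix b h).2.1 rfl⟩),
      Finset.sum_insert (fun h => (hsix c h).2.2 rfl)] at hs
    simp only [Finset.sum_insert, Finset.mem_insert, Finset.mem_singleton, OfNat.one_ne_ofNat,
      OfNat.ofNat_ne_one, Nat.reduceEqDiff, or_self, not_false_eq_true, Finset.sum_singleton] at hs
    rcases H.cases m with h | h | h | h | h | h | h | h | h | h <;> rcases h2 with h2 | h2 <;> omega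
  rcases key n hn hn0 with rfl | rfl | rfl
  · refine ⟨Or.inl ha, fun m hm => ?_⟩
    rcases key m (hmem m (by omega)) (by omega) with rfl | rfl | rfl <;> omega
  · refine ⟨Or.inr (Or.inl hb), fun m hm => ?_⟩
    rcases key m (hmem m (by omega)) (by omega) with rfl | rfl | rfl <;> omega
  · refine ⟨Or.inr (Or.inr hc), fun m hm => ?_⟩
    rcases key m (hmem m (by omega)) (by omega) with rfl | rfl | rfl <;> omega

theorem cz_five {x : G} (hx : orderOf x = 5) : Nat.card (cz x) = 5 := by
  haveI : Fact (Nat.Prime 5) := ⟨by norm_num⟩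
  haveI : Fact (Nat.Prime 7) := ⟨by norm_num⟩
  obtain ⟨⟨c, hc⟩, h2, h3⟩ := H.toBase.cz_prime (p := 5) (n := 88704) (r := 7) rfl (by norm_num)
    H.toBase.normalizer_five (by norm_num) (fun R => by rw [H.toBase.normalizer_seven R]; norm_num) hx
  rw [hc] at h2 h3
  obtain ⟨i, hi, rfl⟩ := (Nat.dvd_prime_pow Nat.prime_two).1
    (show c ∣ 2 ^ 2 from Nat.dvd_of_mul_dvd_mul_left (by norm_num) (show 5 * c ∣ 5 * 2 ^ 2 from h2))
  rw [hc]
  obtain rfl | rfl | rfl : i = 0 ∨ i = 1 ∨ i = 2 := by omega
  · rfl
  · exfalso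
    have h5 : ∀ y : G, orderOf y = 5 → ∃ u : G, orderOf u = 2 ∧ Commute y u := by
      intro y hy
      haveI : Fact (Nat.Prime 2) := ⟨Nat.prime_two⟩
      obtain ⟨P₁, h₁⟩ : ∃ c', Nat.card (cz y) = c' ∧ 2 ∣ c' := by
        refine ⟨_, rfl, ?_⟩
        have hconj : Nat.card (cz y) = Nat.card (cz x) := by
          obtain ⟨P, hP⟩ := (IsPGroup.of_card (n := 1) (by rw [Nat.card_zpowers, hy, pow_one]) :
            IsPGroup 5 (zpowers y)).exists_le_sylow
          obtain ⟨Q, hQ⟩ := (IsPGroup.of_card (n := 1) (by rw [Nat.card_zpowers, hx, pow_one]) :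
            IsPGroup 5 (zpowers x)).exists_le_sylow
          obtain ⟨g, hg⟩ := MulAction.exists_smul_eq G P Q
          have hPc := H.sylow_card P (k := 1) (m := 88704) (by norm_num) (by norm_num)
          have hQc := H.sylow_card Q (k := 1) (m := 88704) (by norm_num) (by norm_num)
          have eP : zpowers y = (P : Subgroup G) :=
            eq_of_le_of_card_ge hP (by rw [hPc, Nat.card_zpowers, hy, pow_one])
          have eQ : zpowers x = (Q : Subgroup G) :=
            eq_of_le_of_card_ge hQ (by rw [hQc, Nat.card_zpowers, hx, pow_one])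
          have hm : g * y * g⁻¹ ∈ zpowers x := by
            rw [eQ, ← hg, Sylow.coe_subgroup_smul, ← eP]
            exact ⟨y, mem_zpowers y, rfl⟩
          rw [← cz_conj g y]
          have e' : zpowers (g * y * g⁻¹) = zpowers x := eq_of_le_of_card_ge (zpowers_le.2 hm) (by
            rw [Nat.card_zpowers, Nat.card_zpowers, hx]
            exact ((MulEquiv.orderOf_eq (MulAut.conj g) y).trans hy).ge)
          have : cz (g * y * g⁻¹) = cz x := by
            show centralizer ({g * y * g⁻¹} : Set G) = centralizer {x}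
            rw [← centralizer_closure {g * y * g⁻¹}, ← centralizer_closure {x}, ← zpowers_eq_closure,
              ← zpowers_eq_closure, e']
          rw [this]
        rw [hconj, hc]; norm_num
      obtain ⟨u, hu⟩ := exists_prime_orderOf_dvd_card' (G := cz y) 2 (h₁.1 ▸ h₁.2)
      exact ⟨u, by rw [Subgroup.orderOf_coe, hu], (mem_cz.1 u.2).symm⟩
    choose u hu using h5
    have hle : 88704 ≤ cnt G 10 := by
      rw [show (10 : ℕ) = 5 * 2 from rfl, cnt_mul (by norm_num) two_pos (by norm_num), ← H.five.2]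
      exact Nat.card_le_card_of_injective (fun y : {g : G // orderOf g = 5} =>
        (⟨(y.1, u y.1 y.2), y.2, hu y.1 y.2⟩ : {p : G × G // orderOf p.1 = 5 ∧ orderOf p.2 = 2 ∧ Commute p.1 p.2}))
        fun a b e => Subtype.ext (congrArg (fun p : {p : G × G //
          orderOf p.1 = 5 ∧ orderOf p.2 = 2 ∧ Commute p.1 p.2} => p.1.1) e)
    have := (H.others 10 (by decide) (by omega)).1
    omega
  · exact absurd rfl h3

theorem two : cnt G 2 = 1155 := by
  haveI : Fact (Nat.Prime 2) := ⟨Nat.prime_two⟩
  haveI : Fact (Nat.Prime 5) := ⟨by norm_num⟩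
  refine H.two_cases.resolve_right fun h => ?_
  obtain ⟨u, hu⟩ := exists_prime_orderOf_dvd_card' (G := G) 2 (by rw [H.card]; norm_num)
  obtain ⟨y, hy⟩ := exists_prime_orderOf_dvd_card' (G := G) 5 (by rw [H.card]; norm_num)
  obtain ⟨hs, -⟩ := Nat.card_eq_one_iff_unique.1 h
  have hcomm : y * u * y⁻¹ = u := congrArg Subtype.val (hs.allEq
    (⟨y * u * y⁻¹, (MulEquiv.orderOf_eq (MulAut.conj y) u).trans hu⟩ : {g // orderOf g = 2}) ⟨u, hu⟩)
  have := Subgroup.orderOf_dvd_natCard (cz y) (x := u) (mem_cz.2 (mul_inv_eq_iff_eq_mul.1 hcomm).symm)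
  rw [H.cz_five hy, hu] at this
  norm_num at this

/-- The counts that determine the group. -/
theorem counts : Counts G :=
  { H.toBase with
    cz_five := fun hx => H.cz_five hx
    two := H.two
    three := H.three
    nine_val := fun h => (H.others 9 (by decide) h).1
    six_val := fun h => (H.others 6 (by decide) h).1 }

end Nse

end CfsgLib.M22Id
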