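import Cfsg.Agent.M22Id.Stab

/-!
# Groups with the counts of `M₂₂`: the orbits of lengths 16 and 60
-/

set_option autoImplicit false
set_option linter.style.haveILetI false
set_option linter.unusedSectionVars false

namespace CfsgLib.M22Id

open Subgroup CfsgLib.M11Nse CfsgLib.M12Nse MulAction
open scoped Pointwise

variable {G : Type*} [Group G] [Finite G]

local instance : Fact (Nat.Prime 3) := ⟨Nat.prime_three⟩
local instance : Fact (Nat.Prime 2) := ⟨Nat.prime_two⟩
local instance : Fact (Nat.Prime 5) := ⟨by norm_num⟩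

namespace Hexad

variable (D : Hexad G)

theorem index_N (H : Counts G) : Nat.card D.Pt = 77 := by
  have h := D.N.card_mul_index
  rw [show Nat.card D.N = 5760 from D.card_N, H.card, index_eq_card] at h
  show Nat.card (G ⧸ D.N) = 77
  omega

theorem orbit_mul (a : D.Pt) :
    Nat.card (orbit D.N a) * Nat.card (D.N ⊓ stabilizer G a : Subgroup G) = 5760 := by
  have hst : stabilizer D.N a = (D.N ⊓ stabilizer G a).subgroupOf D.N := by
    ext m
    rw [mem_stabilizer_iff, inf_subgroupOf_left, mem_subgroupOf, mem_stabilizer_iff]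
    rfl
  rw [← Nat.card_congr (subgroupOfEquivOfLe (inf_le_left : D.N ⊓ stabilizer G a ≤ D.N)).toEquiv, ← hst,
    ← Nat.card_prod, Nat.card_congr (orbitProdStabilizerEquivGroup D.N a)]
  exact D.card_N

theorem four_dvd (H : Counts G) {s : D.Pt → Prop} (hs : ∀ n ∈ D.N, ∀ a, s a → s (n • a))
    (hne : ∀ a, s a → a ≠ D.base) : 4 ∣ Nat.card {a // s a} := by
  refine dvd_card_of_orbit (H := D.E) (fun e a => hs e (le_normalizer e.2) a) fun a ha => ?_
  have h := Nat.card_congr (orbitProdStabilizerEquivGroup D.E a)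
  have hst : stabilizer D.E a = (D.E ⊓ stabilizer G a).subgroupOf D.E := by
    ext m
    rw [mem_stabilizer_iff, inf_subgroupOf_left, mem_subgroupOf, mem_stabilizer_iff]
    rfl
  rw [Nat.card_prod, hst, Nat.card_congr (subgroupOfEquivOfLe (inf_le_left : D.E ⊓ stabilizer G a ≤ D.E)).toEquiv,
    D.card_E] at h
  have h4 := D.card_stab_E H (hne a ha)
  have hd : Nat.card (orbit D.E a) ∈ (16 : ℕ).divisors := Nat.mem_divisors.2 ⟨Dvd.intro _ h, by norm_num⟩
  rw [show (16 : ℕ).divisors = {1, 2, 4, 8, 16} by decide] at hd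
  simp only [Finset.mem_insert, Finset.mem_singleton] at hd
  rcases hd with e | e | e | e | e <;> rw [e] at h ⊢ <;> omega

theorem exists_five (H : Counts G) : ∃ (P : Sylow 5 G) (v : D.Pt), (P : Subgroup G) ≤ D.N ∧ v ≠ D.base ∧
    (∀ a, (∀ g ∈ (P : Subgroup G), g • a = a) → a = D.base ∨ a = v) ∧
    (∀ n ∈ D.N ⊓ normalizer ((P : Subgroup G) : Set G), n • v = v) ∧
    Nat.card (D.N ⊓ normalizer ((P : Subgroup G) : Set G) : Subgroup G) = 10 := by
  classical
  obtain ⟨u, hu⟩ := exists_prime_orderOf_dvd_card' (G := D.N) 5 (by rw [show Nat.card D.N = 5760 from D.card_N]; norm_num)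
  have hfac : (Nat.card G).factorization 5 = 1 := by
    rw [H.card, show (443520 : ℕ) = 5 ^ 1 * 88704 from rfl, Nat.factorization_mul (by norm_num) (by norm_num),
      Finsupp.add_apply, (by norm_num : Nat.Prime 5).factorization_pow, Finsupp.single_eq_same,
      Nat.factorization_eq_zero_of_not_dvd (by norm_num : ¬ 5 ∣ 88704)]
  let P : Sylow 5 G := Sylow.ofCard (zpowers (u : G)) (by rw [Nat.card_zpowers, Subgroup.orderOf_coe, hu, hfac, pow_one])
  have hPN : (P : Subgroup G) ≤ D.N := zpowers_le.2 u.2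
  obtain ⟨hmul, hmod⟩ := fixed_cosets D.N P hPN
  set f := Nat.card {a : G ⧸ D.N // ∀ g ∈ (P : Subgroup G), g • a = a} with hf
  set r := Nat.card (D.N ⊓ normalizer ((P : Subgroup G) : Set G) : Subgroup G)
  rw [H.normalizer_five P] at hmul
  have h5 : 5 ∣ r := by
    have h := card_dvd_of_le (le_inf hPN le_normalizer : (P : Subgroup G) ≤ D.N ⊓ normalizer ((P : Subgroup G) : Set G))
    rwa [show Nat.card (P : Subgroup G) = 5 by rw [P.card_eq_multiplicity, hfac, pow_one]] at h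
  have hidx : D.N.index % 5 = 2 := by
    have h := D.index_N H
    rw [show Nat.card D.Pt = D.N.index from (index_eq_card _).symm] at h
    rw [h]
  rw [hidx] at hmod
  obtain ⟨m, hm⟩ := h5
  rw [hm] at hmul
  have hfd : f ∈ (4 : ℕ).divisors := Nat.mem_divisors.2 ⟨⟨m, by linarith⟩, by norm_num⟩
  rw [show (4 : ℕ).divisors = {1, 2, 4} by decide] at hfd
  simp only [Finset.mem_insert, Finset.mem_singleton] at hfd
  have hf2 : f = 2 := by omega
  rw [hf2] at hmul
  have hbase : ∀ g ∈ (P : Subgroup G), g • D.base = D.base := fun g hg => D.fix_base (hPN hg)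
  haveI : Nontrivial {a : G ⧸ D.N // ∀ g ∈ (P : Subgroup G), g • a = a} :=
    Finite.one_lt_card_iff_nontrivial.1 (by rw [← hf, hf2]; norm_num)
  obtain ⟨⟨v, hv⟩, hne⟩ := exists_ne (⟨D.base, hbase⟩ : {a : G ⧸ D.N // ∀ g ∈ (P : Subgroup G), g • a = a})
  have hne' : v ≠ D.base := fun e => hne (Subtype.ext e)
  have huniq : ∀ a : D.Pt, (∀ g ∈ (P : Subgroup G), g • a = a) → a = D.base ∨ a = v := by
    intro a ha
    by_contra hcon
    push Not at hcon
    haveI := Fintype.ofFinite {a : G ⧸ D.N // ∀ g ∈ (P : Subgroup G), g • a = a}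
    have h3 : ({⟨D.base, hbase⟩, ⟨v, hv⟩, ⟨a, ha⟩} :
        Finset {a : G ⧸ D.N // ∀ g ∈ (P : Subgroup G), g • a = a}).card = 3 := by
      rw [Finset.card_insert_of_notMem, Finset.card_pair]
      · exact fun e => hcon.2 (congrArg Subtype.val e).symm
      · simp only [Finset.mem_insert, Finset.mem_singleton, not_or]
        exact ⟨Ne.symm hne, fun e => hcon.1 (congrArg Subtype.val e).symm⟩
    have h := Finset.card_le_univ ({⟨D.base, hbase⟩, ⟨v, hv⟩, ⟨a, ha⟩} :
        Finset {a : G ⧸ D.N // ∀ g ∈ (P : Subgroup G), g • a = a})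
    rw [h3, ← Nat.card_eq_fintype_card, ← hf, hf2] at h
    omega
  refine ⟨P, v, hPN, hne', huniq, fun n hn => ?_, by show r = 10; omega⟩
  obtain ⟨hnN, hnP⟩ := mem_inf.1 hn
  refine (huniq (n • v) fun g hg => ?_).resolve_left (D.ne_base_of hnN hne')
  have hg' : n⁻¹ * g * n⁻¹⁻¹ ∈ (P : Subgroup G) := (mem_normalizer_iff.1 (inv_mem hnP) g).1 hg
  have := hv _ hg'
  rw [inv_inv] at this
  calc g • n • v = n • (n⁻¹ * g * n) • v := by rw [smul_smul, smul_smul]; congr 1; group
    _ = n • v := by rw [this]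

theorem exists_three (H : Counts G) : ∃ v : D.Pt, v ≠ D.base ∧
    (∀ a, (∀ g ∈ (D.P : Subgroup G), g • a = a) → a = D.base ∨ a = v) ∧
    (∀ g ∈ (D.P : Subgroup G), g • v = v) ∧
    (∀ n ∈ D.N ⊓ normalizer ((D.P : Subgroup G) : Set G), n • v = v) ∧
    Nat.card (D.N ⊓ normalizer ((D.P : Subgroup G) : Set G) : Subgroup G) = 36 := by
  classical
  obtain ⟨hmul, hmod⟩ := fixed_cosets D.N D.P D.P_le
  set f := Nat.card {a : G ⧸ D.N // ∀ g ∈ (D.P : Subgroup G), g • a = a} with hf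
  set r := Nat.card (D.N ⊓ normalizer ((D.P : Subgroup G) : Set G) : Subgroup G)
  rw [H.four.2 D.P] at hmul
  have h9 : 9 ∣ r := H.card_P D.P ▸ card_dvd_of_le (le_inf D.P_le le_normalizer)
  have hidx : D.N.index % 3 = 2 := by
    have h := D.index_N H
    rw [show Nat.card D.Pt = D.N.index from (index_eq_card _).symm] at h
    rw [h]
  rw [hidx] at hmod
  have hr9 : r ≠ 9 := by
    intro h
    let Q : Sylow 3 D.N := D.P.subtype D.P_le
    have hQn : normalizer ((Q : Subgroup D.N) : Set D.N) ≤ centralizer ((Q : Subgroup D.N) : Set D.N) := by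
      rw [show (Q : Subgroup D.N) = (D.P : Subgroup G).subgroupOf D.N from rfl, ← subgroupOf_normalizer_eq D.P_le]
      intro n hn
      refine mem_centralizer_iff.2 fun q hq => Subtype.ext ?_
      have hle : (D.P : Subgroup G) ≤ D.N ⊓ normalizer ((D.P : Subgroup G) : Set G) := le_inf D.P_le le_normalizer
      have hn' : (n : G) ∈ (D.P : Subgroup G) := by
        rw [eq_of_le_of_card_ge hle (by rw [H.card_P]; exact h.le)]
        exact mem_inf.2 ⟨n.2, mem_subgroupOf.1 hn⟩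
      exact H.comm_P D.P (mem_subgroupOf.1 hq) hn'
    obtain ⟨R, hR⟩ := dvd_normalizer_of_complement (r := 5) Q hQn (by norm_num)
    rw [show (Q : Subgroup D.N) = (D.P : Subgroup G).subgroupOf D.N from rfl,
      Nat.card_congr (subgroupOfEquivOfLe D.P_le).toEquiv, H.card_P] at hR
    have hfac : (Nat.card G).factorization 5 = (Nat.card D.N).factorization 5 := by
      rw [show Nat.card D.N = 5760 from D.card_N, H.card, show (443520 : ℕ) = 5760 * 77 from rfl,
        Nat.factorization_mul (by norm_num) (by norm_num), Finsupp.add_apply,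
        Nat.factorization_eq_zero_of_not_dvd (by norm_num : ¬ 5 ∣ 77), add_zero]
    let R' : Sylow 5 G := Sylow.ofCard ((R : Subgroup D.N).map D.N.subtype) (by
      rw [card_map_of_injective D.N.subtype_injective, R.card_eq_multiplicity, hfac])
    have hd : Nat.card (normalizer ((R : Subgroup D.N) : Set D.N)) ∣
        Nat.card (normalizer ((R' : Subgroup G) : Set G)) := by
      rw [← card_map_of_injective D.N.subtype_injective]
      exact card_dvd_of_le (le_normalizer_map _)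
    have := hR.trans hd
    rw [H.normalizer_five R'] at this
    norm_num at this
  obtain ⟨m, hm⟩ := h9
  rw [hm] at hmul hr9
  have hfd : f ∈ (8 : ℕ).divisors := Nat.mem_divisors.2 ⟨⟨m, by linarith⟩, by norm_num⟩
  rw [show (8 : ℕ).divisors = {1, 2, 4, 8} by decide] at hfd
  simp only [Finset.mem_insert, Finset.mem_singleton] at hfd
  have hf2 : f = 2 := by rcases hfd with e | e | e | e <;> rw [e] at hmod hmul ⊢ <;> omega
  rw [hf2] at hmul
  have hbase : ∀ g ∈ (D.P : Subgroup G), g • D.base = D.base := fun g hg => D.fix_base (D.P_le hg)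
  haveI : Nontrivial {a : G ⧸ D.N // ∀ g ∈ (D.P : Subgroup G), g • a = a} :=
    Finite.one_lt_card_iff_nontrivial.1 (by rw [← hf, hf2]; norm_num)
  obtain ⟨⟨v, hv⟩, hne⟩ := exists_ne (⟨D.base, hbase⟩ : {a : G ⧸ D.N // ∀ g ∈ (D.P : Subgroup G), g • a = a})
  have hne' : v ≠ D.base := fun e => hne (Subtype.ext e)
  have huniq : ∀ a : D.Pt, (∀ g ∈ (D.P : Subgroup G), g • a = a) → a = D.base ∨ a = v := by
    intro a ha
    by_contra hcon
    push Not at hcon
    haveI := Fintype.ofFinite {a : G ⧸ D.N // ∀ g ∈ (D.P : Subgroup G), g • a = a}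
    have h3 : ({⟨D.base, hbase⟩, ⟨v, hv⟩, ⟨a, ha⟩} :
        Finset {a : G ⧸ D.N // ∀ g ∈ (D.P : Subgroup G), g • a = a}).card = 3 := by
      rw [Finset.card_insert_of_notMem, Finset.card_pair]
      · exact fun e => hcon.2 (congrArg Subtype.val e).symm
      · simp only [Finset.mem_insert, Finset.mem_singleton, not_or]
        exact ⟨Ne.symm hne, fun e => hcon.1 (congrArg Subtype.val e).symm⟩
    have h := Finset.card_le_univ ({⟨D.base, hbase⟩, ⟨v, hv⟩, ⟨a, ha⟩} :
        Finset {a : G ⧸ D.N // ∀ g ∈ (D.P : Subgroup G), g • a = a})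
    rw [h3, ← Nat.card_eq_fintype_card, ← hf, hf2] at h
    omega
  refine ⟨v, hne', huniq, hv, fun n hn => ?_, by show r = 36; omega⟩
  obtain ⟨hnN, hnP⟩ := mem_inf.1 hn
  refine (huniq (n • v) fun g hg => ?_).resolve_left (D.ne_base_of hnN hne')
  have hg' : n⁻¹ * g * n⁻¹⁻¹ ∈ (D.P : Subgroup G) := (mem_normalizer_iff.1 (inv_mem hnP) g).1 hg
  have := hv _ hg'
  rw [inv_inv] at this
  calc g • n • v = n • (n⁻¹ * g * n) • v := by rw [smul_smul, smul_smul]; congr 1; group
    _ = n • v := by rw [this]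

/-- The non-base points form orbits of lengths 16 and 60; the first is regular for the subgroup of order 16. -/
theorem orbits (H : Counts G) : ∃ v : D.Pt, v ≠ D.base ∧ Nat.card (orbit D.N v) = 16 ∧
    D.E ⊓ stabilizer G v = ⊥ ∧
    ∀ a, a ≠ D.base → a ∉ orbit D.N v → Nat.card (orbit D.N a) = 60 := by
  classical
  obtain ⟨P, v, hPN, hv, hP, hvfix, hr⟩ := D.exists_five H
  obtain ⟨w, hw, hQ, hwP, hwfix, hr3⟩ := D.exists_three H
  have hPv : ∀ g ∈ (P : Subgroup G), g • v = v := fun g hg => hvfix g (mem_inf.2 ⟨hPN hg, le_normalizer hg⟩)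
  set S := D.N ⊓ stabilizer G v with hS
  have hoS : Nat.card (orbit D.N v) * Nat.card S = 5760 := D.orbit_mul v
  have h10 : 10 ∣ Nat.card S := hr ▸ card_dvd_of_le
    (le_inf inf_le_left fun n hn => mem_stabilizer_iff.2 (hvfix n hn))
  set A := D.E ⊓ stabilizer G v with hA
  have hA1 : A = ⊥ := by
    obtain ⟨u, hu⟩ := exists_prime_orderOf_dvd_card' (G := (P : Subgroup G)) 5 (by
      rw [P.card_eq_multiplicity]
      refine dvd_pow_self 5 (Nat.Prime.factorization_pos_of_dvd (by norm_num) Nat.card_pos.ne' ?_).ne'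
      rw [H.card]; norm_num)
    have hu' : orderOf (u : G) = 5 := by rw [Subgroup.orderOf_coe, hu]
    have hstab : (u : G) ∈ stabilizer G v := mem_stabilizer_iff.2 (hPv u u.2)
    have hmod := card_modEq_fixed (p := 5) (n := 1) (x := (u : G)) (by rw [pow_one]; exact orderOf_dvd_iff_pow_eq_one.1 (by rw [hu']))
      (fun g => g ∈ A ∧ g ≠ 1) fun g => and_congr (by
        rw [mem_inf, mem_inf, mem_normalizer_iff.1 (hPN u.2) g]
        refine and_congr_right fun _ => ⟨fun h => mul_mem (mul_mem hstab h) (inv_mem hstab), fun h => ?_⟩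
        have := mul_mem (mul_mem (inv_mem hstab) h) hstab
        rwa [show (u : G)⁻¹ * (u * g * (u : G)⁻¹) * u = g by group] at this) (by simp)
    have hfix : Nat.card {g : G // (g ∈ A ∧ g ≠ 1) ∧ g * u = u * g} = 0 := by
      refine Nat.card_eq_zero.2 (Or.inl ⟨fun ⟨g, ⟨hg, hg1⟩, hgu⟩ => ?_⟩)
      have h := Subgroup.orderOf_dvd_natCard _ (mem_cz.2 hgu : g ∈ cz (u : G))
      rw [orderOf_eq_prime (p := 2) (by rw [pow_two, D.sq g (mem_inf.1 hg).1]) hg1, H.cz_five hu'] at h
      norm_num at h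
    rw [hfix] at hmod
    have hle := D.card_stab_E H hv
    have h := split_card (fun g : G => g ∈ A) (· = 1)
    have h1 : Nat.card {g : G // g ∈ A ∧ g = 1} = 1 :=
      Nat.card_eq_one_iff_unique.2 ⟨⟨fun a b => Subtype.ext (a.2.2.trans b.2.2.symm)⟩, ⟨⟨1, one_mem _, rfl⟩⟩⟩
    rw [h1, show Nat.card {g : G // g ∈ A} = Nat.card A from rfl] at h
    rw [Nat.ModEq] at hmod
    have hlt : Nat.card A ≤ 4 := hle
    have e : Nat.card {g : G // g ∈ A ∧ g ≠ 1} = Nat.card {a : G // a ∈ A ∧ ¬ a = 1} := rfl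
    exact card_eq_one.1 (by omega)
  have h16 : 16 ∣ Nat.card (orbit D.N v) := by
    refine dvd_card_of_orbit (H := D.E) (p := fun a => a ∈ orbit D.N v) ?_ fun a ha => ?_
    · rintro e _ ⟨n, rfl⟩
      exact ⟨⟨(e : G), le_normalizer e.2⟩ * n, (mul_smul ((⟨(e : G), le_normalizer e.2⟩ : D.N)) n v)⟩
    · obtain ⟨n, rfl⟩ := ha
      have hst : stabilizer D.E (n • v) = ⊥ := by
        refine (eq_bot_iff_forall _).2 fun e he => Subtype.ext ?_
        have h' : ((n : G)⁻¹ * e * n) ∈ A := mem_inf.2 ⟨by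
            have := (mem_normalizer_iff.1 (inv_mem n.2 : (n : G)⁻¹ ∈ D.N) (e : G)).1 e.2
            rwa [inv_inv] at this, mem_stabilizer_iff.2 (by
            rw [mul_smul, mul_smul, inv_smul_eq_iff]
            exact mem_stabilizer_iff.1 he)⟩
        rw [hA1, mem_bot] at h'
        calc (e : G) = n * ((n : G)⁻¹ * e * n) * (n : G)⁻¹ := by group
          _ = 1 := by rw [h', mul_one, mul_inv_cancel]
      have := Nat.card_congr (orbitProdStabilizerEquivGroup D.E (n • v))
      rw [Nat.card_prod, hst, card_bot, mul_one, D.card_E] at this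
      rw [this]
  have hsub : ∀ a ∈ orbit D.N v, a ≠ D.base := by
    rintro _ ⟨n, rfl⟩
    exact D.ne_base_of n.2 hv
  have hall : Nat.card {a : D.Pt // a ≠ D.base} = 76 := by
    haveI := Fintype.ofFinite D.Pt
    have h := D.index_N H
    rw [Nat.card_eq_fintype_card, Fintype.card_subtype_compl, Fintype.card_subtype_eq, ← Nat.card_eq_fintype_card, h]
  have hsplit := split_card (fun a : D.Pt => a ≠ D.base) (fun a => a ∈ orbit D.N v)
  have e16 : Nat.card {a : D.Pt // a ≠ D.base ∧ a ∈ orbit D.N v} = Nat.card (orbit D.N v) :=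
    Nat.card_congr (Equiv.subtypeEquivRight fun a => ⟨fun h => h.2, fun h => ⟨hsub a h, h⟩⟩)
  rw [hall, e16] at hsplit
  have hinvP : ∀ {p : ℕ} {Q : Sylow p G}, (Q : Subgroup G) ≤ D.N → ∀ (g : (Q : Subgroup G)) (a : D.Pt),
      (a ≠ D.base ∧ a ∉ orbit D.N v) → (g • a ≠ D.base ∧ g • a ∉ orbit D.N v) := by
    intro p Q hQN g a ha
    refine ⟨D.ne_base_of (hQN g.2) ha.1, fun h => ha.2 ?_⟩
    obtain ⟨n, hn⟩ := h
    refine ⟨(⟨(g : G), hQN g.2⟩ : D.N)⁻¹ * n, ?_⟩
    show ((⟨(g : G), hQN g.2⟩ : D.N)⁻¹ * n) • v = a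
    rw [mul_smul, inv_smul_eq_iff]
    exact hn
  -- the orbit of `v` has length 16
  have ho5 : Nat.card (orbit D.N v) % 5 = 1 := by
    have h5 : 5 ∣ Nat.card {a : D.Pt // a ∈ orbit D.N v ∧ a ≠ v} := by
      refine dvd_of_no_fixed P.2 ?_ fun a ha => ?_
      · rintro g a ⟨⟨n, rfl⟩, hne⟩
        refine ⟨⟨⟨(g : G), hPN g.2⟩ * n, mul_smul (⟨(g : G), hPN g.2⟩ : D.N) n v⟩, fun e => hne ?_⟩
        have e' : (g : G) • (n • v) = v := e
        show n • v = v
        rw [← inv_smul_smul (g : G) (n • v), e', inv_smul_eq_iff, hPv _ g.2]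
      · by_contra hcon
        push Not at hcon
        rcases hP a fun g hg => hcon ⟨g, hg⟩ with e | e
        · exact hsub a ha.1 e
        · exact ha.2 e
    have h := split_card (fun a : D.Pt => a ∈ orbit D.N v) (fun a => a = v)
    have h1 : Nat.card {a : D.Pt // a ∈ orbit D.N v ∧ a = v} = 1 :=
      Nat.card_eq_one_iff_unique.2 ⟨⟨fun a b => Subtype.ext (a.2.2.trans b.2.2.symm)⟩,
        ⟨⟨v, mem_orbit_self v, rfl⟩⟩⟩
    rw [h1] at h
    have h' : Nat.card (orbit D.N v) = 1 + Nat.card {a : D.Pt // a ∈ orbit D.N v ∧ a ≠ v} := h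
    omega
  have ho16 : Nat.card (orbit D.N v) = 16 := by
    obtain ⟨s, hs⟩ := h10
    rw [hs] at hoS
    have hd : Nat.card (orbit D.N v) ∣ 576 := ⟨s, by linarith⟩
    obtain ⟨k, hk⟩ := h16
    rw [hk] at hd ho5 hsplit ⊢
    have hk4 : k ≤ 4 := by omega
    rcases (show k = 0 ∨ k = 1 ∨ k = 2 ∨ k = 3 ∨ k = 4 by omega) with rfl | rfl | rfl | rfl | rfl <;> omega
  rw [ho16] at hsplit
  have hrest : Nat.card {a : D.Pt // a ≠ D.base ∧ a ∉ orbit D.N v} = 60 := by omega
  -- no point outside is fixed by the Sylow 5-subgroup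
  have hfree5 : ∀ a : D.Pt, a ≠ D.base → a ∉ orbit D.N v → ∃ g : (P : Subgroup G), g • a ≠ a := by
    intro a ha hav
    by_contra hcon
    push Not at hcon
    rcases hP a fun g hg => hcon ⟨g, hg⟩ with e | e
    · exact ha e
    · exact hav (by rw [e]; exact mem_orbit_self v)
  -- orbits outside
  have hout : ∀ a : D.Pt, a ≠ D.base → a ∉ orbit D.N v → ∀ b ∈ orbit D.N a, b ≠ D.base ∧ b ∉ orbit D.N v := by
    rintro a ha hav _ ⟨n, rfl⟩
    refine ⟨D.ne_base_of n.2 ha, fun h => hav ?_⟩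
    obtain ⟨m, hm⟩ := h
    refine ⟨n⁻¹ * m, ?_⟩
    show (n⁻¹ * m) • v = a
    rw [mul_smul, inv_smul_eq_iff]
    exact hm
  have h4o : ∀ a : D.Pt, a ≠ D.base → a ∉ orbit D.N v → 20 ∣ Nat.card (orbit D.N a) := by
    intro a ha hav
    refine Nat.Coprime.mul_dvd_of_dvd_of_dvd (by norm_num : Nat.Coprime 4 5) ?_ ?_
    · refine D.four_dvd H (s := fun b => b ∈ orbit D.N a) ?_ fun b hb => (hout a ha hav b hb).1
      rintro n hn _ ⟨m, rfl⟩
      exact ⟨⟨n, hn⟩ * m, mul_smul (⟨n, hn⟩ : D.N) m a⟩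
    · refine dvd_of_no_fixed P.2 (s := fun b => b ∈ orbit D.N a) ?_ fun b hb =>
        hfree5 b (hout a ha hav b hb).1 (hout a ha hav b hb).2
      rintro g _ ⟨m, rfl⟩
      exact ⟨⟨(g : G), hPN g.2⟩ * m, mul_smul (⟨(g : G), hPN g.2⟩ : D.N) m a⟩
  have hw16 : w ∈ orbit D.N v := by
    by_contra hwv
    obtain ⟨i, hi⟩ := h4o w hw hwv
    have hwS : Nat.card (orbit D.N w) * Nat.card (D.N ⊓ stabilizer G w : Subgroup G) = 5760 := D.orbit_mul w
    obtain ⟨s, hs⟩ : 36 ∣ Nat.card (D.N ⊓ stabilizer G w : Subgroup G) := hr3 ▸ card_dvd_of_le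
      (le_inf inf_le_left fun n hn => mem_stabilizer_iff.2 (hwfix n hn))
    have hle : Nat.card (orbit D.N w) ≤ 60 := hrest ▸ Nat.card_le_card_of_injective
      (fun b : orbit D.N w => (⟨b.1, hout w hw hwv b.1 b.2⟩ : {a : D.Pt // a ≠ D.base ∧ a ∉ orbit D.N v}))
      fun b c e => Subtype.ext (by simpa [Subtype.ext_iff] using e)
    have h3 : 3 ∣ Nat.card {a : D.Pt // (a ≠ D.base ∧ a ∉ orbit D.N v) ∧ a ∉ orbit D.N w} := by
      refine dvd_of_no_fixed D.P.2 ?_ fun a ha => ?_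
      · intro g a ha
        refine ⟨hinvP D.P_le g a ha.1, fun h => ha.2 ?_⟩
        obtain ⟨n, hn⟩ := h
        refine ⟨(⟨(g : G), D.P_le g.2⟩ : D.N)⁻¹ * n, ?_⟩
        show ((⟨(g : G), D.P_le g.2⟩ : D.N)⁻¹ * n) • w = a
        rw [mul_smul, inv_smul_eq_iff]
        exact hn
      · by_contra hcon
        push Not at hcon
        rcases hQ a fun g hg => hcon ⟨g, hg⟩ with e | e
        · exact ha.1.1 e
        · exact ha.2 (by rw [e]; exact mem_orbit_self w)
    have h := split_card (fun a : D.Pt => a ≠ D.base ∧ a ∉ orbit D.N v) (fun a => a ∈ orbit D.N w)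
    have ew : Nat.card {a : D.Pt // (a ≠ D.base ∧ a ∉ orbit D.N v) ∧ a ∈ orbit D.N w} = Nat.card (orbit D.N w) :=
      Nat.card_congr (Equiv.subtypeEquivRight fun a => ⟨fun h => h.2, fun h => ⟨hout w hw hwv a h, h⟩⟩)
    rw [hrest, ew] at h
    rw [hs, hi] at hwS
    rw [hi] at h hle
    have hi3 : i ≤ 3 := by omega
    rcases (show i = 0 ∨ i = 1 ∨ i = 2 ∨ i = 3 by omega) with rfl | rfl | rfl | rfl <;> omega
  refine ⟨v, hv, ho16, hA1, fun a ha hav => ?_⟩
  have h3 : 3 ∣ Nat.card (orbit D.N a) := by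
    refine dvd_of_no_fixed D.P.2 (s := fun b => b ∈ orbit D.N a) ?_ fun b hb => ?_
    · rintro g _ ⟨m, rfl⟩
      exact ⟨⟨(g : G), D.P_le g.2⟩ * m, mul_smul (⟨(g : G), D.P_le g.2⟩ : D.N) m a⟩
    · by_contra hcon
      push Not at hcon
      obtain ⟨hb1, hb2⟩ := hout a ha hav b hb
      rcases hQ b fun g hg => hcon ⟨g, hg⟩ with e | e
      · exact hb1 e
      · exact hb2 (by rw [e]; exact hw16)
  have h60 : 60 ∣ Nat.card (orbit D.N a) :=
    Nat.Coprime.mul_dvd_of_dvd_of_dvd (by norm_num : Nat.Coprime 20 3) (h4o a ha hav) h3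
  have hle : Nat.card (orbit D.N a) ≤ 60 := hrest ▸ Nat.card_le_card_of_injective
    (fun b : orbit D.N a => (⟨b.1, hout a ha hav b.1 b.2⟩ : {a : D.Pt // a ≠ D.base ∧ a ∉ orbit D.N v}))
    fun b c e => Subtype.ext (by simpa [Subtype.ext_iff] using e)
  have hpos : 0 < Nat.card (orbit D.N a) := @Nat.card_pos _ ⟨⟨a, mem_orbit_self a⟩⟩ _
  obtain ⟨q, hq⟩ := h60
  omega

end Hexad

end CfsgLib.M22Id
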