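import Cfsg.Agent.M22Id.Fix

/-!
# Groups with the counts of `M₂₂`: a subgroup of order 16
-/

set_option autoImplicit false
set_option linter.style.haveILetI false
set_option linter.unusedSectionVars false

namespace CfsgLib.M22Id

open Subgroup CfsgLib.M11Nse CfsgLib.M12Nse
open scoped Pointwise

variable {G : Type*} [Group G] [Finite G]

local instance : Fact (Nat.Prime 3) := ⟨Nat.prime_three⟩
local instance : Fact (Nat.Prime 2) := ⟨Nat.prime_two⟩

namespace Counts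

variable (H : Counts G)
include H

theorem conj_eq_self {x g : G} (h : Commute x g) : x * g * x⁻¹ = g := mul_inv_eq_iff_eq_mul.2 h.eq

theorem conj_R {w c : G} (hcw : Commute c w) {r : G} (hr : r ∈ R w) : c * r * c⁻¹ ∈ R w :=
  conj_mem_R (mem_cz.2 hcw.eq) hr

theorem mem_W_of_R {w x r : G} (hw : orderOf w = 2) (hx : orderOf x = 3) (hr : r ∈ R w) (hc : Commute x r) :
    r ∈ H.W hx := by
  obtain ⟨k, hk⟩ := H.isPGroup_R hw ⟨r, hr⟩
  exact H.two_mem_W hx hc (k := k) (congrArg Subtype.val hk)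

theorem W_le_R {w x : G} (hw : orderOf w = 2) (hx : orderOf x = 3) (hxw : Commute x w) : H.W hx ≤ R w :=
  H.le_R hw hx hxw (H.isPGroup_W hx) (H.W_le_cz hx ((H.mem_W_ne hx).2 ⟨hw, hxw⟩).1) fun q hq =>
    H.conj_W hx (Or.inl (H.conj_eq_self (Commute.refl x))) hq

/-- The subgroup of `R` centralising the four-group. -/
noncomputable def Eg (w : G) {x : G} (hx : orderOf x = 3) : Subgroup G :=
  R w ⊓ centralizer (H.W hx : Set G)

theorem cent_W_le {w x : G} (hw : orderOf w = 2) (hx : orderOf x = 3) (hxw : Commute x w) :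
    centralizer (H.W hx : Set G) ≤ cz w :=
  centralizer_le (by simpa using ((H.mem_W_ne hx).2 ⟨hw, hxw⟩).1)

theorem le_E {w x : G} (hw : orderOf w = 2) (hx : orderOf x = 3) (hxw : Commute x w) {Q : Subgroup G}
    (hQ : IsPGroup 2 Q) (hQC : Q ≤ centralizer (H.W hx : Set G)) (hn : ∀ q ∈ Q, x * q * x⁻¹ ∈ Q) :
    Q ≤ H.Eg w hx :=
  le_inf (H.le_R hw hx hxw hQ (hQC.trans (H.cent_W_le hw hx hxw)) hn) hQC

theorem W_le_E {w x : G} (hw : orderOf w = 2) (hx : orderOf x = 3) (hxw : Commute x w) : H.W hx ≤ H.Eg w hx :=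
  le_inf (H.W_le_R hw hx hxw) fun a ha => mem_centralizer_iff.2 fun b hb => (mem_cz.1 (H.W_le_cz hx ha hb))

theorem conj_cent {x c : G} (hx : orderOf x = 3) (hc : c * x * c⁻¹ = x ∨ c * x * c⁻¹ = x⁻¹) {g : G}
    (hg : g ∈ centralizer (H.W hx : Set G)) : c * g * c⁻¹ ∈ centralizer (H.W hx : Set G) := by
  refine mem_centralizer_iff.2 fun a ha => ?_
  have hci : c⁻¹ * x * c⁻¹⁻¹ = x ∨ c⁻¹ * x * c⁻¹⁻¹ = x⁻¹ := by
    rcases hc with e | e
    · refine Or.inl ?_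
      conv_lhs => rw [← e]
      group
    · refine Or.inr ?_
      have e2 : c * x⁻¹ * c⁻¹ = x := by rw [← conj_inv, e, inv_inv]
      conv_lhs => rw [← e2]
      group
  have h := mem_centralizer_iff.1 hg (c⁻¹ * a * c⁻¹⁻¹) (H.conj_W hx hci ha)
  calc a * (c * g * c⁻¹) = c * (c⁻¹ * a * c⁻¹⁻¹ * g) * c⁻¹ := by group
    _ = c * (g * (c⁻¹ * a * c⁻¹⁻¹)) * c⁻¹ := by rw [h]
    _ = c * g * c⁻¹ * a := by group

theorem conj_E {w x c : G} (hw : orderOf w = 2) (hx : orderOf x = 3) (hxw : Commute x w)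
    (hc : c * x * c⁻¹ = x ∨ c * x * c⁻¹ = x⁻¹) {g : G} (hg : g ∈ H.Eg w hx) : c * g * c⁻¹ ∈ H.Eg w hx := by
  have hxR : ∀ q ∈ H.Eg w hx, x * q * x⁻¹ ∈ H.Eg w hx ∧ x⁻¹ * q * x⁻¹⁻¹ ∈ H.Eg w hx := fun q hq => by
    refine ⟨mem_inf.2 ⟨H.conj_R hxw (mem_inf.1 hq).1, H.conj_cent hx (Or.inl ?_) (mem_inf.1 hq).2⟩,
      mem_inf.2 ⟨H.conj_R hxw.inv_left (mem_inf.1 hq).1, H.conj_cent hx (Or.inl ?_) (mem_inf.1 hq).2⟩⟩
    · exact H.conj_eq_self (Commute.refl x)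
    · exact H.conj_eq_self (Commute.refl x).inv_left
  have hQ : IsPGroup 2 ((H.Eg w hx).map (MulAut.conj c).toMonoidHom) :=
    ((H.isPGroup_R hw).to_le inf_le_left).map _
  refine H.le_E hw hx hxw hQ ?_ ?_ ⟨g, hg, rfl⟩
  · rintro _ ⟨q, hq, rfl⟩
    exact H.conj_cent hx hc (mem_inf.1 hq).2
  · rintro _ ⟨q, hq, rfl⟩
    show x * (c * q * c⁻¹) * x⁻¹ ∈ _
    rcases hc with e | e
    · exact ⟨x * q * x⁻¹, (hxR q hq).1, by
        have e' : c * x = x * c := mul_inv_eq_iff_eq_mul.1 e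
        show c * (x * q * x⁻¹) * c⁻¹ = _
        calc c * (x * q * x⁻¹) * c⁻¹ = (c * x) * q * (c * x)⁻¹ := by group
          _ = _ := by rw [e']; group⟩
    · exact ⟨x⁻¹ * q * x⁻¹⁻¹, (hxR q hq).2, by
        show c * (x⁻¹ * q * x⁻¹⁻¹) * c⁻¹ = _
        have e' : c * x⁻¹ = x * c := by
          rw [← mul_inv_eq_iff_eq_mul, ← conj_inv, e, inv_inv]
        calc c * (x⁻¹ * q * x⁻¹⁻¹) * c⁻¹ = (c * x⁻¹) * q * (c * x⁻¹)⁻¹ := by group
          _ = _ := by rw [e']; group⟩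

theorem conj_E_P {w x : G} {P : Sylow 3 G} (hw : orderOf w = 2) (hx : orderOf x = 3) (hxw : Commute x w)
    (hxP : x ∈ (P : Subgroup G)) : ∀ p ∈ (P : Subgroup G), ∀ q ∈ H.Eg w hx, p * q * p⁻¹ ∈ H.Eg w hx :=
  fun _ hp _ hq => H.conj_E hw hx hxw (Or.inl (H.conj_eq_self (H.comm_P P hp hxP))) hq

/-- The orders of 2-groups normalised by an element of order three and containing its four-group. -/
theorem card_two {w x : G} (hw : orderOf w = 2) (hx : orderOf x = 3) {Q : Subgroup G} (hQ : Q ≤ R w)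
    (hn : ∀ q ∈ Q, x * q * x⁻¹ ∈ Q) (hWQ : H.W hx ≤ Q) :
    Nat.card Q = 4 ∨ Nat.card Q = 16 ∨ Nat.card Q = 64 := by
  obtain ⟨i, hi, he⟩ := (Nat.dvd_prime_pow Nat.prime_two).1
    ((card_dvd_of_le hQ).trans (dvd_of_eq (H.card_R hw)) |>.trans (dvd_of_eq (show 64 = 2 ^ 6 from rfl)))
  have hmod := card_modEq_fixed (p := 3) (n := 1) (x := x) (by rw [pow_one, ← hx, pow_orderOf_eq_one])
    (fun g => g ∈ Q) fun g => ⟨fun hg => hn g hg, fun hg => by
      have h3 : x * (x * (x * g * x⁻¹) * x⁻¹) * x⁻¹ = g := by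
        calc x * (x * (x * g * x⁻¹) * x⁻¹) * x⁻¹ = x ^ 3 * g * (x ^ 3)⁻¹ := by simp [pow_succ, mul_assoc]
          _ = g := by rw [← hx, pow_orderOf_eq_one, one_mul, inv_one, mul_one]
      exact h3 ▸ hn _ (hn _ hg)⟩
  have hfix : Nat.card {g : G // g ∈ Q ∧ g * x = x * g} = Nat.card (H.W hx) := Nat.card_congr
    (Equiv.subtypeEquivRight fun g => ⟨fun h => H.mem_W_of_R hw hx (hQ h.1) h.2.symm,
      fun h => ⟨hWQ h, ((H.mem_W hx).1 h).1.eq.symm⟩⟩)
  rw [hfix, H.card_W hx, show Nat.card {g : G // g ∈ Q} = 2 ^ i from he, Nat.ModEq] at hmod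
  have h4 := Nat.le_of_dvd Nat.card_pos (card_dvd_of_le hWQ)
  rw [H.card_W hx, he] at h4
  rcases pow_two_mod_three (k := i) (by omega) (by omega) with h | h | h | h <;> rw [he, h] <;> omega

theorem exists_normalizer {w : G} (hw : orderOf w = 2) {Q : Subgroup G} (hQ : Q ≤ R w) (hne : Q ≠ R w) :
    ∃ n ∈ R w, n ∉ Q ∧ n ∈ normalizer (Q : Set G) := by
  haveI := (H.isPGroup_R hw).isNilpotent
  have hlt : Q.subgroupOf (R w) < ⊤ := lt_top_iff_ne_top.2 fun h => hne (le_antisymm hQ (subgroupOf_eq_top.1 h))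
  obtain ⟨n, hn, hnQ⟩ := SetLike.exists_of_lt (Group.normalizerCondition_of_isNilpotent _ hlt)
  rw [← subgroupOf_normalizer_eq hQ, mem_subgroupOf] at hn
  exact ⟨n, n.2, fun h => hnQ (mem_subgroupOf.2 h), hn⟩

/-- A normalised subgroup of order at least 16 is normal in `R`. -/
theorem normal_R {w x : G} (hw : orderOf w = 2) (hx : orderOf x = 3) (hxw : Commute x w) {Q : Subgroup G}
    (hQ : Q ≤ R w) (hn : ∀ q ∈ Q, x * q * x⁻¹ ∈ Q) (hWQ : H.W hx ≤ Q) (hc : Nat.card Q = 16) :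
    R w ≤ normalizer (Q : Set G) := by
  obtain ⟨n, hnR, hnQ, hnN⟩ := H.exists_normalizer hw hQ fun e => by
    rw [e, H.card_R hw] at hc; norm_num at hc
  have hxN : x ∈ normalizer (Q : Set G) := mem_normalizer_iff.2 fun g => ⟨fun hg => hn g hg, fun hg => by
      have h3 : x * (x * (x * g * x⁻¹) * x⁻¹) * x⁻¹ = g := by
        calc x * (x * (x * g * x⁻¹) * x⁻¹) * x⁻¹ = x ^ 3 * g * (x ^ 3)⁻¹ := by simp [pow_succ, mul_assoc]
          _ = g := by rw [← hx, pow_orderOf_eq_one, one_mul, inv_one, mul_one]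
      exact h3 ▸ hn _ (hn _ hg)⟩
  have hle : Q ≤ R w ⊓ normalizer (Q : Set G) := le_inf hQ le_normalizer
  rcases H.card_two hw hx (inf_le_left : R w ⊓ normalizer (Q : Set G) ≤ R w)
    (fun q hq => mem_inf.2 ⟨H.conj_R hxw (mem_inf.1 hq).1,
      mul_mem (mul_mem hxN (mem_inf.1 hq).2) (inv_mem hxN)⟩) (hWQ.trans hle) with h | h | h
  · have := Nat.le_of_dvd Nat.card_pos (card_dvd_of_le hle)
    omega
  · exact absurd ((eq_of_le_of_card_ge hle (by omega)).symm ▸ mem_inf.2 ⟨hnR, hnN⟩ : n ∈ Q) hnQ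
  · intro r hr
    rw [← eq_of_le_of_card_ge (inf_le_left : R w ⊓ normalizer (Q : Set G) ≤ R w) (by rw [h, H.card_R hw])] at hr
    exact (mem_inf.1 hr).2

theorem card_E {w x : G} (hw : orderOf w = 2) (hx : orderOf x = 3) (hxw : Commute x w) :
    Nat.card (H.Eg w hx) = 16 ∨ Nat.card (H.Eg w hx) = 64 := by
  rcases H.card_two hw hx (inf_le_left : H.Eg w hx ≤ R w)
    (fun q hq => H.conj_E hw hx hxw (Or.inl (H.conj_eq_self (Commute.refl x))) hq)
    (H.W_le_E hw hx hxw) with h | h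
  swap
  · exact h
  exfalso
  have hE : H.W hx = H.Eg w hx := eq_of_le_of_card_ge (H.W_le_E hw hx hxw) (by rw [H.card_W hx]; exact h.le)
  obtain ⟨n, hnR, hnW, hnN⟩ := H.exists_normalizer hw (H.W_le_R hw hx hxw) fun e => by
    have := H.card_W hx
    rw [e, H.card_R hw] at this
    norm_num at this
  set u := n⁻¹ * (x * n * x⁻¹) with hu_def
  have hu : u ∈ H.W hx := by
    rw [hE]
    refine mem_inf.2 ⟨mul_mem (inv_mem hnR) (H.conj_R hxw hnR), mem_centralizer_iff.2 fun a ha => ?_⟩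
    have hxa : x * a = a * x := ((H.mem_W hx).1 ha).1.eq
    have hna : n * a * n⁻¹ ∈ H.W hx := (mem_normalizer_iff.1 hnN a).1 ha
    have hxna : x * (n * a * n⁻¹) = n * a * n⁻¹ * x := ((H.mem_W hx).1 hna).1.eq
    calc a * u = n⁻¹ * (n * a * n⁻¹ * x) * n * x⁻¹ := by rw [hu_def]; group
      _ = n⁻¹ * (x * (n * a * n⁻¹)) * n * x⁻¹ := by rw [hxna]
      _ = n⁻¹ * x * n * (a * x⁻¹) := by group
      _ = u * a := by
          have hxa' : a * x⁻¹ = x⁻¹ * a := (show Commute x a from hxa).inv_left.eq.symm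
          rw [hxa', hu_def]; group
  obtain ⟨hxu, hu2⟩ := (H.mem_W hx).1 hu
  have he : x * n * x⁻¹ = n * u := by rw [hu_def]; group
  have hxu' : x * u * x⁻¹ = u := H.conj_eq_self hxu
  have h3 : x ^ 3 * n * (x ^ 3)⁻¹ = n * u ^ 3 := by
    calc x ^ 3 * n * (x ^ 3)⁻¹ = x * (x * (x * n * x⁻¹) * x⁻¹) * x⁻¹ := by simp [pow_succ, mul_assoc]
      _ = x * (x * (n * u) * x⁻¹) * x⁻¹ := by rw [he]
      _ = x * ((x * n * x⁻¹) * (x * u * x⁻¹)) * x⁻¹ := by group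
      _ = x * (n * u * u) * x⁻¹ := by rw [hxu', he]
      _ = (x * n * x⁻¹) * (x * u * x⁻¹) * (x * u * x⁻¹) := by group
      _ = n * u ^ 3 := by rw [hxu', he]; simp [pow_succ, mul_assoc]
  rw [← hx, pow_orderOf_eq_one, one_mul, inv_one, mul_one, hx, left_eq_mul, pow_succ, sq, hu2, one_mul] at h3
  rw [h3, mul_one] at he
  exact hnW (H.mem_W_of_R hw hx hnR (mul_inv_eq_iff_eq_mul.1 he))

/-- For some pair the subgroup has order 16. -/
theorem exists_sixteen : ∃ x w : G, ∃ hx : orderOf x = 3, orderOf w = 2 ∧ Commute x w ∧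
    Nat.card (H.Eg w hx) = 16 := by
  classical
  by_contra hcon
  push Not at hcon
  have hR : ∀ x w : G, ∀ hx : orderOf x = 3, orderOf w = 2 → Commute x w → H.Eg w hx = R w := by
    intro x w hx hw hxw
    have := (H.card_E hw hx hxw).resolve_left (hcon x w hx hw hxw)
    exact eq_of_le_of_card_ge inf_le_left (by rw [this, H.card_R hw])
  obtain ⟨x, hx⟩ := exists_prime_orderOf_dvd_card' (G := G) 3 (by rw [H.card]; norm_num)
  obtain ⟨P, hxP⟩ := H.exists_P hx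
  obtain ⟨y, hyP, hy⟩ := H.exists_out (P := P) hx
  obtain ⟨hX, hdist⟩ := H.gen_prop hx hxP hyP hy
  have hg : ∀ i, gen x y i ∈ (P : Subgroup G) := H.gen_mem hxP hyP
  choose z hz hzc using fun i => H.exists_two (hX i)
  set Rel : Fin 4 → Fin 4 → Prop := fun i j => ∀ g, Commute (gen x y j) g → g * g = 1 → g ∈ R (z i) with hRel
  have hPR : ∀ i, ∀ p ∈ (P : Subgroup G), ∀ q ∈ R (z i), p * q * p⁻¹ ∈ R (z i) := fun i p hp q hq => by
    rw [← hR _ _ (hX i) (hz i) (hzc i)] at hq ⊢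
    exact H.conj_E_P (hz i) (hX i) (hzc i) (hg i) p hp q hq
  have hsame : ∀ i, Rel i i := fun i g hc h2 => H.W_le_R (hz i) (hX i) (hzc i) ((H.mem_W (hX i)).2 ⟨hc, h2⟩)
  have hcard : ∀ i, (Finset.univ.filter fun j => Rel i j).card = 3 := fun i => by
    have h := H.two_group_mod hx hxP hyP hy (H.isPGroup_R (hz i)) (hPR i)
    rw [H.card_R (hz i)] at h
    have hle := Finset.card_le_univ (Finset.univ.filter fun j => Rel i j)
    rw [Fintype.card_fin] at hle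
    change 64 % 9 = (1 + 3 * (Finset.univ.filter fun j => Rel i j).card) % 9 at h
    have hpos : 0 < (Finset.univ.filter fun j => Rel i j).card :=
      Finset.card_pos.2 ⟨i, Finset.mem_filter.2 ⟨Finset.mem_univ i, hsame i⟩⟩
    omega
  have hiff : ∀ i j, Rel i j ↔ ∀ a ∈ H.W (hX i), ∀ b ∈ H.W (hX j), a * b = b * a := by
    intro i j
    constructor
    · intro h a ha b hb
      have hb' := h b ((H.mem_W (hX j)).1 hb).1 ((H.mem_W (hX j)).1 hb).2
      rw [← hR _ _ (hX i) (hz i) (hzc i)] at hb'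
      exact mem_centralizer_iff.1 (mem_inf.1 hb').2 a ha
    · intro h g hc h2
      have hle : H.W (hX j) ≤ H.Eg (z i) (hX i) := H.le_E (hz i) (hX i) (hzc i) (H.isPGroup_W (hX j))
        (fun b hb => mem_centralizer_iff.2 fun a ha => h a ha b hb) fun q hq =>
          H.conj_W (hX j) (Or.inl (H.conj_eq_self (H.comm_P P (hg i) (hg j)))) hq
      exact (mem_inf.1 (hle ((H.mem_W (hX j)).2 ⟨hc, h2⟩))).1
  have hsymm : ∀ i j, Rel i j → Rel j i := fun i j h =>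
    (hiff j i).2 fun a ha b hb => ((hiff i j).1 h b hb a ha).symm
  have hno : ∀ i j k, Rel i j → Rel i k → i ≠ j → i ≠ k → ¬ Rel j k →
      ∀ a ∈ H.W (hX j), ∀ b ∈ H.W (hX k), a⁻¹ * b⁻¹ * a * b ∈ H.W (hX i) := by
    intro i j k hij hik hne hne' hjk a ha b hb
    have hM : ∀ l, Rel i l → i ≠ l → H.W (hX i) ⊔ H.W (hX l) ≤ R (z i) ∧
        (∀ q ∈ H.W (hX i) ⊔ H.W (hX l), gen x y i * q * (gen x y i)⁻¹ ∈ H.W (hX i) ⊔ H.W (hX l)) ∧
        H.W (hX i) ⊔ H.W (hX l) ≤ centralizer (H.W (hX l) : Set G) := by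
      intro l hil hil'
      refine ⟨sup_le (H.W_le_R (hz i) (hX i) (hzc i)) fun b hb => hil b ((H.mem_W (hX l)).1 hb).1 ((H.mem_W (hX l)).1 hb).2, ?_, ?_⟩
      · intro q hq
        have hle : (H.W (hX i) ⊔ H.W (hX l)).map (MulAut.conj (gen x y i)).toMonoidHom ≤ H.W (hX i) ⊔ H.W (hX l) := by
          rw [Subgroup.map_sup]
          refine sup_le_sup ?_ ?_ <;> rintro _ ⟨q', hq', rfl⟩
          · exact H.conj_W (hX i) (Or.inl (H.conj_eq_self (Commute.refl _))) hq'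
          · exact H.conj_W (hX l) (Or.inl (H.conj_eq_self (H.comm_P P (hg i) (hg l)))) hq'
        exact hle ⟨q, hq, rfl⟩
      · refine sup_le ?_ fun b hb => mem_centralizer_iff.2 fun c hc => (mem_cz.1 (H.W_le_cz (hX l) hb hc))
        exact fun a ha => mem_centralizer_iff.2 fun c hc => ((hiff i l).1 hil a ha c hc).symm
    obtain ⟨hMj, hnj, hcj⟩ := hM j hij hne
    obtain ⟨hMk, hnk, hck⟩ := hM k hik hne'
    have hnotle : ∀ l, i ≠ l → ¬ H.W (hX l) ≤ H.W (hX i) := fun l hl h => by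
      obtain ⟨v, hv2, hvc⟩ := H.exists_two (hX l)
      have hv := ((H.mem_W_ne (hX l)).2 ⟨hv2, hvc⟩).1
      have := H.W_disjoint (hX i) (hX l) (hg i) (hg l) (hdist i l hl) (h hv) hv
      rw [this, orderOf_one] at hv2
      norm_num at hv2
    have h16 : ∀ l m, Rel i l → Rel i m → i ≠ l → ¬ Rel l m →
        H.W (hX i) ⊔ H.W (hX l) ≤ R (z i) → (∀ q ∈ H.W (hX i) ⊔ H.W (hX l), gen x y i * q * (gen x y i)⁻¹ ∈ H.W (hX i) ⊔ H.W (hX l)) →
        H.W (hX i) ⊔ H.W (hX l) ≤ centralizer (H.W (hX l) : Set G) → Nat.card (H.W (hX i) ⊔ H.W (hX l) : Subgroup G) = 16 := by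
      intro l m hil him hl hlm h1 h2 h3
      rcases H.card_two (hz i) (hX i) h1 h2 le_sup_left with h | h | h
      · exact absurd (le_sup_right.trans (eq_of_le_of_card_ge le_sup_left (by rw [h, H.card_W])).ge) (hnotle l hl)
      · exact h
      · exfalso
        have he := eq_of_le_of_card_ge h1 (by rw [h, H.card_R (hz i)])
        refine hlm ((hiff l m).2 fun c hc d hd => ?_)
        exact mem_centralizer_iff.1 (h3 (he.ge (him d ((H.mem_W (hX m)).1 hd).1 ((H.mem_W (hX m)).1 hd).2))) c hc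
    have hj16 := h16 j k hij hik hne hjk hMj hnj hcj
    have hk16 := h16 k j hik hij hne' (fun h => hjk (hsymm k j h)) hMk hnk hck
    have hNj := H.normal_R (hz i) (hX i) (hzc i) hMj hnj le_sup_left hj16
    have hNk := H.normal_R (hz i) (hX i) (hzc i) hMk hnk le_sup_left hk16
    have haR : a ∈ R (z i) := hij a ((H.mem_W (hX j)).1 ha).1 ((H.mem_W (hX j)).1 ha).2
    have hbR : b ∈ R (z i) := hik b ((H.mem_W (hX k)).1 hb).1 ((H.mem_W (hX k)).1 hb).2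
    have hcM : a⁻¹ * b⁻¹ * a * b ∈ (H.W (hX i) ⊔ H.W (hX j)) ⊓ (H.W (hX i) ⊔ H.W (hX k)) := by
      refine mem_inf.2 ⟨?_, ?_⟩
      · have h := (mem_normalizer_iff.1 (hNj (inv_mem hbR)) a).1 (mem_sup_right ha)
        rw [show a⁻¹ * b⁻¹ * a * b = a⁻¹ * (b⁻¹ * a * b⁻¹⁻¹) by group]
        exact mul_mem (inv_mem (mem_sup_right ha)) h
      · have h := (mem_normalizer_iff.1 (hNk (inv_mem haR)) b⁻¹).1 (inv_mem (mem_sup_right hb))
        rw [show a⁻¹ * b⁻¹ * a * b = a⁻¹ * b⁻¹ * a⁻¹⁻¹ * b by group]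
        exact mul_mem h (mem_sup_right hb)
    rcases H.card_two (hz i) (hX i) (inf_le_left.trans hMj)
      (fun q hq => mem_inf.2 ⟨hnj q (mem_inf.1 hq).1, hnk q (mem_inf.1 hq).2⟩)
      (le_inf le_sup_left le_sup_left : H.W (hX i) ≤ (H.W (hX i) ⊔ H.W (hX j)) ⊓ (H.W (hX i) ⊔ H.W (hX k)))
      with h | h | h
    · rw [eq_of_le_of_card_ge (le_inf le_sup_left le_sup_left :
        H.W (hX i) ≤ (H.W (hX i) ⊔ H.W (hX j)) ⊓ (H.W (hX i) ⊔ H.W (hX k))) (by rw [h, H.card_W])]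
      exact hcM
    · exfalso
      have he := eq_of_le_of_card_ge (inf_le_left :
        (H.W (hX i) ⊔ H.W (hX j)) ⊓ (H.W (hX i) ⊔ H.W (hX k)) ≤ H.W (hX i) ⊔ H.W (hX j)) (by rw [h, hj16])
      refine hjk ((hiff j k).2 fun c hc d hd => (mem_centralizer_iff.1 (hck (?_ : c ∈ _)) d hd).symm)
      exact (mem_inf.1 (he.ge (mem_sup_right hc) : c ∈ (H.W (hX i) ⊔ H.W (hX j)) ⊓ (H.W (hX i) ⊔ H.W (hX k)))).2
    · have := Nat.le_of_dvd Nat.card_pos (card_dvd_of_le (inf_le_left :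
        (H.W (hX i) ⊔ H.W (hX j)) ⊓ (H.W (hX i) ⊔ H.W (hX k)) ≤ H.W (hX i) ⊔ H.W (hX j)))
      omega
  have huniq : ∀ i, ∃ l, ¬ Rel i l ∧ ∀ j, j ≠ l → Rel i j := fun i => by
    have h := Finset.card_compl (Finset.univ.filter fun j => Rel i j)
    rw [hcard i, Fintype.card_fin] at h
    obtain ⟨l, hl⟩ := Finset.card_eq_one.1 h
    refine ⟨l, fun hil => ?_, fun j hj => ?_⟩
    · have := Finset.ext_iff.1 hl l
      simp [hil] at this
    · by_contra hij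
      have := (Finset.ext_iff.1 hl j).1 (by simp [hij])
      exact hj (Finset.mem_singleton.1 this)
  obtain ⟨l, h0l, h0⟩ := huniq 0
  have hl0 : l ≠ 0 := fun e => h0l (e ▸ hsame 0)
  obtain ⟨l', hll', hl⟩ := huniq l
  have hl' : l' = 0 := by
    by_contra h
    exact h0l (hsymm l 0 (hl 0 (Ne.symm h)))
  rw [hl'] at hll' hl
  obtain ⟨j, hj0, hjl⟩ : ∃ j : Fin 4, j ≠ 0 ∧ j ≠ l := by
    have : ∀ l : Fin 4, ∃ j : Fin 4, j ≠ 0 ∧ j ≠ l := by decide
    exact this l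
  obtain ⟨k, hjk, hjall⟩ := huniq j
  have hk0 : k ≠ 0 := fun e => hjk (e ▸ hsymm 0 j (h0 j hjl))
  have hkl : k ≠ l := fun e => hjk (e ▸ hsymm l j (hl j hj0))
  refine hjk ((hiff j k).2 fun a ha b hb => ?_)
  have h1 := hno 0 j k (h0 j hjl) (h0 k hkl) hj0.symm hk0.symm hjk a ha b hb
  have h2 := hno l j k (hl j hj0) (hl k hk0) hjl.symm hkl.symm hjk a ha b hb
  have hc := H.W_disjoint (hX 0) (hX l) (hg 0) (hg l) (hdist 0 l hl0.symm) h1 h2
  calc a * b = b * a * (a⁻¹ * b⁻¹ * a * b) := by group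
    _ = b * a := by rw [hc, mul_one]

end Counts

end CfsgLib.M22Id
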