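import Cfsg.Agent.M22Id.Hexad

/-!
# Groups with the counts of `M₂₂`: two-point stabilisers on the 77 conjugates of the subgroup of order 16
-/

set_option autoImplicit false
set_option linter.style.haveILetI false
set_option linter.unusedSectionVars false

namespace CfsgLib.M22Id

open Subgroup CfsgLib.M11Nse CfsgLib.M12Nse MulAction
open scoped Pointwise

variable {G : Type*} [Group G] [Finite G]

local instance : Fact (Nat.Prime 3) := ⟨Nat.prime_three⟩
local instance : Fact (Nat.Prime 2) := ⟨Nat.prime_two⟩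
local instance : Fact (Nat.Prime 5) := ⟨by norm_num⟩

/-- A `p`-group without fixed points on an invariant set. -/
theorem dvd_of_no_fixed {p : ℕ} [hp : Fact p.Prime] {K α : Type*} [Group K] [MulAction K α] [Finite α]
    (hK : IsPGroup p K) {s : α → Prop} (hs : ∀ (k : K) a, s a → s (k • a))
    (h : ∀ a, s a → ∃ k : K, k • a ≠ a) : p ∣ Nat.card {a // s a} := by
  refine dvd_card_of_orbit hs fun a ha => ?_
  obtain ⟨n, hn⟩ := hK.card_orbit a
  rw [hn]
  refine dvd_pow_self p fun h0 => ?_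
  rw [h0, pow_zero] at hn
  obtain ⟨k, hk⟩ := h a ha
  obtain ⟨hs', -⟩ := Nat.card_eq_one_iff_unique.1 hn
  exact hk (congrArg Subtype.val (hs'.allEq (⟨k • a, mem_orbit a k⟩ : orbit K a) ⟨a, mem_orbit_self a⟩))

namespace Hexad

variable (D : Hexad G)

/-- The normaliser. -/
abbrev N : Subgroup G := normalizer (D.E : Set G)

/-- The points. -/
abbrev Pt : Type _ := G ⧸ D.N

/-- The base point. -/
abbrev base : D.Pt := ((1 : G) : G ⧸ D.N)

theorem smul_base (g : G) : g • D.base = (g : G ⧸ D.N) := by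
  show g • ((1 : G) : G ⧸ D.N) = g
  rw [MulAction.Quotient.smul_coe, smul_eq_mul, mul_one]

theorem stab_base : stabilizer G D.base = D.N := by
  ext g
  rw [mem_stabilizer_iff, D.smul_base, QuotientGroup.eq, mul_one, inv_mem_iff]

theorem fix_base {n : G} (hn : n ∈ D.N) : n • D.base = D.base := by
  rw [← mem_stabilizer_iff, D.stab_base]; exact hn

theorem exists_smul_base (a : D.Pt) : ∃ g : G, g • D.base = a := by
  induction a using QuotientGroup.induction_on with
  | H g => exact ⟨g, D.smul_base g⟩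

theorem ne_base_of {n : G} (hn : n ∈ D.N) {a : D.Pt} (ha : a ≠ D.base) : n • a ≠ D.base := fun e => ha (by
  rw [← inv_smul_smul n a, e]; exact D.fix_base (inv_mem hn))

theorem ti {g a : G} (ha : a ∈ D.E) (ha1 : a ≠ 1) (h : g * a * g⁻¹ ∈ D.E) : g ∈ D.N := by
  obtain ⟨n, hn, rfl⟩ := D.trans a ha ha1
  obtain ⟨m, hm, e⟩ := D.trans _ h fun e => ha1 (by rwa [conj_eq_one_iff] at e)
  have hc : m⁻¹ * g * n ∈ cz D.z := by
    rw [mem_cz]
    calc m⁻¹ * g * n * D.z = m⁻¹ * (g * (n * D.z * n⁻¹) * g⁻¹) * g * n := by group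
      _ = m⁻¹ * (m * D.z * m⁻¹) * g * n := by rw [← e]
      _ = D.z * (m⁻¹ * g * n) := by group
  have := mul_mem (mul_mem hm (D.cz_le hc)) (inv_mem hn)
  rwa [show m * (m⁻¹ * g * n) * n⁻¹ = g by group] at this

theorem isPGroup_E : IsPGroup 2 D.E := IsPGroup.of_card (n := 4) (by rw [D.card_E]; rfl)

/-- A complement to the subgroup of order 16 in a 2-subgroup of the normaliser is not abelian of order eight. -/
theorem small (H : Counts G) {A : Subgroup G} (hA : IsPGroup 2 A) (hAN : A ≤ D.N)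
    (hAE : ∀ a ∈ A, a ∈ D.E → a = 1) (hcomm : ∀ a ∈ A, ∀ b ∈ A, a * b = b * a) : Nat.card A ≤ 4 := by
  by_contra hlt
  obtain ⟨i, hi⟩ := IsPGroup.iff_card.1 hA
  have hi3 : 3 ≤ i := by
    by_contra h
    have := Nat.pow_le_pow_right two_pos (show i ≤ 2 by omega)
    rw [hi] at hlt
    omega
  let En : Subgroup D.N := D.E.subgroupOf D.N
  haveI : En.Normal := Subgroup.normal_in_normalizer
  let π : D.N →* D.N ⧸ En := QuotientGroup.mk' En
  have hπ1 : ∀ g : D.N, π g = 1 ↔ (g : G) ∈ D.E := fun g =>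
    (QuotientGroup.eq_one_iff g).trans mem_subgroupOf
  have hπ : ∀ g : D.N, (g : G) ∈ D.E → π g = 1 := fun g hg => (hπ1 g).2 hg
  have hp : IsPGroup 2 (A ⊔ D.E : Subgroup G) := hA.to_sup_of_normal_right' D.isPGroup_E hAN
  obtain ⟨j, hj⟩ := IsPGroup.iff_card.1 hp
  have hle : A ⊔ D.E ≤ D.N := sup_le hAN le_normalizer
  have hj7 : 7 ≤ j := by
    by_contra hj6
    have hinj : Function.Injective fun p : A × D.E => (⟨p.1.1 * p.2.1,
        mul_mem (mem_sup_left p.1.2) (mem_sup_right p.2.2)⟩ : (A ⊔ D.E : Subgroup G)) := by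
      rintro ⟨⟨a, ha⟩, ⟨e, he⟩⟩ ⟨⟨a', ha'⟩, ⟨e', he'⟩⟩ h
      have h' : a * e = a' * e' := congrArg Subtype.val h
      have h1 : a'⁻¹ * a = e' * e⁻¹ := by
        calc a'⁻¹ * a = a'⁻¹ * (a * e) * e⁻¹ := by group
          _ = _ := by rw [h']; group
      have h2 := hAE _ (mul_mem (inv_mem ha') ha) (h1 ▸ mul_mem he' (inv_mem he))
      obtain rfl : a' = a := inv_mul_eq_one.1 h2
      exact Prod.ext rfl (Subtype.ext (mul_left_cancel h'))
    have := Nat.card_le_card_of_injective _ hinj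
    rw [Nat.card_prod, hi, hj, D.card_E] at this
    have h1 := Nat.pow_le_pow_right two_pos hi3
    have h2 := Nat.pow_le_pow_right two_pos (show j ≤ 6 by omega)
    omega
  -- conjugate a Sylow subgroup containing the kernel and an inverter into this one
  have hfac : (Nat.card D.N).factorization 2 = 7 := by
    rw [D.card_N, show (5760 : ℕ) = 2 ^ 7 * 45 from rfl, Nat.factorization_mul (by norm_num) (by norm_num),
      Finsupp.add_apply, Nat.prime_two.factorization_pow, Finsupp.single_eq_same,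
      Nat.factorization_eq_zero_of_not_dvd (by norm_num : ¬ 2 ∣ 45)]
  have hj' : j = 7 := by
    have h := card_dvd_of_le hle
    rw [hj, D.card_N] at h
    have := (Nat.prime_two.pow_dvd_iff_le_factorization (by norm_num)).1 h
    rw [← D.card_N, hfac] at this
    omega
  let S : Sylow 2 D.N := Sylow.ofCard ((A ⊔ D.E).subgroupOf D.N) (by
    rw [Nat.card_congr (subgroupOfEquivOfLe hle).toEquiv, hj, hfac, hj'])
  have hab : ∀ a b : D.N, a ∈ (S : Subgroup D.N) → b ∈ (S : Subgroup D.N) → π a * π b = π b * π a := by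
    have hrep : ∀ a : D.N, a ∈ (S : Subgroup D.N) → ∃ a₀ : A, π a = π ⟨a₀.1, hAN a₀.2⟩ := by
      intro a ha
      have hmem : (a : G) ∈ ((A : Set G) * (D.E : Set G)) := by
        rw [← Subgroup.coe_mul_of_left_le_normalizer_right _ _ hAN]
        exact ha
      obtain ⟨a₀, ha₀, e, he, hae⟩ := hmem
      refine ⟨⟨a₀, ha₀⟩, ?_⟩
      rw [show a = (⟨a₀, hAN ha₀⟩ : D.N) * ⟨e, le_normalizer he⟩ from Subtype.ext hae.symm, map_mul,
        hπ ⟨e, le_normalizer he⟩ he, mul_one]
    intro a b ha hb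
    obtain ⟨a₀, ea⟩ := hrep a ha
    obtain ⟨b₀, eb⟩ := hrep b hb
    rw [ea, eb, ← map_mul, ← map_mul]
    exact congrArg π (Subtype.ext (hcomm _ a₀.2 _ b₀.2))
  obtain ⟨t, htz, ⟨k, hk⟩, htx⟩ := H.exists_inverter D.hz D.hx D.hxz
  have hRN : R D.z ≤ D.N := (R_le _).trans D.cz_le
  have hT : IsPGroup 2 (R D.z ⊔ zpowers t : Subgroup G) := (H.isPGroup_R D.hz).to_sup_of_normal_left'
    (IsPGroup.iff_card.2 (by
      obtain ⟨l, -, hl⟩ := (Nat.dvd_prime_pow Nat.prime_two).1 (orderOf_dvd_of_pow_eq_one hk)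
      exact ⟨l, by rw [Nat.card_zpowers, hl]⟩))
    (zpowers_le.2 (mem_normalizer_of_conj fun g hg => conj_mem_R htz hg))
  have hTN : R D.z ⊔ zpowers t ≤ D.N := sup_le hRN (zpowers_le.2 (D.cz_le htz))
  obtain ⟨T, hTle⟩ := (hT.comap_of_injective D.N.subtype D.N.subtype_injective).exists_le_sylow
  obtain ⟨n, hn⟩ := MulAction.exists_smul_eq D.N S T
  have habT : ∀ a b : D.N, a ∈ (T : Subgroup D.N) → b ∈ (T : Subgroup D.N) → π a * π b = π b * π a := by
    intro a b ha hb
    rw [← hn, Sylow.coe_subgroup_smul] at ha hb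
    obtain ⟨a', ha', rfl⟩ := ha
    obtain ⟨b', hb', rfl⟩ := hb
    show π (n * a' * n⁻¹) * π (n * b' * n⁻¹) = π (n * b' * n⁻¹) * π (n * a' * n⁻¹)
    simp only [map_mul, map_inv]
    calc π n * π a' * (π n)⁻¹ * (π n * π b' * (π n)⁻¹) = π n * (π a' * π b') * (π n)⁻¹ := by group
      _ = π n * (π b' * π a') * (π n)⁻¹ := by rw [hab a' b' ha' hb']
      _ = _ := by group
  let x' : D.N := ⟨D.x, D.cz_le (mem_cz.2 D.hxz.eq)⟩
  let t' : D.N := ⟨t, D.cz_le htz⟩
  have hrT : ∀ r (hr : r ∈ R D.z), (⟨r, hRN hr⟩ : D.N) ∈ (T : Subgroup D.N) := fun r hr =>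
    hTle (mem_sup_left hr)
  have htT : t' ∈ (T : Subgroup D.N) := hTle (mem_sup_right (mem_zpowers t))
  have htx' : t' * x' * t'⁻¹ = x'⁻¹ := Subtype.ext htx
  -- `x` acts trivially on the kernel modulo `E`
  have htriv : ∀ r (hr : r ∈ R D.z), π x' * π ⟨r, hRN hr⟩ = π ⟨r, hRN hr⟩ * π x' := by
    intro r hr
    set r' : D.N := ⟨r, hRN hr⟩
    have hr1 : D.x⁻¹ * r * D.x⁻¹⁻¹ ∈ R D.z := conj_mem_R (inv_mem (mem_cz.2 D.hxz.eq)) hr
    have hc1 : Commute (π t') (π r') := habT _ _ htT (hrT r hr)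
    have hc2 : Commute (π t') (π x'⁻¹ * π r' * (π x'⁻¹)⁻¹) := by
      rw [← map_inv, ← map_mul, ← map_mul]
      exact habT _ _ htT (hrT _ hr1)
    have hc3 : Commute (π x' * π t' * (π x')⁻¹) (π r') := by
      have := (Commute.conj_iff (π x')).2 hc2
      rw [map_inv, inv_inv] at this
      rwa [show π x' * ((π x')⁻¹ * π r' * π x') * (π x')⁻¹ = π r' by group] at this
    have e : π x' * π t' * (π x')⁻¹ = π x' * π x' * π t' := by
      have h := congrArg π htx'
      rw [map_mul, map_mul, map_inv, map_inv] at h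
      have h2 : π t' * (π x')⁻¹ = π x' * π t' := by
        have h3 : π t' * (π x')⁻¹ * (π t')⁻¹ = π x' := by
          rw [← conj_inv, h, inv_inv]
        exact mul_inv_eq_iff_eq_mul.1 h3
      rw [mul_assoc, h2, ← mul_assoc]
    rw [e] at hc3
    have hc4 : Commute (π x' * π x') (π r') := by
      have := hc3.mul_left hc1.inv_left
      rwa [mul_inv_cancel_right] at this
    have hc5 := hc4.mul_left hc4
    have hx3 : π x' * π x' * (π x' * π x') = π x' := by
      have : x' * x' * (x' * x') = x' := Subtype.ext (by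
        show D.x * D.x * (D.x * D.x) = D.x
        calc D.x * D.x * (D.x * D.x) = D.x ^ 3 * D.x := by simp [pow_succ, mul_assoc]
          _ = D.x := by rw [orderOf_dvd_iff_pow_eq_one.1 (show orderOf D.x ∣ 3 by rw [D.hx]), one_mul])
      rw [← map_mul, ← map_mul, this]
    rw [hx3] at hc5
    exact hc5.eq
  have hRE : ∀ r ∈ R D.z, r ∈ D.E := by
    intro r hr
    have hmod := card_modEq_fixed (p := 3) (n := 1) (x := D.x)
      (by rw [pow_one, ← D.hx, pow_orderOf_eq_one]) (fun g => g * r⁻¹ ∈ D.E) fun g => by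
        have hd : D.x * r * D.x⁻¹ * r⁻¹ ∈ D.E := by
          have h : π (x' * ⟨r, hRN hr⟩ * x'⁻¹ * (⟨r, hRN hr⟩ : D.N)⁻¹) = 1 := by
            rw [map_mul, map_mul, map_mul, htriv r hr, map_inv, map_inv]; group
          exact (hπ1 _).1 h
        have hxN := D.cz_le (mem_cz.2 D.hxz.eq)
        rw [mem_normalizer_iff.1 hxN (g * r⁻¹)]
        constructor
        · intro h
          rw [show D.x * g * D.x⁻¹ * r⁻¹ = D.x * (g * r⁻¹) * D.x⁻¹ * (D.x * r * D.x⁻¹ * r⁻¹) by group]
          exact mul_mem h hd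
        · intro h
          rw [show D.x * (g * r⁻¹) * D.x⁻¹ = D.x * g * D.x⁻¹ * r⁻¹ * (D.x * r * D.x⁻¹ * r⁻¹)⁻¹ by group]
          exact mul_mem h (inv_mem hd)
    have h16 : Nat.card {g : G // g * r⁻¹ ∈ D.E} = 16 := by
      rw [← D.card_E]
      exact Nat.card_congr
        { toFun := fun g => ⟨g.1 * r⁻¹, g.2⟩
          invFun := fun e => ⟨e.1 * r, by rw [mul_inv_cancel_right]; exact e.2⟩
          left_inv := fun g => Subtype.ext (inv_mul_cancel_right g.1 r)
          right_inv := fun e => Subtype.ext (mul_inv_cancel_right e.1 r) }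
    rw [h16] at hmod
    rcases Nat.eq_zero_or_pos (Nat.card {g : G // g * r⁻¹ ∈ D.E ∧ g * D.x = D.x * g}) with h0 | hpos
    · rw [h0] at hmod; simp [Nat.ModEq] at hmod
    obtain ⟨⟨g, hg, hgx⟩⟩ := (Nat.card_pos_iff.1 hpos).1
    have hgR : g ∈ R D.z := by
      have := mul_mem (D.le_R hg) hr
      rwa [inv_mul_cancel_right] at this
    have := mul_mem (inv_mem hg) (D.fixed_le g hgR hgx.symm)
    rwa [show (g * r⁻¹)⁻¹ * g = r by group] at this
  have := Nat.le_of_dvd Nat.card_pos (card_dvd_of_le hRE)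
  rw [H.card_R D.hz, D.card_E] at this
  omega

theorem card_stab_E (H : Counts G) {a : D.Pt} (ha : a ≠ D.base) :
    Nat.card (D.E ⊓ stabilizer G a : Subgroup G) ≤ 4 := by
  obtain ⟨g, rfl⟩ := D.exists_smul_base a
  have hg : g ∉ D.N := fun h => ha (D.fix_base h)
  set A := (D.E ⊓ stabilizer G (g • D.base)).map (MulAut.conj g⁻¹).toMonoidHom with hA
  rw [← card_map_of_injective (f := (MulAut.conj g⁻¹).toMonoidHom) (MulAut.conj g⁻¹).injective]
  refine D.small H ((D.isPGroup_E.to_le inf_le_left).map _) ?_ ?_ ?_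
  · rintro _ ⟨e, he, rfl⟩
    have h : e • g • D.base = g • D.base := mem_stabilizer_iff.1 (mem_inf.1 he).2
    rw [← D.stab_base, mem_stabilizer_iff]
    show (g⁻¹ * e * g⁻¹⁻¹) • D.base = D.base
    rw [inv_inv, mul_smul, mul_smul, h, inv_smul_smul]
  · rintro _ ⟨e, he, rfl⟩ hE
    by_contra h1
    have he1 : e ≠ 1 := fun e' => h1 (by simp [e'])
    exact hg (inv_mem_iff.1 (D.ti (mem_inf.1 he).1 he1 hE))
  · rintro _ ⟨e, he, rfl⟩ _ ⟨e', he', rfl⟩
    rw [← map_mul, ← map_mul, D.comm e (mem_inf.1 he).1 e' (mem_inf.1 he').1]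

end Hexad

end CfsgLib.M22Id
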