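import Cfsg.Agent.M22Id.Util
import Cfsg.Agent.FGSB.ThreeCounts
import Mathlib.GroupTheory.SpecificGroups.Cyclic

/-!
# Groups with the counts of `M₂₂`: the Sylow 3-subgroups
-/

set_option autoImplicit false
set_option linter.style.haveILetI false
set_option linter.unusedSectionVars false

namespace CfsgLib.M22Id

open Subgroup CfsgLib.M11Nse CfsgLib.M12Nse
open scoped Pointwise

variable {G : Type*} [Group G] [Finite G]

local instance : Fact (Nat.Prime 3) := ⟨Nat.prime_three⟩

namespace Counts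

variable (H : Counts G)
include H

theorem fac_three : (Nat.card G).factorization 3 = 2 := by
  rw [H.card, show (443520 : ℕ) = 3 ^ 2 * 49280 from rfl,
    Nat.factorization_mul (by norm_num) (by norm_num), Finsupp.add_apply,
    Nat.prime_three.factorization_pow, Finsupp.single_eq_same,
    Nat.factorization_eq_zero_of_not_dvd (by norm_num : ¬ 3 ∣ 49280)]

theorem card_P (P : Sylow 3 G) : Nat.card (P : Subgroup G) = 9 := by
  rw [P.card_eq_multiplicity, H.fac_three]; rfl

theorem comm_P (P : Sylow 3 G) {a b : G} (ha : a ∈ (P : Subgroup G)) (hb : b ∈ (P : Subgroup G)) :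
    a * b = b * a :=
  congrArg Subtype.val (IsPGroup.commutative_of_card_eq_prime_sq
    (p := 3) (G := (P : Subgroup G)) (by rw [H.card_P]; rfl) ⟨a, ha⟩ ⟨b, hb⟩)

/-- The Sylow 3-subgroups have exponent 3. -/
theorem cube {P : Sylow 3 G} {g : G} (hg : g ∈ (P : Subgroup G)) : g ^ 3 = 1 := by
  classical
  have hd := Subgroup.orderOf_dvd_natCard _ hg
  rw [H.card_P] at hd
  obtain ⟨i, hi, ho⟩ := (Nat.dvd_prime_pow Nat.prime_three).1 (show orderOf g ∣ 3 ^ 2 from hd)
  obtain rfl | rfl | rfl : i = 0 ∨ i = 1 ∨ i = 2 := by omega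
  · rw [show g = 1 from orderOf_eq_one_iff.1 (by simpa using ho), one_pow]
  · exact orderOf_dvd_iff_pow_eq_one.1 (by simp [ho])
  exfalso
  have hgP : zpowers g = (P : Subgroup G) :=
    eq_of_le_of_card_ge (zpowers_le.2 hg) (by rw [Nat.card_zpowers, ho, H.card_P]; norm_num)
  have hcyc : ∀ Q : Sylow 3 G, IsCyclic (Q : Subgroup G) := fun Q =>
    (MulEquiv.isCyclic (P.equiv Q)).1 (hgP ▸ inferInstance)
  have e : Nat.card (CyclicCount.Cyc G 9) = Nat.card (Sylow 3 G) := Nat.card_congr
    { toFun := fun C => Sylow.ofCard C.1 (by rw [C.2.2, H.fac_three]; rfl)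
      invFun := fun Q => ⟨Q, hcyc Q, H.card_P Q⟩
      left_inv := fun C => rfl
      right_inv := fun Q => Sylow.ext rfl }
  have h9 : cnt G 9 = Nat.card (Sylow 3 G) * 6 := by
    have h1 := CyclicCount.count (G := G) ⊤ (n := 9) (by norm_num)
    rw [Nat.card_congr (Equiv.subtypeEquivRight (fun x => (and_iff_right (mem_top x)))),
      Nat.card_congr (Equiv.subtypeUnivEquiv (fun C => le_top)), e] at h1
    exact h1
  have hfr : 9 ∣ 1 + cnt G 3 + cnt G 9 := by
    have h := CfsgLib.FrobCount.frobenius (G := G) (n := 9) (by rw [H.card]; norm_num)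
    rw [CfsgLib.ThreeCounts.card_pow_eq_one 9 (by norm_num),
      show (9 : ℕ).divisors = {1, 3, 9} by decide] at h
    simp only [Finset.sum_insert, Finset.mem_insert, Finset.mem_singleton, Finset.sum_singleton,
      Nat.reduceEqDiff, OfNat.one_ne_ofNat, or_self, not_false_eq_true] at h
    rw [CfsgLib.ThreeCounts.cnt_one, ← add_assoc] at h
    exact h
  have hmod := card_sylow_modEq_one 3 G
  rw [Nat.ModEq] at hmod
  have hv := H.nine_val (cnt_pos (g := g) (by rw [ho]; rfl)).ne'
  rw [H.three] at hfr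
  omega

theorem orderOf_mem {P : Sylow 3 G} {g : G} (hg : g ∈ (P : Subgroup G)) (h1 : g ≠ 1) : orderOf g = 3 :=
  orderOf_eq_prime (H.cube hg) h1

theorem exists_P {x : G} (hx : orderOf x = 3) : ∃ P : Sylow 3 G, x ∈ (P : Subgroup G) := by
  obtain ⟨P, hP⟩ := (IsPGroup.of_card (n := 1) (by rw [Nat.card_zpowers, hx, pow_one]) :
    IsPGroup 3 (zpowers x)).exists_le_sylow
  exact ⟨P, hP (mem_zpowers x)⟩

theorem normalizer_dvd (P : Sylow 3 G) : Nat.card (normalizer ((P : Subgroup G) : Set G)) ∣ 1152 := by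
  set M := normalizer ((P : Subgroup G) : Set G)
  have hno : ∀ r, r = 5 ∨ r = 7 ∨ r = 11 → Nat.Coprime (Nat.card M) r := by
    intro r hr
    haveI : Fact r.Prime := ⟨by rcases hr with rfl | rfl | rfl <;> norm_num⟩
    refine (((Fact.out : r.Prime).coprime_iff_not_dvd).2 fun hdvd => ?_).symm
    obtain ⟨y, hy⟩ := exists_prime_orderOf_dvd_card' (G := M) r hdvd
    have hy' : orderOf (y : G) = r := by rw [Subgroup.orderOf_coe, hy]
    have hmod := card_modEq_fixed (p := r) (n := 1) (x := (y : G))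
      (by rw [pow_one, ← hy', pow_orderOf_eq_one]) (fun g => g ∈ (P : Subgroup G) ∧ g ≠ 1) fun g =>
        and_congr (mem_normalizer_iff.1 y.2 g) (by simp)
    have h8 : Nat.card {g : G // g ∈ (P : Subgroup G) ∧ g ≠ 1} = 8 := by
      have h := split_card (fun g : G => g ∈ (P : Subgroup G)) (· = 1)
      rw [show Nat.card {g : G // g ∈ (P : Subgroup G)} = 9 from H.card_P P] at h
      have h1 : Nat.card {g : G // g ∈ (P : Subgroup G) ∧ g = 1} = 1 :=
        Nat.card_eq_one_iff_unique.2 ⟨⟨fun a b => Subtype.ext (a.2.2.trans b.2.2.symm)⟩,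
          ⟨⟨1, one_mem _, rfl⟩⟩⟩
      rw [h1] at h
      simpa [add_comm 1] using h.symm
    rw [h8] at hmod
    rcases Nat.eq_zero_or_pos
      (Nat.card {g : G // (g ∈ (P : Subgroup G) ∧ g ≠ 1) ∧ g * y = y * g}) with h0 | hpos
    · rw [h0, Nat.modEq_zero_iff_dvd] at hmod
      rcases hr with rfl | rfl | rfl <;> norm_num at hmod
    · obtain ⟨⟨g, ⟨hg, hg1⟩, hgy⟩⟩ := (Nat.card_pos_iff.1 hpos).1
      exact H.not_dvd_cz hr (x := g) (by rw [H.orderOf_mem hg hg1]; rcases hr with rfl | rfl | rfl <;> norm_num)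
        (hy' ▸ Subgroup.orderOf_dvd_natCard _ (mem_cz.2 hgy.symm))
  have h : Nat.card M ∣ 1152 * 385 := (card_subgroup_dvd_card M).trans (dvd_of_eq H.card)
  refine Nat.Coprime.dvd_of_dvd_mul_right ?_ h
  exact ((hno 5 (by simp)).mul_right (hno 7 (by simp))).mul_right (hno 11 (by simp))

/-- The three possible numbers of Sylow 3-subgroups. -/
theorem sylow_three : ∃ T, (T = 1 ∨ T = 4 ∨ T = 16) ∧ Nat.card (Sylow 3 G) = 1540 * T ∧
    ∀ P : Sylow 3 G, Nat.card (normalizer ((P : Subgroup G) : Set G)) * T = 288 := by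
  classical
  obtain ⟨P⟩ : Nonempty (Sylow 3 G) := inferInstance
  have hmul := H.normalizer_card P
  obtain ⟨k, hk⟩ := H.normalizer_dvd P
  have h9 : 9 ∣ Nat.card (normalizer ((P : Subgroup G) : Set G)) :=
    H.card_P P ▸ card_dvd_of_le le_normalizer
  have hbig : 12320 ≤ Nat.card (Sylow 3 G) * 8 := by
    have hsurj : ∀ x : {g : G // orderOf g = 3}, ∃ Q : Sylow 3 G, x.1 ∈ (Q : Subgroup G) :=
      fun x => H.exists_P x.2
    choose Q hQ using hsurj
    have h1 := Nat.card_le_card_of_injective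
      (fun x : {g : G // orderOf g = 3} => (⟨Q x, ⟨⟨x.1, hQ x⟩, fun e => by
        have := x.2
        rw [show (x.1 : G) = 1 from congrArg Subtype.val e, orderOf_one] at this
        norm_num at this⟩⟩ : Σ R : Sylow 3 G, {g : (R : Subgroup G) // g ≠ 1}))
      fun a b e => Subtype.ext (congrArg (fun s : Σ R : Sylow 3 G, {g : (R : Subgroup G) // g ≠ 1} =>
        (s.2.1 : G)) e)
    haveI := Fintype.ofFinite (Sylow 3 G)
    rw [Nat.card_sigma, Finset.sum_const_nat (m := 8) fun R _ => ?_, Finset.card_univ,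
      ← Nat.card_eq_fintype_card, show Nat.card {g : G // orderOf g = 3} = 12320 from H.three] at h1
    · exact h1
    · haveI := Fintype.ofFinite (R : Subgroup G)
      rw [Nat.card_eq_fintype_card, Fintype.card_subtype_compl, Fintype.card_subtype_eq,
        ← Nat.card_eq_fintype_card, H.card_P]
  have hmod := card_sylow_modEq_one 3 G
  rw [Nat.ModEq] at hmod
  obtain ⟨m, hm⟩ := h9
  rw [hm] at hk hmul
  have hmk : m * k = 128 := by linarith
  have hm' : m ∈ (128 : ℕ).divisors := Nat.mem_divisors.2 ⟨⟨k, hmk.symm⟩, by norm_num⟩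
  rw [show (128 : ℕ).divisors = {1, 2, 4, 8, 16, 32, 64, 128} by decide] at hm'
  simp only [Finset.mem_insert, Finset.mem_singleton] at hm'
  have hcase : (Nat.card (Sylow 3 G) = 1540 ∨ Nat.card (Sylow 3 G) = 6160 ∨
      Nat.card (Sylow 3 G) = 24640) := by
    rcases hm' with rfl | rfl | rfl | rfl | rfl | rfl | rfl | rfl <;> omega
  have hall : ∀ Q : Sylow 3 G, Nat.card (Sylow 3 G) * Nat.card (normalizer ((Q : Subgroup G) : Set G)) = 443520 :=
    fun Q => H.normalizer_card Q
  rcases hcase with h | h | h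
  · exact ⟨1, Or.inl rfl, h, fun Q => by have := hall Q; rw [h] at this; omega⟩
  · exact ⟨4, Or.inr (Or.inl rfl), h, fun Q => by have := hall Q; rw [h] at this; omega⟩
  · exact ⟨16, Or.inr (Or.inr rfl), h, fun Q => by have := hall Q; rw [h] at this; omega⟩

theorem le_cz_iff {P : Sylow 3 G} {x : G} (hx : x ^ 3 = 1) :
    x ∈ (P : Subgroup G) ↔ (P : Subgroup G) ≤ cz x := by
  refine ⟨fun h a ha => mem_cz.2 (H.comm_P P ha h), fun h => ?_⟩
  refine CfsgLib.SmallSimple.mem_sylow_of_smul_eq (n := 1) (by rwa [pow_one]) P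
    (Sylow.smul_eq_iff_mem_normalizer.2 (centralizer_le_normalizer _ (mem_centralizer_iff.2 fun a ha => ?_)))
  exact mem_cz.1 (h ha)

theorem nine_dvd_cz {x : G} (hx : orderOf x = 3) : 9 ∣ Nat.card (cz x) := by
  obtain ⟨P, hP⟩ := H.exists_P hx
  exact H.card_P P ▸ card_dvd_of_le ((H.le_cz_iff (orderOf_dvd_iff_pow_eq_one.1 (by rw [hx]))).1 hP)

/-- The Sylow subgroups containing an element of order three. -/
theorem card_through {x : G} (hx : orderOf x = 3) :
    Nat.card {P : Sylow 3 G // x ∈ (P : Subgroup G)} = Nat.card (Syl 3 (cz x)) :=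
  Nat.card_congr (Equiv.subtypeEquivRight fun P => H.le_cz_iff (orderOf_dvd_iff_pow_eq_one.1 (by rw [hx])))

theorem syl_values (K : Subgroup G) (h9 : 9 ∣ Nat.card K) (hK : Nat.card K ∣ 1152) :
    Nat.card (Syl 3 K) = 1 ∨ Nat.card (Syl 3 K) = 4 ∨ Nat.card (Syl 3 K) = 16 ∨ Nat.card (Syl 3 K) = 64 := by
  have h9' : 3 ^ (Nat.card G).factorization 3 ∣ Nat.card K := by rw [H.fac_three]; exact h9
  have hmod := syl_mod K h9'
  haveI : Nonempty (Syl 3 K) := (Nat.card_pos_iff.1 (Nat.pos_of_ne_zero (by omega))).1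
  obtain ⟨P⟩ := ‹Nonempty (Syl 3 K)›
  have hmul := syl_mul K P.2
  obtain ⟨m, hm⟩ : 9 ∣ Nat.card (K ⊓ normalizer ((P.1 : Subgroup G) : Set G) : Subgroup G) :=
    H.card_P P.1 ▸ card_dvd_of_le (le_inf P.2 le_normalizer)
  rw [hm] at hmul
  have hd : Nat.card (Syl 3 K) * (9 * m) ∣ 1152 := hmul ▸ hK
  rw [← mul_assoc, mul_comm _ 9, mul_assoc, show 1152 = 9 * 128 from rfl] at hd
  have hdd : Nat.card (Syl 3 K) ∣ 128 := (dvd_mul_right _ m).trans (Nat.dvd_of_mul_dvd_mul_left (by norm_num) hd)
  have := Nat.mem_divisors.2 ⟨hdd, by norm_num⟩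
  rw [show (128 : ℕ).divisors = {1, 2, 4, 8, 16, 32, 64, 128} by decide] at this
  simp only [Finset.mem_insert, Finset.mem_singleton] at this
  omega

/-- Every element of order three lies in `T` Sylow subgroups. -/
theorem through_eq {T : ℕ} (hT : T = 1 ∨ T = 4 ∨ T = 16) (hn : Nat.card (Sylow 3 G) = 1540 * T)
    {x : G} (hx : orderOf x = 3) : Nat.card {P : Sylow 3 G // x ∈ (P : Subgroup G)} = T := by
  classical
  haveI := Fintype.ofFinite G
  haveI := Fintype.ofFinite (Sylow 3 G)
  set s : G → ℕ := fun g => ((Finset.univ : Finset (Sylow 3 G)).filter fun P : Sylow 3 G => g ∈ (P : Subgroup G)).card with hs_def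
  have hs : ∀ g, Nat.card {P : Sylow 3 G // g ∈ (P : Subgroup G)} = s g := fun g => by
    rw [Nat.card_eq_fintype_card, Fintype.card_subtype]
  have hval : ∀ g : G, orderOf g = 3 → s g = 1 ∨ s g = 4 ∨ s g = 16 ∨ s g = 64 := fun g hg => by
    rw [← hs, H.card_through hg]
    exact H.syl_values _ (H.nine_dvd_cz hg) (H.cz_dvd (Or.inr hg))
  have hconj : ∀ c g : G, s (c * g * c⁻¹) = s g := fun c g => by
    refine (Finset.card_equiv (MulAction.toPerm c) fun P => ?_).symm
    simp only [Finset.mem_filter, Finset.mem_univ, true_and, MulAction.toPerm_apply]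
    rw [Sylow.coe_subgroup_smul]
    constructor
    · intro h; exact ⟨g, h, rfl⟩
    · rintro ⟨a, ha, e⟩
      rwa [(MulAut.conj c).injective (show MulAut.conj c a = MulAut.conj c g from e)] at ha
  have hinv : ∀ g : G, s g⁻¹ = s g := fun g => by simp [hs_def]
  set S : Sylow 3 G → Finset G := fun P => Finset.univ.filter fun g => g ∈ (P : Subgroup G) ∧ g ≠ 1 with hS
  have hScard : ∀ P, (S P).card = 8 := fun P => by
    have h : insert (1 : G) (S P) = Finset.univ.filter fun g => g ∈ (P : Subgroup G) := by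
      ext g; by_cases hg : g = 1 <;> simp [hS, hg]
    have h2 := congrArg Finset.card h
    have h9 : (Finset.univ.filter fun g : G => g ∈ (P : Subgroup G)).card = 9 := by
      rw [← Fintype.card_subtype, ← Nat.card_eq_fintype_card]
      exact H.card_P P
    rw [Finset.card_insert_of_notMem (by simp [hS]), h9] at h2
    omega
  have hsame : ∀ P Q : Sylow 3 G, ∑ g ∈ S P, 64 / s g = ∑ g ∈ S Q, 64 / s g := by
    intro P Q
    obtain ⟨c, rfl⟩ := MulAction.exists_smul_eq G P Q
    refine Finset.sum_equiv (MulAut.conj c).toEquiv (fun g => ?_) fun g _ => ?_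
    · simp only [hS, Finset.mem_filter, Finset.mem_univ, true_and, Sylow.coe_subgroup_smul]
      refine and_congr ⟨fun h => ⟨g, h, rfl⟩, ?_⟩ (by simp)
      rintro ⟨a, ha, e⟩
      rwa [(MulAut.conj c).injective (show MulAut.conj c a = MulAut.conj c g from e)] at ha
    · show _ = 64 / s (c * g * c⁻¹)
      rw [hconj]
  have hdouble : ∑ P, ∑ g ∈ S P, 64 / s g = 12320 * 64 := by
    rw [Finset.sum_comm' (t' := Finset.univ.filter fun g : G => orderOf g = 3)
      (s' := fun g => Finset.univ.filter fun P : Sylow 3 G => g ∈ (P : Subgroup G))]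
    · have h1 : (Finset.univ.filter fun g : G => orderOf g = 3).card = 12320 := by
        rw [← Fintype.card_subtype, ← Nat.card_eq_fintype_card]; exact H.three
      rw [Finset.sum_congr rfl fun g hg => ?_, Finset.sum_const, h1, smul_eq_mul]
      rw [Finset.sum_const, smul_eq_mul]
      rcases hval g (Finset.mem_filter.1 hg).2 with h | h | h | h <;>
        simp only [hs_def] at h <;> simp [hs_def, h]
    · intro P g
      simp only [hS, Finset.mem_filter, Finset.mem_univ, true_and, and_true]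
      exact ⟨fun h => ⟨h.1, H.orderOf_mem h.1 h.2⟩, fun h => ⟨h.1, fun e => by simp [e] at h⟩⟩
  obtain ⟨P, hP⟩ := H.exists_P hx
  rw [Finset.sum_const_nat fun Q _ => hsame Q P, Finset.card_univ, ← Nat.card_eq_fintype_card, hn] at hdouble
  have hxS : x ∈ S P := by
    simp only [hS, Finset.mem_filter, Finset.mem_univ, true_and]
    exact ⟨hP, fun e => by simp [e] at hx⟩
  have hpos : ∀ g ∈ S P, 1 ≤ 64 / s g := fun g hg => by
    simp only [hS, Finset.mem_filter, Finset.mem_univ, true_and] at hg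
    rcases hval g (H.orderOf_mem hg.1 hg.2) with h | h | h | h <;> simp [h]
  have hpair : ∀ g ∈ S P, 2 * (64 / s g) + 6 ≤ ∑ a ∈ S P, 64 / s a := by
    intro g hg
    have hg' := hg
    simp only [hS, Finset.mem_filter, Finset.mem_univ, true_and] at hg'
    have hgi : g⁻¹ ∈ S P := by
      simp only [hS, Finset.mem_filter, Finset.mem_univ, true_and]
      exact ⟨inv_mem hg'.1, inv_ne_one.2 hg'.2⟩
    have hne : g ≠ g⁻¹ := fun e => by
      have h2 : g ^ 2 = 1 := by rw [sq]; nth_rw 2 [e]; exact mul_inv_cancel g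
      have := orderOf_dvd_of_pow_eq_one h2
      rw [H.orderOf_mem hg'.1 hg'.2] at this
      norm_num at this
    have hsub : ({g, g⁻¹} : Finset G) ⊆ S P := by simp [Finset.insert_subset_iff, hg, hgi]
    rw [← Finset.sum_sdiff hsub, Finset.sum_pair hne, hinv, add_comm (2 * _), ← two_mul]
    refine Nat.add_le_add_right ?_ _
    have h1 := Finset.card_nsmul_le_sum (S P \ {g, g⁻¹}) (fun a => 64 / s a) 1
      fun a ha => hpos a (Finset.mem_sdiff.1 ha).1
    rw [Finset.card_sdiff_of_subset hsub, hScard, Finset.card_pair hne, smul_eq_mul] at h1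
    simpa using h1
  have hupper : ∀ b, (∀ g ∈ S P, 64 / s g ≤ b) →
      ∑ g ∈ S P, 64 / s g ≤ 64 / s x + 7 * b := fun b hb => by
    rw [← Finset.add_sum_erase _ _ hxS]
    refine Nat.add_le_add_left ((Finset.sum_le_card_nsmul _ _ b fun g hg => hb g (Finset.mem_of_mem_erase hg)).trans ?_) _
    rw [Finset.card_erase_of_mem hxS, hScard, smul_eq_mul]
  rw [hs]
  rcases hT with rfl | rfl | rfl
  · have h1 := hupper 64 fun g _ => Nat.div_le_self _ _
    rcases hval x hx with h | h | h | h <;> simp [h] at h1 ⊢ <;> omega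
  · have h1 := hupper 16 fun g hg => by
      have := hpair g hg
      have hg' := hg
      simp only [hS, Finset.mem_filter, Finset.mem_univ, true_and] at hg'
      rcases hval g (H.orderOf_mem hg'.1 hg'.2) with h | h | h | h <;> simp [h] at this ⊢; omega
    have h2 := hpair x hxS
    rcases hval x hx with h | h | h | h <;> simp [h] at h1 h2 ⊢ <;> omega
  · have h1 := hupper 4 fun g hg => by
      have := hpair g hg
      have hg' := hg
      simp only [hS, Finset.mem_filter, Finset.mem_univ, true_and] at hg'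
      rcases hval g (H.orderOf_mem hg'.1 hg'.2) with h | h | h | h <;> simp [h] at this ⊢ <;> omega
    have h2 := hpair x hxS
    rcases hval x hx with h | h | h | h <;> simp [h] at h1 h2 ⊢ <;> omega

end Counts

end CfsgLib.M22Id
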