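import Cfsg.Agent.M22Id.Three

/-!
# Groups with the counts of `M₂₂`: no involution centralises a Sylow 3-subgroup
-/

set_option autoImplicit false
set_option linter.style.haveILetI false
set_option linter.unusedSectionVars false

namespace CfsgLib.M22Id

open Subgroup CfsgLib.M11Nse CfsgLib.M12Nse
open scoped Pointwise

variable {G : Type*} [Group G] [Finite G]

local instance : Fact (Nat.Prime 3) := ⟨Nat.prime_three⟩
local instance : Fact (Nat.Prime 2) := ⟨Nat.prime_two⟩

theorem sq_of_two {w : G} (hw : orderOf w = 2) : w * w = 1 := by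
  rw [← sq]; exact orderOf_dvd_iff_pow_eq_one.1 (by rw [hw])

theorem inv_of_two {w : G} (hw : orderOf w = 2) : w⁻¹ = w := inv_eq_of_mul_eq_one_right (sq_of_two hw)

theorem smul_eq_self_of_le_cz {P : Sylow 3 G} {w : G} (h : (P : Subgroup G) ≤ cz w) : w • P = P :=
  Sylow.smul_eq_iff_mem_normalizer.2 (centralizer_le_normalizer _
    (mem_centralizer_iff.2 fun a ha => mem_cz.1 (h ha)))

namespace Counts

variable (H : Counts G)
include H

theorem cz_two_ge {w : G} (hw : orderOf w = 2) : 384 ≤ Nat.card (cz w) := by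
  have hle : (cz w).index ≤ 1155 := by
    rw [← card_conj, ← H.two]
    exact Nat.card_le_card_of_injective (fun x => ⟨x.1, (orderOf_eq_of_isConj x.2).trans hw⟩)
      fun a b e => Subtype.ext (congrArg (fun t : {g // orderOf g = 2} => t.1) e)
  have hm := (cz w).card_mul_index
  rw [H.card] at hm
  by_contra hlt
  have := Nat.mul_le_mul (show Nat.card (cz w) ≤ 383 by omega) hle
  omega

theorem cz_three_ge {x : G} (hx : orderOf x = 3) : 36 ≤ Nat.card (cz x) := by
  have hle : (cz x).index ≤ 12320 := by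
    rw [← card_conj, ← H.three]
    exact Nat.card_le_card_of_injective (fun y => ⟨y.1, (orderOf_eq_of_isConj y.2).trans hx⟩)
      fun a b e => Subtype.ext (congrArg (fun t : {g // orderOf g = 3} => t.1) e)
  have hm := (cz x).card_mul_index
  rw [H.card] at hm
  by_contra hlt
  have := Nat.mul_le_mul (show Nat.card (cz x) ≤ 35 by omega) hle
  omega

theorem mem_cz_of_mem {P : Sylow 3 G} {x : G} (hx : x ∈ (P : Subgroup G)) : (P : Subgroup G) ≤ cz x :=
  fun _ ha => mem_cz.2 (H.comm_P P ha hx)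

/-- Two Sylow subgroups through an element of order three meet in its cyclic subgroup. -/
theorem inf_eq {P Q : Sylow 3 G} (hPQ : P ≠ Q) {x : G} (hx : orderOf x = 3) (hxP : x ∈ (P : Subgroup G))
    (hxQ : x ∈ (Q : Subgroup G)) : (P : Subgroup G) ⊓ (Q : Subgroup G) = zpowers x := by
  refine (eq_of_le_of_card_ge (zpowers_le.2 (mem_inf.2 ⟨hxP, hxQ⟩)) ?_).symm
  rw [Nat.card_zpowers, hx]
  obtain ⟨i, hi, ho⟩ := (Nat.dvd_prime_pow Nat.prime_three).1
    (show Nat.card ((P : Subgroup G) ⊓ (Q : Subgroup G) : Subgroup G) ∣ 3 ^ 2 from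
      (card_dvd_of_le inf_le_left).trans (dvd_of_eq (H.card_P P)))
  obtain rfl | rfl | rfl : i = 0 ∨ i = 1 ∨ i = 2 := by omega
  · rw [ho]; norm_num
  · rw [ho]; norm_num
  · exfalso
    have h1 := eq_of_le_of_card_ge (inf_le_left : (P : Subgroup G) ⊓ Q ≤ P) (by rw [H.card_P P, ho]; norm_num)
    have h2 : (P : Subgroup G) ≤ Q := h1 ▸ inf_le_right
    exact hPQ (Sylow.ext (eq_of_le_of_card_ge h2 (by rw [H.card_P, H.card_P])))

/-- An involution centralising a Sylow subgroup centralises the Sylow subgroups meeting it, when every element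
of order three lies in four Sylow subgroups. -/
theorem spread (hs : ∀ g : G, orderOf g = 3 → Nat.card {Q : Sylow 3 G // g ∈ (Q : Subgroup G)} = 4)
    {w : G} (hw : orderOf w = 2) {P P' : Sylow 3 G} (hP : (P : Subgroup G) ≤ cz w) {x : G}
    (hx : orderOf x = 3) (hxP : x ∈ (P : Subgroup G)) (hxP' : x ∈ (P' : Subgroup G)) :
    (P' : Subgroup G) ≤ cz w := by
  classical
  have hcx : ∀ a ∈ (P : Subgroup G), a * x * a⁻¹ = x := fun a ha => by
    rw [mul_inv_eq_iff_eq_mul]; exact H.comm_P P ha hxP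
  have hcw : ∀ a ∈ (P : Subgroup G), a * w = w * a := fun a ha => mem_cz.1 (hP ha)
  have hwx : w * x * w⁻¹ = x := by rw [mul_inv_eq_iff_eq_mul]; exact (hcw x hxP).symm
  have hin : ∀ {a : G} (Q : Sylow 3 G), a * x * a⁻¹ = x → x ∈ (Q : Subgroup G) → x ∈ ((a • Q : Sylow 3 G) : Subgroup G) := by
    intro a Q ha hQ
    rw [Sylow.coe_subgroup_smul]
    exact ⟨x, hQ, ha⟩
  have key : ∀ Q : Sylow 3 G, x ∈ (Q : Subgroup G) → w • Q = Q := by
    intro Q hQ
    by_cases hQP : Q = P
    · subst hQP; exact smul_eq_self_of_le_cz hP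
    by_cases hall : ∀ a ∈ (P : Subgroup G), a ∈ zpowers x
    · exfalso
      have := card_dvd_of_le (fun a ha => hall a ha : (P : Subgroup G) ≤ zpowers x)
      rw [H.card_P, Nat.card_zpowers, hx] at this
      norm_num at this
    push Not at hall
    obtain ⟨y, hyP, hyx⟩ := hall
    have hy3 := H.cube hyP
    have hfix : ∀ q ∈ (P : Subgroup G), q • Q = Q → q ∈ zpowers x := fun q hq h => by
      rw [← H.inf_eq (Ne.symm hQP) hx hxP hQ]
      exact ⟨hq, CfsgLib.SmallSimple.mem_sylow_of_smul_eq (n := 1) (by rw [pow_one]; exact H.cube hq) Q h⟩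
    have hmove : ∀ q ∈ (P : Subgroup G), q • Q ≠ P := fun q hq h => hQP (by
      rw [← inv_smul_smul q Q, h]
      exact Sylow.smul_eq_iff_mem_normalizer.2 (le_normalizer (inv_mem hq)))
    haveI := Fintype.ofFinite (Sylow 3 G)
    let S : Finset (Sylow 3 G) := Finset.univ.filter fun R => x ∈ (R : Subgroup G)
    have hS : S.card = 4 := by
      rw [← Fintype.card_subtype, ← Nat.card_eq_fintype_card]; exact hs x hx
    have hy2 : y * y ∈ (P : Subgroup G) := mul_mem hyP hyP
    have h1 : y • Q ≠ Q := fun h => hyx (hfix y hyP h)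
    have h2 : (y * y) • Q ≠ Q := fun h => hyx (by
      have h' := hfix _ hy2 h
      have := mul_mem h' h'
      rwa [show y * y * (y * y) = y ^ 3 * y by simp [pow_succ, mul_assoc], hy3, one_mul] at this)
    have h3 : (y * y) • Q ≠ y • Q := fun h => h1 (by rwa [mul_smul, smul_left_cancel_iff] at h)
    have hsub : ({P, Q, y • Q, (y * y) • Q} : Finset (Sylow 3 G)) ⊆ S := by
      simp only [Finset.insert_subset_iff, Finset.singleton_subset_iff, S, Finset.mem_filter, Finset.mem_univ,
        true_and]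
      exact ⟨hxP, hQ, hin Q (hcx y hyP) hQ, hin Q (hcx _ hy2) hQ⟩
    have hcard : ({P, Q, y • Q, (y * y) • Q} : Finset (Sylow 3 G)).card = 4 :=
      by
        rw [Finset.card_insert_of_notMem, Finset.card_insert_of_notMem, Finset.card_pair h3.symm] <;>
          simp only [Finset.mem_insert, Finset.mem_singleton, not_or]
        · exact ⟨h1.symm, h2.symm⟩
        · exact ⟨Ne.symm hQP, (hmove y hyP).symm, (hmove _ hy2).symm⟩
    have hSeq : ({P, Q, y • Q, (y * y) • Q} : Finset (Sylow 3 G)) = S :=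
      Finset.eq_of_subset_of_card_le hsub (by rw [hS, hcard])
    have hwQ : w • Q ∈ S := by
      simp only [S, Finset.mem_filter, Finset.mem_univ, true_and]
      exact hin Q hwx hQ
    rw [← hSeq] at hwQ
    simp only [Finset.mem_insert, Finset.mem_singleton] at hwQ
    have hsq : ∀ q ∈ (P : Subgroup G), w • Q = q • Q → w • Q = Q := by
      intro q hq h
      have hqq : (q * q) • Q = Q := by
        rw [mul_smul]
        conv_lhs => rw [← h]
        rw [← mul_smul, hcw q hq, mul_smul, ← h, ← mul_smul, sq_of_two hw, one_smul]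
      have hq' := hfix _ (mul_mem hq hq) hqq
      have hqx : q ∈ zpowers x := by
        have := mul_mem hq' hq'
        rwa [show q * q * (q * q) = q ^ 3 * q by simp [pow_succ, mul_assoc], H.cube hq, one_mul] at this
      obtain ⟨i, rfl⟩ := mem_zpowers_iff.1 hqx
      rw [h]
      exact MulAction.mem_stabilizer_iff.1 (zpow_mem (MulAction.mem_stabilizer_iff.2
        (Sylow.smul_eq_iff_mem_normalizer.2 (le_normalizer hQ))) i)
    rcases hwQ with h | h | h | h
    · exfalso
      have := congrArg (w • ·) h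
      simp only [smul_smul, sq_of_two hw, one_smul] at this
      exact hQP (this.trans (smul_eq_self_of_le_cz hP))
    · exact h
    · exact hsq y hyP h
    · exact hsq _ hy2 h
  intro y hy
  set d := w * y * w⁻¹ * y⁻¹ with hd
  have hdP' : d ∈ (P' : Subgroup G) :=
    mul_mem ((mem_normalizer_iff.1 (Sylow.smul_eq_iff_mem_normalizer.1 (key P' hxP')) y).1 hy) (inv_mem hy)
  have hyx : y⁻¹ * x * y⁻¹⁻¹ = x := by
    rw [mul_inv_eq_iff_eq_mul]; exact H.comm_P P' (inv_mem hy) hxP'
  have hdP : d • P = P := by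
    have h1 : w⁻¹ • (y⁻¹ • P) = y⁻¹ • P := by
      rw [inv_smul_eq_iff]; exact (key _ (hin P hyx hxP)).symm
    rw [hd, show w * y * w⁻¹ * y⁻¹ = w * (y * (w⁻¹ * y⁻¹)) by simp [mul_assoc], mul_smul, mul_smul, mul_smul,
      h1, smul_inv_smul]
    exact key P hxP
  have hdx : d ∈ (P : Subgroup G) :=
    CfsgLib.SmallSimple.mem_sylow_of_smul_eq (n := 1) (by rw [pow_one]; exact H.cube hdP') P hdP
  have hdw : w * d = d * w := (hcw d hdx).symm
  rw [mem_cz]
  refine (commute_of_coset (c := w) (y := y) (d := d) (k := 1) ?_ hdw (H.cube hdP') ?_).symm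
  · rw [pow_one, sq, sq_of_two hw]
  · rw [hd]; group

/-- The Sylow subgroups in a subgroup, seen from one of them, when elements lie in one Sylow subgroup. -/
theorem syl_one_mod (hs : ∀ g : G, orderOf g = 3 → Nat.card {Q : Sylow 3 G // g ∈ (Q : Subgroup G)} = 1)
    (K : Subgroup G) {P : Sylow 3 G} (hP : (P : Subgroup G) ≤ K) : Nat.card (Syl 3 K) % 9 = 1 := by
  have hsplit := split_card (fun Q : Sylow 3 G => (Q : Subgroup G) ≤ K) (fun Q => Q = P)
  have h1 : Nat.card {Q : Sylow 3 G // (Q : Subgroup G) ≤ K ∧ Q = P} = 1 :=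
    Nat.card_eq_one_iff_unique.2 ⟨⟨fun a b => Subtype.ext (a.2.2.trans b.2.2.symm)⟩, ⟨⟨P, hP, rfl⟩⟩⟩
  have h9 : 9 ∣ Nat.card {Q : Sylow 3 G // (Q : Subgroup G) ≤ K ∧ ¬ Q = P} := by
    refine dvd_card_of_orbit (H := (P : Subgroup G)) ?_ fun Q hQ => ?_
    · rintro ⟨p, hp⟩ Q ⟨hQK, hne⟩
      show ((p • Q : Sylow 3 G) : Subgroup G) ≤ K ∧ p • Q ≠ P
      refine ⟨?_, fun h => hne ?_⟩
      · rw [Sylow.coe_subgroup_smul]
        rintro _ ⟨a, ha, rfl⟩
        exact mul_mem (mul_mem (hP hp) (hQK ha)) (inv_mem (hP hp))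
      · rw [← inv_smul_smul p Q, h]
        exact Sylow.smul_eq_iff_mem_normalizer.2 (le_normalizer (inv_mem hp))
    · have hmul := MulAction.orbitProdStabilizerEquivGroup (P : Subgroup G) Q
      have hst : MulAction.stabilizer (P : Subgroup G) Q = ⊥ := by
        refine (eq_bot_iff_forall _).2 fun ⟨p, hp⟩ h => ?_
        by_contra hne
        have hp1 : p ≠ 1 := fun e => hne (Subtype.ext e)
        have hpQ := CfsgLib.SmallSimple.mem_sylow_of_smul_eq (n := 1) (by rw [pow_one]; exact H.cube hp) Q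
          (MulAction.mem_stabilizer_iff.1 h)
        obtain ⟨hu, -⟩ := Nat.card_eq_one_iff_unique.1 (hs p (H.orderOf_mem hp hp1))
        exact hQ.2 (congrArg Subtype.val (hu.allEq ⟨Q, hpQ⟩ ⟨P, hp⟩))
      have := Nat.card_congr hmul
      rw [Nat.card_prod, hst, card_bot, mul_one, H.card_P] at this
      rw [this]
  rw [h1] at hsplit
  show Nat.card {Q : Sylow 3 G // (Q : Subgroup G) ≤ K} % 9 = 1
  omega

theorem syl_four_mod (hs : ∀ g : G, orderOf g = 3 → Nat.card {Q : Sylow 3 G // g ∈ (Q : Subgroup G)} = 4)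
    {w : G} (hw : orderOf w = 2) {P : Sylow 3 G} (hP : (P : Subgroup G) ≤ cz w) :
    13 ≤ Nat.card (Syl 3 (cz w)) ∧ Nat.card (Syl 3 (cz w)) % 9 = 4 := by
  classical
  set meet : Sylow 3 G → Prop := fun Q => ∃ x ∈ (P : Subgroup G), x ≠ 1 ∧ x ∈ (Q : Subgroup G) with hmeet
  have hmeet_le : ∀ Q, meet Q → (Q : Subgroup G) ≤ cz w := fun Q ⟨x, hxP, hx1, hxQ⟩ =>
    H.spread hs hw hP (H.orderOf_mem hxP hx1) hxP hxQ
  have hsplit := split_card (fun Q : Sylow 3 G => (Q : Subgroup G) ≤ cz w) meet
  have hsplit2 := split_card (fun Q : Sylow 3 G => (Q : Subgroup G) ≤ cz w ∧ meet Q) (fun Q => Q = P)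
  have h1 : Nat.card {Q : Sylow 3 G // ((Q : Subgroup G) ≤ cz w ∧ meet Q) ∧ Q = P} = 1 := by
    obtain ⟨x, hx⟩ : ∃ x : (P : Subgroup G), x ≠ 1 := by
      haveI : Nontrivial (P : Subgroup G) := Finite.one_lt_card_iff_nontrivial.1 (by rw [H.card_P]; norm_num)
      exact exists_ne 1
    exact Nat.card_eq_one_iff_unique.2 ⟨⟨fun a b => Subtype.ext (a.2.2.trans b.2.2.symm)⟩,
      ⟨⟨P, ⟨hP, x, x.2, fun e => hx (Subtype.ext e), x.2⟩, rfl⟩⟩⟩
  have h12 : Nat.card {Q : Sylow 3 G // ((Q : Subgroup G) ≤ cz w ∧ meet Q) ∧ ¬ Q = P} = 12 := by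
    haveI := Fintype.ofFinite G
    haveI := Fintype.ofFinite (Sylow 3 G)
    set A : Finset (Sylow 3 G) := Finset.univ.filter fun Q => meet Q ∧ Q ≠ P with hA
    set B : Finset G := Finset.univ.filter fun x => x ∈ (P : Subgroup G) ∧ x ≠ 1 with hB
    have hdc : ∑ x ∈ B, (A.filter fun Q : Sylow 3 G => x ∈ (Q : Subgroup G)).card =
        ∑ Q ∈ A, (B.filter fun x : G => x ∈ (Q : Subgroup G)).card :=
      Finset.sum_card_bipartiteAbove_eq_sum_card_bipartiteBelow (fun x (Q : Sylow 3 G) => x ∈ (Q : Subgroup G))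
    have hBc : B.card = 8 := by
      have h : insert (1 : G) B = Finset.univ.filter fun g => g ∈ (P : Subgroup G) := by
        ext g; by_cases hg : g = 1 <;> simp [hB, hg]
      have h2 := congrArg Finset.card h
      have h9 : (Finset.univ.filter fun g : G => g ∈ (P : Subgroup G)).card = 9 := by
        rw [← Fintype.card_subtype, ← Nat.card_eq_fintype_card]
        exact H.card_P P
      rw [Finset.card_insert_of_notMem (by simp [hB]), h9] at h2
      omega
    rw [Finset.sum_const_nat (m := 3) fun x hx => ?_, Finset.sum_const_nat (m := 2) fun Q hQ => ?_, hBc] at hdc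
    · have : A.card = 12 := by omega
      rw [← this, hA, Nat.card_eq_fintype_card, Fintype.card_subtype]
      congr 1
      ext Q
      simp only [Finset.mem_filter, Finset.mem_univ, true_and]
      exact ⟨fun h => ⟨h.1.2, h.2⟩, fun h => ⟨⟨hmeet_le Q h.1, h.1⟩, h.2⟩⟩
    · simp only [hA, Finset.mem_filter, Finset.mem_univ, true_and] at hQ
      obtain ⟨⟨a, haP, ha1, haQ⟩, hne⟩ := hQ
      have hinf := H.inf_eq (Ne.symm hne) (H.orderOf_mem haP ha1) haP haQ
      have h : (insert (1 : G) (B.filter fun x => x ∈ (Q : Subgroup G))) =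
          Finset.univ.filter fun g => g ∈ zpowers a := by
        ext g
        simp only [Finset.mem_insert, hB, Finset.mem_filter, Finset.mem_univ, true_and]
        rw [← hinf, mem_inf]
        by_cases hg : g = 1 <;> simp [hg]
      have h2 := congrArg Finset.card h
      rw [Finset.card_insert_of_notMem (by simp [hB]), ← Fintype.card_subtype (fun g => g ∈ zpowers a),
        ← Nat.card_eq_fintype_card, show Nat.card {g : G // g ∈ zpowers a} = 3 from
          (Nat.card_zpowers a).trans (H.orderOf_mem haP ha1)] at h2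
      omega
    · simp only [hB, Finset.mem_filter, Finset.mem_univ, true_and] at hx
      have hc := hs x (H.orderOf_mem hx.1 hx.2)
      rw [Nat.card_eq_fintype_card, Fintype.card_subtype] at hc
      have h : insert P (A.filter fun Q : Sylow 3 G => x ∈ (Q : Subgroup G)) =
          Finset.univ.filter fun Q : Sylow 3 G => x ∈ (Q : Subgroup G) := by
        ext Q
        by_cases hQ : Q = P
        · simp [hQ, hx.1]
        · simp only [Finset.mem_insert, hQ, false_or, hA, Finset.mem_filter, Finset.mem_univ, true_and]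
          exact ⟨fun h => h.2, fun h => ⟨⟨⟨x, hx.1, hx.2, h⟩, hQ⟩, h⟩⟩
      have h2 := congrArg Finset.card h
      rw [Finset.card_insert_of_notMem (by simp [hA]), hc] at h2
      omega
  have h9 : 9 ∣ Nat.card {Q : Sylow 3 G // (Q : Subgroup G) ≤ cz w ∧ ¬ meet Q} := by
    refine dvd_card_of_orbit (H := (P : Subgroup G)) ?_ fun Q hQ => ?_
    · rintro ⟨p, hp⟩ Q ⟨hQK, hne⟩
      show ((p • Q : Sylow 3 G) : Subgroup G) ≤ cz w ∧ ¬ meet (p • Q)
      refine ⟨?_, fun ⟨x, hxP, hx1, hxQ⟩ => hne ⟨x, hxP, hx1, ?_⟩⟩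
      · rw [Sylow.coe_subgroup_smul]
        rintro _ ⟨a, ha, rfl⟩
        exact mul_mem (mul_mem (hP hp) (hQK ha)) (inv_mem (hP hp))
      · rw [Sylow.coe_subgroup_smul] at hxQ
        obtain ⟨a, ha, e⟩ := hxQ
        have e' : p * a * p⁻¹ = x := e
        rwa [show a = x by
          rw [show a = p⁻¹ * (p * a * p⁻¹) * p by group, e', H.comm_P P (inv_mem hp) hxP]; group] at ha
    · have hst : MulAction.stabilizer (P : Subgroup G) Q = ⊥ := by
        refine (eq_bot_iff_forall _).2 fun ⟨p, hp⟩ h => ?_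
        by_contra hne
        exact hQ.2 ⟨p, hp, fun e => hne (Subtype.ext e),
          CfsgLib.SmallSimple.mem_sylow_of_smul_eq (n := 1) (by rw [pow_one]; exact H.cube hp) Q
            (MulAction.mem_stabilizer_iff.1 h)⟩
      have := Nat.card_congr (MulAction.orbitProdStabilizerEquivGroup (P : Subgroup G) Q)
      rw [Nat.card_prod, hst, card_bot, mul_one, H.card_P] at this
      rw [this]
  rw [h1, h12] at hsplit2
  show 13 ≤ Nat.card {Q : Sylow 3 G // (Q : Subgroup G) ≤ cz w} ∧
    Nat.card {Q : Sylow 3 G // (Q : Subgroup G) ≤ cz w} % 9 = 4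
  omega

/-- A central involution of the centraliser of a Sylow 3-subgroup, if there is one. -/
theorem exists_central (P : Sylow 3 G) (h : Nat.card (centralizer ((P : Subgroup G) : Set G)) ≠ 9) :
    ∃ w : G, orderOf w = 2 ∧ (P : Subgroup G) ≤ cz w ∧ centralizer ((P : Subgroup G) : Set G) ≤ cz w := by
  set C := centralizer ((P : Subgroup G) : Set G) with hC
  have hPC : (P : Subgroup G) ≤ C := fun a ha => mem_centralizer_iff.2 fun b hb => H.comm_P P hb ha
  obtain ⟨m, hm⟩ : 9 ∣ Nat.card C := H.card_P P ▸ card_dvd_of_le hPC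
  have hd : 9 * m ∣ 9 * 128 := hm ▸ (card_dvd_of_le (centralizer_le_normalizer _)).trans (H.normalizer_dvd P)
  obtain ⟨e, -, he⟩ := (Nat.dvd_prime_pow Nat.prime_two).1
    (show m ∣ 2 ^ 7 from Nat.dvd_of_mul_dvd_mul_left (by norm_num) hd)
  obtain ⟨S⟩ : Nonempty (Sylow 2 C) := inferInstance
  have hS : Nat.card (S : Subgroup C) = 2 ^ e :=
    CfsgLib.SmallSimple.card_sylow_eq S (m := 9) (by rw [hm, he, mul_comm]) (by norm_num)
  haveI : Nontrivial (S : Subgroup C) := Finite.one_lt_card_iff_nontrivial.1 (by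
    rw [hS]; exact Nat.one_lt_two_pow fun e0 => h (by rw [hm, he, e0, pow_zero, mul_one]))
  haveI := S.2.center_nontrivial
  obtain ⟨k, hk⟩ := IsPGroup.iff_card.1 (S.2.to_subgroup (center (S : Subgroup C)))
  obtain ⟨u, hu⟩ := exists_prime_orderOf_dvd_card' (G := center (S : Subgroup C)) 2 (by
    rw [hk]
    refine dvd_pow_self 2 fun k0 => ?_
    rw [k0, pow_zero] at hk
    have := Finite.one_lt_card (α := center (S : Subgroup C))
    omega)
  set w : G := ((u.1.1 : C) : G)
  have hw : orderOf w = 2 := by rw [Subgroup.orderOf_coe, Subgroup.orderOf_coe, Subgroup.orderOf_coe, hu]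
  have hPw : (P : Subgroup G) ≤ cz w := fun a ha => mem_cz.2 (mem_centralizer_iff.1 u.1.1.2 a ha)
  refine ⟨w, hw, hPw, fun c hc => ?_⟩
  have hSP : (P : Subgroup G).subgroupOf C ⊔ (S : Subgroup C) = ⊤ := by
    refine eq_top_of_card_eq _ (Nat.dvd_antisymm (card_subgroup_dvd_card _) ?_)
    rw [hm, he]
    refine Nat.Coprime.mul_dvd_of_dvd_of_dvd (Nat.Coprime.pow_right e (by norm_num)) ?_ (hS ▸ card_dvd_of_le le_sup_right)
    refine dvd_trans ?_ (card_dvd_of_le le_sup_left)
    rw [Nat.card_congr (subgroupOfEquivOfLe hPC).toEquiv, H.card_P]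
  have hle : (P : Subgroup G).subgroupOf C ⊔ (S : Subgroup C) ≤ (cz w).subgroupOf C :=
    sup_le (fun a ha => hPw ha) fun a ha => mem_subgroupOf.2 (mem_cz.2
      (congrArg (fun t : (S : Subgroup C) => ((t : C) : G)) (mem_center_iff.1 u.2 ⟨a, ha⟩)))
  exact mem_subgroupOf.1 (hle (hSP ▸ mem_top (⟨c, hc⟩ : C)))

/-- Every Sylow 3-subgroup is its own centraliser. -/
theorem cz_P (P : Sylow 3 G) : Nat.card (centralizer ((P : Subgroup G) : Set G)) = 9 := by
  obtain ⟨T, hT, hn, hN⟩ := H.sylow_three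
  have hs : ∀ g : G, orderOf g = 3 → Nat.card {Q : Sylow 3 G // g ∈ (Q : Subgroup G)} = T :=
    fun g hg => H.through_eq hT hn hg
  have hNP := hN P
  by_contra h
  obtain ⟨w, hw, hPw, hCw⟩ := H.exists_central P h
  set C := centralizer ((P : Subgroup G) : Set G) with hC
  have hCN : C ≤ normalizer ((P : Subgroup G) : Set G) := centralizer_le_normalizer _
  obtain ⟨m, hm⟩ : 9 ∣ Nat.card C :=
    H.card_P P ▸ card_dvd_of_le fun a ha => mem_centralizer_iff.2 fun b hb => H.comm_P P hb ha
  have hv := H.syl_values (cz w) (H.card_P P ▸ card_dvd_of_le hPw) (H.cz_dvd (Or.inl hw))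
  have hmul := syl_mul (cz w) hPw
  have hge := H.cz_two_ge hw
  have hNd : Nat.card (cz w ⊓ normalizer ((P : Subgroup G) : Set G) : Subgroup G) ∣
      Nat.card (normalizer ((P : Subgroup G) : Set G)) := card_dvd_of_le inf_le_right
  rcases hT with rfl | rfl | rfl
  · have h9 := H.syl_one_mod hs (cz w) hPw
    rw [mul_one] at hNP
    rcases hv with hv | hv | hv | hv <;> rw [hv] at h9 hmul <;> norm_num at h9
    · have := Nat.le_of_dvd (by omega) hNd
      omega
    · have hX : Nat.card (cz w ⊓ normalizer ((P : Subgroup G) : Set G) : Subgroup G) ∣ 18 :=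
        Nat.dvd_of_mul_dvd_mul_left (by norm_num : 0 < 64)
          ((dvd_of_eq hmul).trans (H.cz_dvd (Or.inl hw)))
      have hC18 : Nat.card C ∣ 18 := (card_dvd_of_le (le_inf hCw hCN)).trans hX
      have hm2 : m = 2 := by
        rcases (Nat.dvd_prime Nat.prime_two).1
          (Nat.dvd_of_mul_dvd_mul_left (by norm_num : 0 < 9) (show 9 * m ∣ 9 * 2 from hm ▸ hC18)) with e | e
        · rw [e, mul_one] at hm; exact absurd hm h
        · exact e
      have hwC : w ∈ C := mem_centralizer_iff.2 fun a ha => mem_cz.1 (hPw ha)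
      have huniq : ∀ v ∈ C, orderOf v = 2 → v = w := by
        intro v hv hv2
        by_contra hne
        have hc : v * w = w * v := mem_cz.1 (hCw hv)
        have h4 : Nat.card (zpowers v ⊔ zpowers w : Subgroup G) ∣ 18 :=
          (card_dvd_of_le (sup_le (zpowers_le.2 hv) (zpowers_le.2 hwC))).trans hC18
        have hp : IsPGroup 2 (zpowers v ⊔ zpowers w : Subgroup G) :=
          IsPGroup.to_sup_of_normal_left' (IsPGroup.of_card (n := 1) (by rw [Nat.card_zpowers, hv2, pow_one]))
            (IsPGroup.of_card (n := 1) (by rw [Nat.card_zpowers, hw, pow_one]))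
            (zpowers_le.2 (centralizer_le_normalizer _ (mem_centralizer_iff.2 fun a ha => by
              obtain ⟨i, rfl⟩ := mem_zpowers_iff.1 ha
              exact ((show Commute v w from hc).zpow_left i).eq)))
        obtain ⟨j, hj⟩ := IsPGroup.iff_card.1 hp
        rw [hj] at h4
        have hj1 : j ≤ 1 := by
          by_contra hj1
          exact absurd ((Nat.pow_dvd_pow 2 (show 2 ≤ j by omega)).trans h4) (by norm_num)
        have he := eq_of_le_of_card_ge (le_sup_left : zpowers v ≤ zpowers v ⊔ zpowers w) (by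
          rw [hj, Nat.card_zpowers, hv2]; exact (Nat.pow_le_pow_right two_pos hj1))
        have hwv : w ∈ zpowers v := he ▸ mem_sup_right (mem_zpowers w)
        obtain ⟨i, hi⟩ := mem_zpowers_iff.1 hwv
        rcases Int.even_or_odd' i with ⟨r, rfl | rfl⟩
        · rw [zpow_mul, zpow_two, sq_of_two hv2, one_zpow] at hi
          rw [← hi, orderOf_one] at hw; norm_num at hw
        · rw [zpow_add, zpow_mul, zpow_two, sq_of_two hv2, one_zpow, one_mul, zpow_one] at hi
          exact hne hi
      have hNw : normalizer ((P : Subgroup G) : Set G) ≤ cz w := by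
        intro n hn'
        rw [mem_cz, ← mul_inv_eq_iff_eq_mul]
        refine huniq _ (mem_centralizer_iff.2 fun a ha => ?_) ((MulEquiv.orderOf_eq (MulAut.conj n) w).trans hw)
        have := mem_centralizer_iff.1 hwC (n⁻¹ * a * n) (by
          have := (mem_normalizer_iff.1 (inv_mem hn') a).1 ha
          rwa [inv_inv] at this)
        calc a * (n * w * n⁻¹) = n * (n⁻¹ * a * n * w) * n⁻¹ := by group
          _ = n * (w * (n⁻¹ * a * n)) * n⁻¹ := by rw [this]
          _ = _ := by group
      have := Nat.le_of_dvd (by norm_num)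
        ((card_dvd_of_le (le_inf hNw le_rfl)).trans hX)
      omega
  · obtain ⟨h13, h9⟩ := H.syl_four_mod hs hw hPw
    omega
  · have h18 : Nat.card C ∣ 18 := (card_dvd_of_le hCN).trans (dvd_of_eq (by omega))
    have hm2 : m = 2 := by
      rcases (Nat.dvd_prime Nat.prime_two).1
        (Nat.dvd_of_mul_dvd_mul_left (by norm_num : 0 < 9) (show 9 * m ∣ 9 * 2 from hm ▸ h18)) with e | e
      · rw [e, mul_one] at hm; exact absurd hm h
      · exact e
    haveI : Fact (Nat.Prime 5) := ⟨by norm_num⟩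
    have heq := (eq_of_le_of_card_ge hCN (by rw [hm, hm2]; omega)).symm
    obtain ⟨R, hR⟩ := dvd_normalizer_of_complement (r := 5) P (by rw [heq]) (by norm_num)
    rw [H.card_P, H.normalizer_five R] at hR
    norm_num at hR

end Counts

end CfsgLib.M22Id
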