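import Cfsg.Agent.M22Id.ThreeB

/-!
# Groups with the counts of `M₂₂`: the centralisers of elements of order two and three
-/

set_option autoImplicit false
set_option linter.style.haveILetI false
set_option linter.unusedSectionVars false

namespace CfsgLib.M22Id

open Subgroup CfsgLib.M11Nse CfsgLib.M12Nse
open scoped Pointwise

variable {G : Type*} [Group G] [Finite G]

local instance : Fact (Nat.Prime 3) := ⟨Nat.prime_three⟩
local instance : Fact (Nat.Prime 2) := ⟨Nat.prime_two⟩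

/-- The nontrivial elements of a group of order three. -/
theorem eq_or_inv_of_mem_zpowers {x y : G} (hx : orderOf x = 3) (hy : y ∈ zpowers x) (h1 : y ≠ 1) :
    y = x ∨ y = x⁻¹ := by
  classical
  obtain ⟨k, hk, rfl⟩ := Finset.mem_image.1 (((isOfFinOrder_of_finite x).mem_zpowers_iff_mem_range_orderOf).1 hy)
  rw [Finset.mem_range, hx] at hk
  obtain rfl | rfl | rfl : k = 0 ∨ k = 1 ∨ k = 2 := by omega
  · simp at h1
  · simp
  · refine Or.inr (eq_inv_of_mul_eq_one_left ?_)
    rw [← pow_succ, show 2 + 1 = 3 from rfl, ← hx, pow_orderOf_eq_one]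

namespace Counts

variable (H : Counts G)
include H

theorem not_le_cz_two (P : Sylow 3 G) {w : G} (hw : orderOf w = 2) : ¬ (P : Subgroup G) ≤ cz w := fun h => by
  have := Subgroup.orderOf_dvd_natCard (centralizer ((P : Subgroup G) : Set G)) (x := w)
    (mem_centralizer_iff.2 fun a ha => mem_cz.1 (h ha))
  rw [hw, H.cz_P P] at this
  norm_num at this

theorem cz_two {w : G} (hw : orderOf w = 2) : Nat.card (cz w) = 384 := by
  have h9 : ¬ 9 ∣ Nat.card (cz w) := fun h => by
    have h' : 3 ^ (Nat.card G).factorization 3 ∣ Nat.card (cz w) := by rw [H.fac_three]; exact h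
    have hmod := syl_mod (p := 3) (cz w) h'
    obtain ⟨⟨P, hP⟩⟩ := (Nat.card_pos_iff.1 (show 0 < Nat.card (Syl 3 (cz w)) by omega)).1
    exact H.not_le_cz_two P hw hP
  have hge := H.cz_two_ge hw
  obtain ⟨k, hk⟩ := H.cz_dvd (Or.inl hw)
  have hk3 : k ≤ 3 := by
    by_contra hk4
    have := Nat.mul_le_mul hge (show 4 ≤ k by omega)
    omega
  rcases (show k = 0 ∨ k = 1 ∨ k = 2 ∨ k = 3 by omega) with rfl | rfl | rfl | rfl
  · omega
  · exact absurd (show 9 ∣ Nat.card (cz w) by omega) h9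
  · exact absurd (show 9 ∣ Nat.card (cz w) by omega) h9
  · omega

theorem conj_two {w w' : G} (hw : orderOf w = 2) (hw' : orderOf w' = 2) : IsConj w w' := by
  have hm := (cz w).card_mul_index
  rw [H.card, H.cz_two hw] at hm
  let f : {x : G // IsConj w x} → {g : G // orderOf g = 2} := fun x => ⟨x.1, (orderOf_eq_of_isConj x.2).trans hw⟩
  have hf : Function.Bijective f := by
    refine (Nat.bijective_iff_injective_and_card f).2 ⟨fun a b e => Subtype.ext (congrArg (fun t : {g // orderOf g = 2} => t.1) e), ?_⟩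
    rw [card_conj, show Nat.card {g : G // orderOf g = 2} = 1155 from H.two]
    omega
  obtain ⟨x, hx⟩ := hf.2 ⟨w', hw'⟩
  have e : x.1 = w' := congrArg Subtype.val hx
  exact e ▸ x.2

theorem fac_cz_two {w : G} (hw : orderOf w = 2) : ∀ P : Sylow 3 (cz w), Nat.card (P : Subgroup (cz w)) = 3 := fun P =>
  CfsgLib.SmallSimple.card_sylow_eq P (k := 1) (m := 128) (by rw [H.cz_two hw]; rfl) (by norm_num)

/-- The elements of order three centralising an involution. -/
theorem count_three_cz {w : G} (hw : orderOf w = 2) :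
    Nat.card {x : G // orderOf x = 3 ∧ Commute w x} = Nat.card (Sylow 3 (cz w)) * 2 := by
  rw [show Nat.card (Sylow 3 (cz w)) * 2 = cnt (cz w) 3 from (cnt_prime (H.fac_cz_two hw)).symm]
  exact Nat.card_congr
    { toFun := fun x => ⟨⟨x.1, mem_cz.2 x.2.2.eq.symm⟩, by rw [Subgroup.orderOf_mk]; exact x.2.1⟩
      invFun := fun x => ⟨x.1.1, by rw [Subgroup.orderOf_coe]; exact x.2, (mem_cz.1 x.1.2).symm⟩
      left_inv := fun _ => rfl
      right_inv := fun _ => rfl }

theorem sylow_cz_two {w : G} (hw : orderOf w = 2) : Nat.card (Sylow 3 (cz w)) = 16 ∧ cnt G 6 = 36960 := by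
  have hall : ∀ v : G, orderOf v = 2 →
      Nat.card {x : G // orderOf x = 3 ∧ Commute v x} = Nat.card (Sylow 3 (cz w)) * 2 := by
    intro v hv
    rw [← H.count_three_cz hw]
    obtain ⟨c, rfl⟩ := isConj_iff.1 (H.conj_two hw hv)
    refine (Nat.card_congr (conjEquiv c _ _ fun x => ?_)).symm
    rw [show orderOf (c * x * c⁻¹) = orderOf x from MulEquiv.orderOf_eq (MulAut.conj c) x]
    exact and_congr_right fun _ => (Commute.conj_iff c).symm
  have h6 : cnt G 6 = 1155 * (Nat.card (Sylow 3 (cz w)) * 2) := by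
    rw [show (6 : ℕ) = 2 * 3 from rfl, cnt_mul two_pos (by norm_num) (by norm_num),
      card_pairs (fun v : G => orderOf v = 2) (fun v x => orderOf x = 3 ∧ Commute v x) hall,
      show Nat.card {g : G // orderOf g = 2} = 1155 from H.two]
  obtain ⟨P⟩ : Nonempty (Sylow 3 (cz w)) := inferInstance
  have hd := P.card_dvd_index
  have hi := (P : Subgroup (cz w)).card_mul_index
  rw [H.fac_cz_two hw P, H.cz_two hw] at hi
  have hpos : 0 < Nat.card (Sylow 3 (cz w)) := Nat.card_pos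
  have hmod := card_sylow_modEq_one 3 (cz w)
  rw [Nat.ModEq] at hmod
  have hv := H.six_val (by omega)
  omega

/-- The elements of a Sylow subgroup in terms of two generators. -/
theorem mem_P {P : Sylow 3 G} {x y : G} (hxP : x ∈ (P : Subgroup G)) (hx : x ≠ 1) (hyP : y ∈ (P : Subgroup G))
    (hy : y ∉ zpowers x) {q : G} (hq : q ∈ (P : Subgroup G)) :
    q ∈ zpowers x ∨ (∃ d ∈ zpowers x, q = d * y) ∨ ∃ d ∈ zpowers x, q = d * (y * y) := by
  have hy3 := H.cube hyP
  have hy2 : y * y ∉ zpowers x := fun h => hy (by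
    have := mul_mem h h
    rwa [show y * y * (y * y) = y ^ 3 * y by simp [pow_succ, mul_assoc], hy3, one_mul] at this)
  let pw : Fin 3 → G := ![1, y, y * y]
  let f : zpowers x × Fin 3 → (P : Subgroup G) := fun p => ⟨p.1.1 * pw p.2, mul_mem (zpowers_le.2 hxP p.1.2) (by
    rcases p with ⟨d, i⟩
    fin_cases i
    · exact one_mem _
    · exact hyP
    · exact mul_mem hyP hyP)⟩
  have hkey : ∀ (d d' : zpowers x) (a b : G), d.1 * a = d'.1 * b → b * a⁻¹ ∈ zpowers x := fun d d' a b e => by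
    rw [show b * a⁻¹ = d'.1⁻¹ * (d'.1 * b) * a⁻¹ by group, ← e,
      show d'.1⁻¹ * (d.1 * a) * a⁻¹ = d'.1⁻¹ * d.1 by group]
    exact mul_mem (inv_mem d'.2) d.2
  have hf : Function.Bijective f := by
    refine (Nat.bijective_iff_injective_and_card f).2 ⟨?_, ?_⟩
    · rintro ⟨d, i⟩ ⟨d', j⟩ e
      have e' : d.1 * pw i = d'.1 * pw j := congrArg Subtype.val e
      have h := hkey d d' _ _ e'
      have hij : i = j := by
        fin_cases i <;> fin_cases j <;> first
          | rfl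
          | (exfalso; simp [pw, mul_inv_rev, mul_assoc] at h; first
              | exact hy h
              | exact hy (inv_mem_iff.1 h)
              | exact hy2 h
              | exact hy2 (inv_mem_iff.1 (by simpa [mul_inv_rev] using h)))
      subst hij
      exact Prod.ext (Subtype.ext (mul_right_cancel e')) rfl
    · rw [Nat.card_prod, Nat.card_zpowers, H.orderOf_mem hxP hx, Nat.card_eq_fintype_card (α := Fin 3),
        Fintype.card_fin, H.card_P]
  obtain ⟨⟨d, i⟩, hp⟩ := hf.2 ⟨q, hq⟩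
  have hp' : d.1 * pw i = q := congrArg Subtype.val hp
  fin_cases i
  · exact Or.inl (by rw [← hp']; simp [pw])
  · exact Or.inr (Or.inl ⟨d, d.2, hp'.symm⟩)
  · exact Or.inr (Or.inr ⟨d, d.2, hp'.symm⟩)

theorem exists_out {P : Sylow 3 G} {x : G} (hx : orderOf x = 3) : ∃ y ∈ (P : Subgroup G), y ∉ zpowers x := by
  by_contra h
  push Not at h
  have := card_dvd_of_le (fun a ha => h a ha : (P : Subgroup G) ≤ zpowers x)
  rw [H.card_P, Nat.card_zpowers, hx] at this
  norm_num at this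

/-- The part of a Sylow normaliser fixing an element of order three. -/
theorem normalizer_inf_cz {P : Sylow 3 G} {x : G} (hxP : x ∈ (P : Subgroup G)) (hx : orderOf x = 3) :
    Nat.card (normalizer ((P : Subgroup G) : Set G) ⊓ cz x : Subgroup G) ∣ 18 := by
  classical
  set K := normalizer ((P : Subgroup G) : Set G) ⊓ cz x
  have hx1 : x ≠ 1 := fun e => by simp [e] at hx
  obtain ⟨y, hyP, hy⟩ := H.exists_out (P := P) hx
  obtain ⟨m, hm⟩ : 9 ∣ Nat.card K := H.card_P P ▸ card_dvd_of_le (le_inf le_normalizer (H.mem_cz_of_mem hxP))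
  have hd : 9 * m ∣ 9 * 128 := hm ▸ (card_dvd_of_le inf_le_left).trans (H.normalizer_dvd P)
  obtain ⟨e, -, he⟩ := (Nat.dvd_prime_pow Nat.prime_two).1
    (show m ∣ 2 ^ 7 from Nat.dvd_of_mul_dvd_mul_left (by norm_num) hd)
  obtain ⟨S⟩ : Nonempty (Sylow 2 K) := inferInstance
  have hS : Nat.card (S : Subgroup K) = 2 ^ e :=
    CfsgLib.SmallSimple.card_sylow_eq S (m := 9) (by rw [hm, he, mul_comm]) (by norm_num)
  let c : ↥(S : Subgroup K) → G := fun s => ((s : K) : G)
  have hfix : ∀ s : (S : Subgroup K), c s * y * (c s)⁻¹ * y⁻¹ ∈ zpowers x → s = 1 := by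
    intro s hs
    obtain ⟨k, hk⟩ := S.2 s
    have hsK := mem_inf.1 ((s : K)).2
    obtain ⟨i, hi⟩ := mem_zpowers_iff.1 hs
    have hcy : c s * y = y * c s := by
      refine commute_of_coset (d := x ^ i) (k := k) ?_ ((show Commute (c s) x from mem_cz.1 hsK.2).zpow_right i).eq
        (H.cube (zpow_mem hxP i)) ?_
      · exact congrArg (fun t : (S : Subgroup K) => ((t : K) : G)) hk
      · rw [hi]; group
    have hcP : c s ∈ centralizer ((P : Subgroup G) : Set G) := mem_centralizer_iff.2 fun a ha => by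
      rcases H.mem_P hxP hx1 hyP hy ha with h | ⟨d, h, rfl⟩ | ⟨d, h, rfl⟩
      all_goals obtain ⟨j, rfl⟩ := mem_zpowers_iff.1 h
      all_goals have hcx := (show Commute (c s) x from mem_cz.1 hsK.2).zpow_right j
      · exact hcx.eq.symm
      · exact (hcx.mul_right hcy).eq.symm
      · exact (hcx.mul_right ((show Commute (c s) y from hcy).mul_right hcy)).eq.symm
    have h9 := Subgroup.orderOf_dvd_natCard _ hcP
    rw [H.cz_P P] at h9
    have h2 : orderOf (c s) ∣ 2 ^ k := orderOf_dvd_of_pow_eq_one (congrArg (fun t : (S : Subgroup K) => ((t : K) : G)) hk)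
    have h1 : orderOf (c s) = 1 :=
      Nat.eq_one_of_dvd_coprimes (Nat.Coprime.pow_left k (by norm_num : Nat.Coprime 2 9)) h2 h9
    exact Subtype.ext (Subtype.ext (orderOf_eq_one_iff.1 h1))
  have himg : ∀ s : (S : Subgroup K), s ≠ 1 → ∃ d ∈ zpowers x, c s * y * (c s)⁻¹ = d * (y * y) := by
    intro s hs
    have hmem := (mem_normalizer_iff.1 (mem_inf.1 ((s : K)).2).1 y).1 hyP
    rcases H.mem_P hxP hx1 hyP hy hmem with h | ⟨d, h, e'⟩ | h
    · exfalso
      obtain ⟨i, hi⟩ := mem_zpowers_iff.1 h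
      have hcx := (show Commute (c s) x from mem_cz.1 (mem_inf.1 ((s : K)).2).2).zpow_right i
      refine hy (mem_zpowers_iff.2 ⟨i, ?_⟩)
      calc x ^ i = (c s)⁻¹ * (c s * x ^ i) := by group
        _ = (c s)⁻¹ * (x ^ i * c s) := by rw [hcx.eq]
        _ = y := by rw [hi]; simp [c, mul_assoc]
    · exact absurd (hfix s (by rw [e', mul_inv_cancel_right]; exact h)) hs
    · exact h
  have htwo : ∀ s t : (S : Subgroup K), s ≠ 1 → t ≠ 1 → s = t := by
    intro s t hs ht
    by_contra hne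
    obtain ⟨d, hd', es⟩ := himg s hs
    obtain ⟨d₂, hd₂, et⟩ := himg t ht
    refine hne (inv_mul_eq_one.1 (hfix (t⁻¹ * s) ?_)).symm
    obtain ⟨i, rfl⟩ := mem_zpowers_iff.1 hd'
    obtain ⟨j, rfl⟩ := mem_zpowers_iff.1 hd₂
    have hct : Commute (c t) x := mem_cz.1 (mem_inf.1 ((t : K)).2).2
    have e1 : y * y = x ^ (-j) * (c t * y * (c t)⁻¹) := by rw [et, zpow_neg]; group
    have e2 : c (t⁻¹ * s) * y * (c (t⁻¹ * s))⁻¹ * y⁻¹ = (c t)⁻¹ * (x ^ i * (y * y)) * c t * y⁻¹ := by
      rw [← es]; simp [c, mul_assoc]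
    rw [e2, e1, show x ^ i * (x ^ (-j) * (c t * y * (c t)⁻¹)) = x ^ (i + -j) * (c t * y * (c t)⁻¹) by group,
      ← mul_assoc (c t)⁻¹, ((hct.inv_left).zpow_right (i + -j)).eq]
    convert zpow_mem (mem_zpowers x) (i + -j) using 1
    group
  have hle : Nat.card (S : Subgroup K) ≤ Nat.card Bool := Nat.card_le_card_of_injective
    (fun s => decide (s = 1)) fun s t e => by
      by_cases h1 : s = 1
      · simp [h1] at e; rw [h1]; exact (by simpa using e : t = 1).symm
      · simp [h1] at e; exact htwo s t h1 (by simpa using e)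
  rw [hS, Nat.card_eq_fintype_card, Fintype.card_bool] at hle
  have he1 : e ≤ 1 := by
    by_contra he2
    have := Nat.pow_le_pow_right two_pos (show 2 ≤ e by omega)
    omega
  rw [hm, he, show 18 = 9 * 2 ^ 1 from rfl]
  exact Nat.mul_dvd_mul_left 9 (Nat.pow_dvd_pow 2 he1)

theorem through {x : G} (hx : orderOf x = 3) : ∃ T, (T = 4 ∨ T = 16) ∧
    Nat.card {Q : Sylow 3 G // x ∈ (Q : Subgroup G)} = T ∧
    (∀ P : Sylow 3 G, Nat.card (normalizer ((P : Subgroup G) : Set G)) * T = 288) ∧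
    ∀ g : G, orderOf g = 3 → Nat.card {Q : Sylow 3 G // g ∈ (Q : Subgroup G)} = T := by
  obtain ⟨T, hT, hn, hN⟩ := H.sylow_three
  refine ⟨T, ?_, H.through_eq hT hn hx, hN, fun g hg => H.through_eq hT hn hg⟩
  rcases hT with rfl | hT
  · exfalso
    obtain ⟨P, hP⟩ := H.exists_P hx
    have h1 := H.through_eq (T := 1) (Or.inl rfl) hn hx
    rw [H.card_through hx] at h1
    have hmul := syl_mul (cz x) (H.mem_cz_of_mem hP)
    rw [h1, one_mul, inf_comm] at hmul
    have := Nat.le_of_dvd (by norm_num) (H.normalizer_inf_cz hP hx)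
    have := H.cz_three_ge hx
    omega
  · exact hT

theorem exists_two {x : G} (hx : orderOf x = 3) : ∃ w : G, orderOf w = 2 ∧ Commute x w := by
  obtain ⟨T, hT, h, -⟩ := H.through hx
  obtain ⟨P, hP⟩ := H.exists_P hx
  have hmul := syl_mul (cz x) (H.mem_cz_of_mem hP)
  rw [← H.card_through hx, h] at hmul
  have h2 : 2 ∣ Nat.card (cz x) := hmul ▸ Dvd.dvd.mul_right (by rcases hT with rfl | rfl <;> norm_num) _
  obtain ⟨u, hu⟩ := exists_prime_orderOf_dvd_card' (G := cz x) 2 h2
  exact ⟨u, by rw [Subgroup.orderOf_coe, hu], (mem_cz.1 u.2).symm⟩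

theorem conj_or_inv {x y : G} (hx : orderOf x = 3) (hy : orderOf y = 3) : IsConj x y ∨ IsConj x y⁻¹ := by
  obtain ⟨v, hv, hxv⟩ := H.exists_two hx
  obtain ⟨w, hw, hyw⟩ := H.exists_two hy
  obtain ⟨c, hc⟩ := isConj_iff.1 (H.conj_two hv hw)
  have hx' : orderOf (c * x * c⁻¹) = 3 := (MulEquiv.orderOf_eq (MulAut.conj c) x).trans hx
  have hx'w : Commute (c * x * c⁻¹) w := hc ▸ (Commute.conj_iff c).2 hxv
  let a : cz w := ⟨c * x * c⁻¹, mem_cz.2 hx'w.eq⟩
  let b : cz w := ⟨y, mem_cz.2 hyw.eq⟩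
  have hfac : (Nat.card (cz w)).factorization 3 = 1 := by
    rw [H.cz_two hw, show (384 : ℕ) = 3 ^ 1 * 128 from rfl, Nat.factorization_mul (by norm_num) (by norm_num),
      Finsupp.add_apply, Nat.prime_three.factorization_pow, Finsupp.single_eq_same,
      Nat.factorization_eq_zero_of_not_dvd (by norm_num : ¬ 3 ∣ 128)]
  let A : Sylow 3 (cz w) := Sylow.ofCard (zpowers a) (by rw [Nat.card_zpowers, Subgroup.orderOf_mk, hx', hfac, pow_one])
  let B : Sylow 3 (cz w) := Sylow.ofCard (zpowers b) (by rw [Nat.card_zpowers, Subgroup.orderOf_mk, hy, hfac, pow_one])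
  obtain ⟨g, hg⟩ := MulAction.exists_smul_eq (cz w) A B
  have hmem : g * a * g⁻¹ ∈ zpowers b := by
    rw [show zpowers b = (B : Subgroup (cz w)) from rfl, ← hg, Sylow.coe_subgroup_smul]
    exact ⟨a, mem_zpowers a, rfl⟩
  have hmem' : (g : G) * (c * x * c⁻¹) * (g : G)⁻¹ ∈ zpowers y := by
    obtain ⟨i, hi⟩ := mem_zpowers_iff.1 hmem
    exact mem_zpowers_iff.2 ⟨i, congrArg Subtype.val hi⟩
  have hne : (g : G) * (c * x * c⁻¹) * (g : G)⁻¹ ≠ 1 := by
    intro e
    rw [conj_eq_one_iff] at e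
    rw [e, orderOf_one] at hx'
    norm_num at hx'
  have hconj : IsConj x ((g : G) * (c * x * c⁻¹) * (g : G)⁻¹) :=
    (isConj_iff.2 ⟨c, rfl⟩).trans (isConj_iff.2 ⟨(g : G), rfl⟩)
  rcases eq_or_inv_of_mem_zpowers hy hmem' hne with e | e <;> rw [e] at hconj
  · exact Or.inl hconj
  · exact Or.inr hconj

/-- The number of Sylow subgroups through an element, and their normalisers. -/
theorem four : (∀ g : G, orderOf g = 3 → Nat.card {Q : Sylow 3 G // g ∈ (Q : Subgroup G)} = 4) ∧
    ∀ P : Sylow 3 G, Nat.card (normalizer ((P : Subgroup G) : Set G)) = 72 := by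
  classical
  obtain ⟨x, hx⟩ := exists_prime_orderOf_dvd_card' (G := G) 3 (by rw [H.card]; norm_num)
  obtain ⟨T, hT, -, hN, hall⟩ := H.through hx
  rcases hT with rfl | rfl
  · exact ⟨hall, fun P => by have := hN P; omega⟩
  exfalso
  obtain ⟨P, hP⟩ := H.exists_P hx
  set N := normalizer ((P : Subgroup G) : Set G)
  have hfus : ∀ q ∈ (P : Subgroup G), q ≠ 1 → ∃ n ∈ N, n * x * n⁻¹ = q ∨ n * x * n⁻¹ = q⁻¹ := by
    intro q hq hq1
    have hcent : ∀ a ∈ (P : Subgroup G), a ∈ centralizer ((P : Subgroup G) : Set G) :=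
      fun a ha => mem_centralizer_iff.2 fun b hb => H.comm_P P hb ha
    have main : ∀ r ∈ (P : Subgroup G), IsConj x r → ∃ n ∈ N, n * x * n⁻¹ = r := by
      intro r hr hc
      obtain ⟨g, rfl⟩ := isConj_iff.1 hc
      obtain ⟨n, hn, he⟩ := Sylow.conj_eq_normalizer_conj_of_mem_centralizer P x g⁻¹ (hcent x hP)
        (by rw [inv_inv]; exact hcent _ hr)
      exact ⟨n⁻¹, inv_mem hn, by rw [inv_inv] at he ⊢; exact he.symm⟩
    rcases H.conj_or_inv hx (H.orderOf_mem hq hq1) with h | h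
    · obtain ⟨n, hn, e⟩ := main q hq h; exact ⟨n, hn, Or.inl e⟩
    · obtain ⟨n, hn, e⟩ := main q⁻¹ (inv_mem hq) h; exact ⟨n, hn, Or.inr e⟩
  have hN18 : Nat.card N = 18 := by
    have : Nat.card N * 16 = 288 := hN P
    omega
  have hidx : ((N ⊓ cz x).subgroupOf N).index ≤ 2 := by
    have h := ((N ⊓ cz x).subgroupOf N).card_mul_index
    rw [Nat.card_congr (subgroupOfEquivOfLe (inf_le_left : N ⊓ cz x ≤ N)).toEquiv, hN18] at h
    have h9 : 9 ≤ Nat.card (N ⊓ cz x : Subgroup G) := H.card_P P ▸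
      Nat.le_of_dvd Nat.card_pos (card_dvd_of_le (le_inf le_normalizer (H.mem_cz_of_mem hP)))
    by_contra h3
    have := Nat.mul_le_mul h9 (show 3 ≤ ((N ⊓ cz x).subgroupOf N).index by omega)
    omega
  have hsurj : ∀ q : {q : G // q ∈ (P : Subgroup G) ∧ q ≠ 1},
      ∃ p : (N ⧸ (N ⊓ cz x).subgroupOf N) × Bool, ∀ n : N, (n : N ⧸ (N ⊓ cz x).subgroupOf N) = p.1 →
        (if p.2 then (n : G) * x * (n : G)⁻¹ = q else (n : G) * x * (n : G)⁻¹ = (q : G)⁻¹) := by
    intro q
    obtain ⟨n, hn, h⟩ := hfus q q.2.1 q.2.2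
    have hsame : ∀ m : N, (m : N ⧸ (N ⊓ cz x).subgroupOf N) = ((⟨n, hn⟩ : N) : N ⧸ (N ⊓ cz x).subgroupOf N) →
        (m : G) * x * (m : G)⁻¹ = n * x * n⁻¹ := by
      intro m hm
      rw [eq_comm, QuotientGroup.eq, mem_subgroupOf, mem_inf] at hm
      have hc := mem_cz.1 hm.2
      have hc' : n⁻¹ * (m : G) * x = x * (n⁻¹ * (m : G)) := hc
      calc (m : G) * x * (m : G)⁻¹ = n * (n⁻¹ * (m : G) * x) * (m : G)⁻¹ := by group
        _ = n * (x * (n⁻¹ * (m : G))) * (m : G)⁻¹ := by rw [hc']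
        _ = _ := by group
    rcases h with h | h
    · exact ⟨(((⟨n, hn⟩ : N) : N ⧸ (N ⊓ cz x).subgroupOf N), true), fun m hm => by simp [hsame m hm, h]⟩
    · exact ⟨(((⟨n, hn⟩ : N) : N ⧸ (N ⊓ cz x).subgroupOf N), false), fun m hm => by simp [hsame m hm, h]⟩
  choose p hp using hsurj
  have hle := Nat.card_le_card_of_injective p fun a b e => by
    obtain ⟨m, hm⟩ := QuotientGroup.mk_surjective (p a).1
    have ha := hp a m hm
    have hb := hp b m (hm.trans (congrArg Prod.fst e))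
    rw [← e] at hb
    refine Subtype.ext ?_
    cases hbool : (p a).2 <;> simp [hbool] at ha hb
    · exact inv_injective (ha.symm.trans hb)
    · exact ha.symm.trans hb
  have h8 : Nat.card {q : G // q ∈ (P : Subgroup G) ∧ q ≠ 1} = 8 := by
    have h := split_card (fun g : G => g ∈ (P : Subgroup G)) (· = 1)
    rw [show Nat.card {g : G // g ∈ (P : Subgroup G)} = 9 from H.card_P P] at h
    have h1 : Nat.card {g : G // g ∈ (P : Subgroup G) ∧ g = 1} = 1 :=
      Nat.card_eq_one_iff_unique.2 ⟨⟨fun a b => Subtype.ext (a.2.2.trans b.2.2.symm)⟩,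
        ⟨⟨1, one_mem _, rfl⟩⟩⟩
    rw [h1] at h
    simpa [add_comm 1] using h.symm
  rw [h8, Nat.card_prod, ← index_eq_card, Nat.card_eq_fintype_card (α := Bool), Fintype.card_bool] at hle
  omega

/-- The number of involutions commuting with an element of order three. -/
theorem count_two_cz {x : G} (hx : orderOf x = 3) : Nat.card {v : G // orderOf v = 2 ∧ Commute x v} = 3 := by
  have hall : ∀ y : G, orderOf y = 3 →
      Nat.card {v : G // orderOf v = 2 ∧ Commute y v} = Nat.card {v : G // orderOf v = 2 ∧ Commute x v} := by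
    intro y hy
    have main : ∀ z : G, IsConj x z →
        Nat.card {v : G // orderOf v = 2 ∧ Commute z v} = Nat.card {v : G // orderOf v = 2 ∧ Commute x v} := by
      intro z hz
      obtain ⟨c, rfl⟩ := isConj_iff.1 hz
      refine (Nat.card_congr (conjEquiv c _ _ fun v => ?_)).symm
      rw [show orderOf (c * v * c⁻¹) = orderOf v from MulEquiv.orderOf_eq (MulAut.conj c) v]
      exact and_congr_right fun _ => (Commute.conj_iff c).symm
    rcases H.conj_or_inv hx hy with h | h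
    · exact main y h
    · rw [← main _ h]
      exact Nat.card_congr (Equiv.subtypeEquivRight fun v => and_congr_right fun _ => Commute.inv_left_iff.symm)
  obtain ⟨w, hw, -⟩ := H.exists_two hx
  have h6 := (H.sylow_cz_two hw).2
  rw [show (6 : ℕ) = 3 * 2 from rfl, cnt_mul (by norm_num) two_pos (by norm_num),
    card_pairs (fun v : G => orderOf v = 3) (fun v u => orderOf u = 2 ∧ Commute v u) hall,
    show Nat.card {g : G // orderOf g = 3} = 12320 from H.three] at h6
  omega

theorem cz_three {x : G} (hx : orderOf x = 3) : Nat.card (cz x) = 36 := by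
  classical
  obtain ⟨P, hP⟩ := H.exists_P hx
  have hmul := syl_mul (cz x) (H.mem_cz_of_mem hP)
  rw [← H.card_through hx, H.four.1 x hx, inf_comm] at hmul
  set K := normalizer ((P : Subgroup G) : Set G) ⊓ cz x with hK
  obtain ⟨m, hm⟩ : 9 ∣ Nat.card K := H.card_P P ▸ card_dvd_of_le (le_inf le_normalizer (H.mem_cz_of_mem hP))
  have h18 := H.normalizer_inf_cz hP hx
  rcases (Nat.dvd_prime Nat.prime_two).1
    (Nat.dvd_of_mul_dvd_mul_left (by norm_num : 0 < 9) (show 9 * m ∣ 9 * 2 from hm ▸ h18)) with rfl | rfl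
  · omega
  exfalso
  obtain ⟨u, hu⟩ := exists_prime_orderOf_dvd_card' (G := K) 2 (by rw [hm]; norm_num)
  obtain ⟨t, htu⟩ : ∃ t : G, t = u.1 := ⟨_, rfl⟩
  have ht : orderOf t = 2 := by rw [htu, Subgroup.orderOf_coe, hu]
  obtain ⟨htN, htx⟩ := mem_inf.1 (htu ▸ u.2 : t ∈ K)
  have htx' : Commute t x := mem_cz.1 htx
  obtain ⟨y, hyP, hy⟩ := H.exists_out (P := P) hx
  have hx1 : x ≠ 1 := fun e => by simp [e] at hx
  have hy3 := H.cube hyP
  have hnoty : ¬ Commute y t := fun h => H.not_le_cz_two P ht fun a ha => by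
    rcases H.mem_P hP hx1 hyP hy ha with h' | ⟨d, h', rfl⟩ | ⟨d, h', rfl⟩
    all_goals obtain ⟨j, rfl⟩ := mem_zpowers_iff.1 h'
    · exact mem_cz.2 ((htx'.symm.zpow_left j).eq)
    · exact mem_cz.2 (((htx'.symm.zpow_left j).mul_left h).eq)
    · exact mem_cz.2 (((htx'.symm.zpow_left j).mul_left (h.mul_left h)).eq)
  have hnn : ∀ q : G, q ∈ normalizer ((P : Subgroup G) : Set G) → q * x * q⁻¹ = x →
      orderOf (q * t * q⁻¹) = 2 ∧ Commute x (q * t * q⁻¹) ∧ q * t * q⁻¹ ∈ normalizer ((P : Subgroup G) : Set G) := by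
    intro q hq hqx
    exact ⟨(MulEquiv.orderOf_eq (MulAut.conj q) t).trans ht,
      (show Commute (q * x * q⁻¹) (q * t * q⁻¹) from (Commute.conj_iff q).2 htx'.symm) |> fun h => by rwa [hqx] at h,
      mul_mem (mul_mem hq htN) (inv_mem hq)⟩
  have hqy : y * x * y⁻¹ = x := by rw [mul_inv_eq_iff_eq_mul]; exact H.comm_P P hyP hP
  have hqy2 : y * y * x * (y * y)⁻¹ = x := by
    rw [mul_inv_eq_iff_eq_mul]; exact H.comm_P P (mul_mem hyP hyP) hP
  have h3 := H.count_two_cz hx
  haveI := Fintype.ofFinite G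
  set S : Finset G := Finset.univ.filter fun v => orderOf v = 2 ∧ Commute x v with hS
  have hS3 : S.card = 3 := by rw [← Fintype.card_subtype, ← Nat.card_eq_fintype_card]; exact h3
  have hne1 : y * t * y⁻¹ ≠ t := fun e => hnoty (mul_inv_eq_iff_eq_mul.1 e)
  have hne2 : y * y * t * (y * y)⁻¹ ≠ t := fun e => hnoty (by
    have h := (show Commute (y * y) t from mul_inv_eq_iff_eq_mul.1 e)
    have h' := h.mul_left h
    rwa [show y * y * (y * y) = y ^ 3 * y by simp [pow_succ, mul_assoc], hy3, one_mul] at h')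
  have hne3 : y * y * t * (y * y)⁻¹ ≠ y * t * y⁻¹ := fun e => hne1 (by
    rw [show y * y * t * (y * y)⁻¹ = y * (y * t * y⁻¹) * y⁻¹ by group] at e
    exact mul_left_cancel (mul_right_cancel e))
  have hsub : ({t, y * t * y⁻¹, y * y * t * (y * y)⁻¹} : Finset G) ⊆ S := by
    simp only [Finset.insert_subset_iff, Finset.singleton_subset_iff, hS, Finset.mem_filter, Finset.mem_univ,
      true_and]
    exact ⟨⟨ht, htx'.symm⟩, ⟨(hnn y (le_normalizer hyP) hqy).1, (hnn y (le_normalizer hyP) hqy).2.1⟩,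
      (hnn _ (le_normalizer (mul_mem hyP hyP)) hqy2).1, (hnn _ (le_normalizer (mul_mem hyP hyP)) hqy2).2.1⟩
  have hSeq : ({t, y * t * y⁻¹, y * y * t * (y * y)⁻¹} : Finset G) = S :=
    Finset.eq_of_subset_of_card_le hsub (by
      rw [hS3, Finset.card_insert_of_notMem, Finset.card_pair hne3.symm]
      simp only [Finset.mem_insert, Finset.mem_singleton, not_or]
      exact ⟨hne1.symm, hne2.symm⟩)
  have hnorm : ∀ c ∈ cz x, c * t * c⁻¹ ∈ normalizer ((P : Subgroup G) : Set G) := by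
    intro c hc
    have hcx : c * x * c⁻¹ = x := by rw [mul_inv_eq_iff_eq_mul]; exact mem_cz.1 hc
    have hmem : c * t * c⁻¹ ∈ S := by
      simp only [hS, Finset.mem_filter, Finset.mem_univ, true_and]
      exact ⟨(MulEquiv.orderOf_eq (MulAut.conj c) t).trans ht, hcx ▸ (Commute.conj_iff c).2 htx'.symm⟩
    rw [← hSeq] at hmem
    simp only [Finset.mem_insert, Finset.mem_singleton] at hmem
    rcases hmem with e | e | e <;> rw [e]
    · exact htN
    · exact (hnn y (le_normalizer hyP) hqy).2.2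
    · exact (hnn _ (le_normalizer (mul_mem hyP hyP)) hqy2).2.2
  have hfixall : ∀ Q : Sylow 3 G, x ∈ (Q : Subgroup G) → t • Q = Q := by
    intro Q hQ
    obtain ⟨c, hc, rfl⟩ := exists_conj_mem (cz x) (H.mem_cz_of_mem hP) (H.mem_cz_of_mem hQ)
    have h := Sylow.smul_eq_iff_mem_normalizer.2 (hnorm c⁻¹ (inv_mem hc))
    rw [inv_inv, mul_smul, mul_smul, inv_smul_eq_iff] at h
    exact h
  set d := t * y * t⁻¹ * y⁻¹ with hd
  have hdP : d ∈ (P : Subgroup G) := mul_mem ((mem_normalizer_iff.1 htN y).1 hyP) (inv_mem hyP)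
  have hyinv : y⁻¹ * x * y⁻¹⁻¹ = x := by rw [mul_inv_eq_iff_eq_mul]; exact H.comm_P P (inv_mem hyP) hP
  haveI := Fintype.ofFinite (Sylow 3 G)
  obtain ⟨Q, hQ, hne⟩ : ∃ Q : Sylow 3 G, x ∈ (Q : Subgroup G) ∧ Q ≠ P := by
    by_contra hcon
    push Not at hcon
    have := Nat.card_eq_one_iff_unique.2 (⟨⟨fun a b => Subtype.ext ((hcon _ a.2).trans (hcon _ b.2).symm)⟩,
      ⟨⟨P, hP⟩⟩⟩ : Subsingleton {Q : Sylow 3 G // x ∈ (Q : Subgroup G)} ∧ Nonempty {Q : Sylow 3 G // x ∈ (Q : Subgroup G)})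
    rw [H.four.1 x hx] at this
    norm_num at this
  have hdQ : d • Q = Q := by
    have h1 : t⁻¹ • (y⁻¹ • Q) = y⁻¹ • Q := by
      rw [inv_smul_eq_iff]
      refine (hfixall _ ?_).symm
      rw [Sylow.coe_subgroup_smul]
      exact ⟨x, hQ, hyinv⟩
    rw [hd, show t * y * t⁻¹ * y⁻¹ = t * (y * (t⁻¹ * y⁻¹)) by simp [mul_assoc], mul_smul, mul_smul, mul_smul,
      h1, smul_inv_smul]
    exact hfixall Q hQ
  have hdx : d ∈ zpowers x := by
    rw [← H.inf_eq hne.symm hx hP hQ]
    exact mem_inf.2 ⟨hdP, CfsgLib.SmallSimple.mem_sylow_of_smul_eq (n := 1) (by rw [pow_one]; exact H.cube hdP) Q hdQ⟩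
  obtain ⟨i, hi⟩ := mem_zpowers_iff.1 hdx
  refine hnoty (show Commute t y from commute_of_coset (d := d) (k := 1) ?_ ?_ (H.cube hdP) ?_).symm
  · rw [pow_one, sq, sq_of_two ht]
  · rw [← hi]; exact (htx'.zpow_right i).eq
  · rw [hd]; group

/-- All elements of order three are conjugate. -/
theorem conj_three {x y : G} (hx : orderOf x = 3) (hy : orderOf y = 3) : IsConj x y := by
  have hm := (cz x).card_mul_index
  rw [H.card, H.cz_three hx] at hm
  let f : {z : G // IsConj x z} → {g : G // orderOf g = 3} := fun z => ⟨z.1, (orderOf_eq_of_isConj z.2).trans hx⟩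
  have hf : Function.Bijective f := by
    refine (Nat.bijective_iff_injective_and_card f).2 ⟨fun a b e => Subtype.ext (congrArg (fun t : {g // orderOf g = 3} => t.1) e), ?_⟩
    rw [card_conj, show Nat.card {g : G // orderOf g = 3} = 12320 from H.three]
    omega
  obtain ⟨z, hz⟩ := hf.2 ⟨y, hy⟩
  have e : z.1 = y := congrArg Subtype.val hz
  exact e ▸ z.2

end Counts

end CfsgLib.M22Id
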