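import Cfsg.Agent.M22Id.Counts

/-!
# Small tools: orbits, Sylow subgroups inside a subgroup, coprime action on a group of order nine
-/

set_option autoImplicit false
set_option linter.style.haveILetI false
set_option linter.unusedSectionVars false

namespace CfsgLib.M22Id

open Subgroup CfsgLib.M11Nse CfsgLib.M12Nse
open scoped Pointwise

variable {G : Type*} [Group G]

/-- An invariant set whose orbit sizes are multiples of `d` has such a size. -/
theorem dvd_card_of_orbit {H α : Type*} [Group H] [MulAction H α] [Finite α] {p : α → Prop}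
    (hp : ∀ (h : H) (a : α), p a → p (h • a)) {d : ℕ}
    (hd : ∀ a, p a → d ∣ Nat.card (MulAction.orbit H a)) : d ∣ Nat.card {a // p a} := by
  classical
  haveI := Fintype.ofFinite α
  haveI := Fintype.ofFinite (MulAction.orbitRel.Quotient H α)
  rw [Nat.card_eq_fintype_card, Fintype.card_subtype,
    Finset.card_eq_sum_card_fiberwise (f := (Quotient.mk'' : α → MulAction.orbitRel.Quotient H α))
      (t := Finset.univ) fun _ _ => Finset.mem_univ _]
  refine Finset.dvd_sum fun c _ => ?_
  by_cases hc : ∃ a, p a ∧ Quotient.mk'' a = c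
  · obtain ⟨a, ha, rfl⟩ := hc
    refine (hd a ha).trans (dvd_of_eq ?_)
    rw [Finset.filter_filter, ← Fintype.card_subtype, ← Nat.card_eq_fintype_card]
    refine Nat.card_congr (Equiv.subtypeEquivRight fun b => ?_)
    rw [Quotient.eq'', MulAction.orbitRel_apply]
    exact ⟨fun hb => ⟨by obtain ⟨h, rfl⟩ := hb; exact hp h a ha, hb⟩, fun hb => hb.2⟩
  · push Not at hc
    rw [Finset.card_eq_zero.2]
    · exact dvd_zero d
    · rw [Finset.filter_eq_empty_iff]
      intro x hx
      exact hc x (Finset.mem_filter.1 hx).2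

/-- An element of two-power order normalising a coset of an exponent three subgroup fixes the point. -/
theorem commute_of_coset {c y d : G} {k : ℕ} (hc : c ^ 2 ^ k = 1) (hd : c * d = d * c) (hd3 : d ^ 3 = 1)
    (h : c * y * c⁻¹ = d * y) : c * y = y * c := by
  have hn : ∀ n : ℕ, c ^ n * y * (c ^ n)⁻¹ = d ^ n * y := by
    intro n
    induction n with
    | zero => simp
    | succ n ih =>
      calc c ^ (n + 1) * y * (c ^ (n + 1))⁻¹ = c * (c ^ n * y * (c ^ n)⁻¹) * c⁻¹ := by
            rw [pow_succ']; group
        _ = c * d ^ n * y * c⁻¹ := by rw [ih]; group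
        _ = d ^ n * (c * y * c⁻¹) := by
            rw [((show Commute c d from hd).pow_right n).eq]; group
        _ = d ^ (n + 1) * y := by rw [h, pow_succ, mul_assoc]
  have h2 : d ^ 2 ^ k = 1 := by
    have := hn (2 ^ k)
    rw [hc, one_mul, inv_one, mul_one] at this
    exact mul_eq_right.1 this.symm
  have hd1 : d = 1 := orderOf_eq_one_iff.1 (Nat.dvd_one.1 (Nat.dvd_gcd (orderOf_dvd_of_pow_eq_one hd3)
    (orderOf_dvd_of_pow_eq_one h2) |>.trans (dvd_of_eq ((Nat.Coprime.pow_right k (by norm_num))))))
  rw [hd1, one_mul, mul_inv_eq_iff_eq_mul] at h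
  exact h

/-- Splitting a count. -/
theorem split_card {α : Type*} [Finite α] (P Q : α → Prop) :
    Nat.card {a // P a} = Nat.card {a // P a ∧ Q a} + Nat.card {a // P a ∧ ¬ Q a} := by
  classical
  haveI := Fintype.ofFinite α
  rw [Nat.card_eq_fintype_card, Nat.card_eq_fintype_card, Nat.card_eq_fintype_card, Fintype.card_subtype,
    Fintype.card_subtype, Fintype.card_subtype,
    ← Finset.card_filter_add_card_filter_not (s := Finset.univ.filter fun a => P a) Q,
    Finset.filter_filter, Finset.filter_filter]

variable [Finite G]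

/-- The Sylow subgroups lying in a subgroup. -/
def Syl (p : ℕ) (H : Subgroup G) : Type _ := {P : Sylow p G // (P : Subgroup G) ≤ H}

instance {p : ℕ} (H : Subgroup G) : Finite (Syl p H) := Subtype.finite

section
variable {p : ℕ} [hp : Fact p.Prime]

theorem card_syl (H : Subgroup G) (hH : p ^ (Nat.card G).factorization p ∣ Nat.card H) :
    Nat.card (Syl p H) = Nat.card (Sylow p H) := by
  have hfac : (Nat.card H).factorization p = (Nat.card G).factorization p := le_antisymm
    ((Nat.factorization_le_iff_dvd Nat.card_pos.ne' Nat.card_pos.ne').2 (card_subgroup_dvd_card H) p)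
    ((hp.out.pow_dvd_iff_le_factorization Nat.card_pos.ne').1 hH)
  refine Nat.card_congr
    { toFun := fun P => P.1.subtype P.2
      invFun := fun Q => ⟨Sylow.ofCard ((Q : Subgroup H).map H.subtype) (by
        rw [card_map_of_injective H.subtype_injective, Q.card_eq_multiplicity, hfac]), map_subtype_le _⟩
      left_inv := fun P => Subtype.ext (Sylow.ext (map_subgroupOf_eq_of_le P.2))
      right_inv := fun Q => Sylow.ext (comap_map_eq_self_of_injective H.subtype_injective _) }

theorem syl_mod (H : Subgroup G) (hH : p ^ (Nat.card G).factorization p ∣ Nat.card H) :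
    Nat.card (Syl p H) % p = 1 := by
  have := card_sylow_modEq_one p H
  rw [Nat.ModEq, Nat.mod_eq_of_lt hp.out.one_lt] at this
  rw [card_syl H hH, this]

/-- Orbit and stabiliser for the Sylow subgroups in a subgroup. -/
theorem syl_mul (H : Subgroup G) {P : Sylow p G} (hP : (P : Subgroup G) ≤ H) :
    Nat.card (Syl p H) * Nat.card (H ⊓ normalizer ((P : Subgroup G) : Set G) : Subgroup G) = Nat.card H := by
  rw [card_syl H (P.card_eq_multiplicity ▸ card_dvd_of_le hP)]
  have h := CfsgLib.SmallSimple.card_sylow_mul (P.subtype hP)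
  rw [Sylow.coe_subtype, ← subgroupOf_normalizer_eq hP, ← inf_subgroupOf_left] at h
  rwa [Nat.card_congr (subgroupOfEquivOfLe inf_le_left).toEquiv] at h

theorem exists_conj_mem (H : Subgroup G) {P Q : Sylow p G} (hP : (P : Subgroup G) ≤ H)
    (hQ : (Q : Subgroup G) ≤ H) : ∃ h ∈ H, h • P = Q := by
  obtain ⟨h, hh⟩ := MulAction.exists_smul_eq H (P.subtype hP) (Q.subtype hQ)
  rw [Sylow.smul_subtype] at hh
  exact ⟨h, h.2, Sylow.subtype_injective hh⟩

/-- The fixed cosets of a Sylow subgroup. -/
theorem fixed_cosets (N : Subgroup G) (P : Sylow p G) (hP : (P : Subgroup G) ≤ N) :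
    Nat.card {a : G ⧸ N // ∀ g ∈ (P : Subgroup G), g • a = a} *
      Nat.card (N ⊓ normalizer ((P : Subgroup G) : Set G) : Subgroup G) =
        Nat.card (normalizer ((P : Subgroup G) : Set G)) ∧
      Nat.card {a : G ⧸ N // ∀ g ∈ (P : Subgroup G), g • a = a} % p = N.index % p := by
  constructor
  · set M := normalizer ((P : Subgroup G) : Set G)
    have hset : ∀ a : G ⧸ N, (∀ g ∈ (P : Subgroup G), g • a = a) ↔
        a ∈ MulAction.orbit M ((1 : G) : G ⧸ N) := by
      intro a
      induction a using QuotientGroup.induction_on with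
      | H c =>
        constructor
        · intro h
          have hc : ((c⁻¹ • P : Sylow p G) : Subgroup G) ≤ N := by
            rw [Sylow.coe_subgroup_smul]
            rintro _ ⟨g, hg, rfl⟩
            have := h g hg
            rw [MulAction.Quotient.smul_coe, smul_eq_mul, QuotientGroup.eq] at this
            simpa [MulAut.smul_def, mul_assoc] using N.inv_mem this
          obtain ⟨n, hn, he⟩ := exists_conj_mem N hP hc
          have hm : c * n ∈ M := Sylow.smul_eq_iff_mem_normalizer.1 (by
            rw [mul_smul, he, smul_inv_smul])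
          refine ⟨⟨c * n, hm⟩, ?_⟩
          show (c * n) • ((1 : G) : G ⧸ N) = c
          rw [MulAction.Quotient.smul_coe, smul_eq_mul, mul_one, QuotientGroup.eq]
          simpa [mul_assoc] using N.inv_mem hn
        · rintro ⟨⟨m, hm⟩, hmc⟩ g hg
          rw [← hmc]
          show g • m • ((1 : G) : G ⧸ N) = m • ((1 : G) : G ⧸ N)
          have hg' : m⁻¹ * g * m ∈ N := hP (by
            have := (mem_normalizer_iff.1 (inv_mem hm) g).1 hg
            rwa [inv_inv] at this)
          rw [smul_smul, MulAction.Quotient.smul_coe, MulAction.Quotient.smul_coe, smul_eq_mul, smul_eq_mul,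
            mul_one, mul_one, QuotientGroup.eq]
          simpa [mul_assoc] using N.inv_mem hg'
    rw [Nat.card_congr (Equiv.subtypeEquivRight hset)]
    have hstab : MulAction.stabilizer M ((1 : G) : G ⧸ N) = (N ⊓ M).subgroupOf M := by
      ext m
      rw [MulAction.mem_stabilizer_iff, inf_subgroupOf_right, mem_subgroupOf]
      show (m : G) • ((1 : G) : G ⧸ N) = _ ↔ _
      rw [MulAction.Quotient.smul_coe, smul_eq_mul, mul_one, QuotientGroup.eq, mul_one, inv_mem_iff]
    rw [← Nat.card_congr (subgroupOfEquivOfLe (inf_le_right : N ⊓ M ≤ M)).toEquiv, ← hstab,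
      ← Nat.card_prod]
    exact Nat.card_congr (MulAction.orbitProdStabilizerEquivGroup M _)
  · have h := P.2.card_modEq_card_fixedPoints (G ⧸ N)
    rw [← index_eq_card] at h
    rw [h]
    refine congrArg (· % p) (Nat.card_congr (Equiv.subtypeEquivRight fun a => ?_))
    exact ⟨fun h g => h g.1 g.2, fun h g hg => h ⟨g, hg⟩⟩

end

end CfsgLib.M22Id
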